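/-
Characters of a group with a commutative self-centralising TI subgroup `T` whose automiser is cyclic
of order `e`: generalised characters induced from differences of linear characters.
-/
import Cfsg.Agent.Lib.CharTheory
import Cfsg.Agent.Lib.CharTheory.Linear

set_option autoImplicit false
set_option linter.unusedSectionVars false
set_option linter.style.haveILetI false

namespace CfsgLib.SingerFive

open Cfsg CfsgLib.CharTheory
open scoped ComplexConjugate

universe u

variable {G : Type u} [Group G]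

/-- `T` is commutative, contains the centraliser of each of its non-trivial elements, and its
normaliser is the union of the first `e` cosets of powers of `w`. -/
structure CCData (T : Subgroup G) (w : G) (e : ℕ) : Prop where
  comm : ∀ a ∈ T, ∀ b ∈ T, a * b = b * a
  cc : ∀ a ∈ T, a ≠ 1 → ∀ x : G, x * a = a * x → x ∈ T
  conj_mem : ∀ a ∈ T, w * a * w⁻¹ ∈ T
  fus : ∀ g : G, ∀ a ∈ T, a ≠ 1 → g * a * g⁻¹ ∈ T → ∃ i < e, ∃ s ∈ T, g = s * w ^ i
  out : ∀ i, 0 < i → i < e → w ^ i ∉ T
  big : e * (e + 3) + 1 ≤ Nat.card T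
  pos : 2 ≤ e

variable {T : Subgroup G} {w : G} {e : ℕ}

theorem CCData.pow_conj_mem (D : CCData T w e) (i : ℕ) : ∀ a ∈ T, w ^ i * a * (w ^ i)⁻¹ ∈ T := by
  induction i with
  | zero => intro a ha; simpa using ha
  | succ i ih =>
    intro a ha
    have := D.conj_mem _ (ih a ha)
    simpa [pow_succ', mul_assoc] using this

/-- The action of the powers of `w` on `T`. -/
def CCData.act (D : CCData T w e) (i : ℕ) : T →* T where
  toFun t := ⟨w ^ i * t * (w ^ i)⁻¹, D.pow_conj_mem i t t.2⟩
  map_one' := Subtype.ext (by simp)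
  map_mul' a b := Subtype.ext (by simp [mul_assoc])

theorem CCData.act_apply (D : CCData T w e) (i : ℕ) (t : T) :
    (D.act i t : G) = w ^ i * t * (w ^ i)⁻¹ := rfl

theorem CCData.act_add (D : CCData T w e) (i j : ℕ) (t : T) :
    D.act (i + j) t = D.act i (D.act j t) :=
  Subtype.ext (by simp [CCData.act, pow_add, mul_assoc])

theorem CCData.act_injective (D : CCData T w e) (i : ℕ) : Function.Injective (D.act i) := fun a b h => by
  have h' : w ^ i * (a : G) * (w ^ i)⁻¹ = w ^ i * b * (w ^ i)⁻¹ := congrArg Subtype.val h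
  exact Subtype.ext (mul_left_cancel (mul_right_cancel h'))

theorem CCData.act_surjective [Finite G] (D : CCData T w e) (i : ℕ) : Function.Surjective (D.act i) :=
  Finite.injective_iff_surjective.mp (D.act_injective i)

/-- The linear characters of `T`. -/
abbrev Lam (T : Subgroup G) : Type u := IrrCharacter T

noncomputable instance lamDecEq (T : Subgroup G) : DecidableEq (Lam T) := Classical.decEq _

/-- The trivial character of `T`. -/
noncomputable def triv (T : Subgroup G) : Lam T := ⟨fun _ => 1, isIrrCharacter_one⟩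

theorem CCData.lam_one [Finite G] (D : CCData T w e) (l : Lam T) : (l : T → ℂ) 1 = 1 :=
  degree_one_of_commutative (fun a b => Subtype.ext (D.comm a a.2 b b.2)) l.2

theorem CCData.lam_hom [Finite G] (D : CCData T w e) (l : Lam T) :
    ∃ φ : T →* ℂˣ, (l : T → ℂ) = fun t => (φ t : ℂ) :=
  exists_hom_of_degree_one (isCharacter_of_irr l.2) (D.lam_one l)

/-- The twist of a linear character by a power of `w`. -/
noncomputable def CCData.tw [Finite G] (D : CCData T w e) (i : ℕ) (l : Lam T) : Lam T :=
  ⟨fun t => (l : T → ℂ) (D.act i t), isIrrCharacter_comp_surjective l.2 _ (D.act_surjective i)⟩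

theorem CCData.tw_apply [Finite G] (D : CCData T w e) (i : ℕ) (l : Lam T) (t : T) :
    (D.tw i l : T → ℂ) t = (l : T → ℂ) (D.act i t) := rfl

theorem CCData.tw_triv [Finite G] (D : CCData T w e) (i : ℕ) : D.tw i (triv T) = triv T := rfl

theorem CCData.tw_zero [Finite G] (D : CCData T w e) (l : Lam T) : D.tw 0 l = l := by
  apply Subtype.ext
  funext t
  rw [D.tw_apply]
  exact congrArg _ (Subtype.ext (by simp [D.act_apply]))

theorem CCData.tw_injective [Finite G] (D : CCData T w e) (i : ℕ) : Function.Injective (D.tw i) :=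
  fun a b h => by
  apply Subtype.ext
  funext t
  obtain ⟨s, rfl⟩ := D.act_surjective i t
  exact congrFun (congrArg Subtype.val h) s

/-- A non-trivial linear character is not fixed by a proper power of `w`. -/
theorem CCData.tw_ne [Finite G] (D : CCData T w e) {k : ℕ} (hk : 0 < k) (hke : k < e) {l : Lam T}
    (hl : l ≠ triv T) : D.tw k l ≠ l := by
  intro h
  obtain ⟨φ, hφ⟩ := D.lam_hom l
  let f : T → T := fun t => t⁻¹ * D.act k t
  have hinj : Function.Injective f := by
    intro a b hab
    have hab' : a⁻¹ * D.act k a = b⁻¹ * D.act k b := hab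
    have h1 : D.act k (a * b⁻¹) = a * b⁻¹ := by
      have h2 : D.act k a = a * b⁻¹ * D.act k b := by rw [mul_assoc, ← hab', mul_inv_cancel_left]
      rw [map_mul, map_inv, h2, mul_inv_cancel_right]
    by_contra hne
    have hne1 : ((a * b⁻¹ : T) : G) ≠ 1 := fun h2 => hne (mul_inv_eq_one.mp (Subtype.ext h2))
    refine D.out k hk hke (D.cc _ (a * b⁻¹).2 hne1 _ ?_)
    have h3 := congrArg Subtype.val h1
    rw [D.act_apply] at h3
    exact mul_inv_eq_iff_eq_mul.mp h3
  apply hl
  apply Subtype.ext
  funext t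
  obtain ⟨s, rfl⟩ := (Finite.injective_iff_surjective.mp hinj) t
  show (l : T → ℂ) (s⁻¹ * D.act k s) = 1
  have h1 : (φ (D.act k s) : ℂ) = (φ s : ℂ) := by
    have := congrFun (congrArg Subtype.val h) s
    rw [D.tw_apply, hφ] at this
    exact this
  rw [hφ]
  simp [h1]

theorem CCData.tw_tw [Finite G] (D : CCData T w e) (i j : ℕ) (l : Lam T) :
    D.tw i (D.tw j l) = D.tw (j + i) l := by
  apply Subtype.ext
  funext t
  simp [D.tw_apply, D.act_add]

theorem CCData.tw_inj_index [Finite G] (D : CCData T w e) {l : Lam T} (hl : l ≠ triv T) {i j : ℕ}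
    (hi : i < e) (hj : j < e) (h : D.tw i l = D.tw j l) : i = j := by
  by_contra hne
  wlog hij : i < j generalizing i j
  · exact this hj hi h.symm (Ne.symm hne) (by omega)
  have h' : D.tw i (D.tw (j - i) l) = D.tw i l := by
    rw [D.tw_tw, Nat.sub_add_cancel hij.le, h]
  exact D.tw_ne (by omega) (by omega) hl (D.tw_injective i h')

/-- `l` and `l'` lie in the same orbit. -/
def CCData.Rel [Finite G] (D : CCData T w e) (l l' : Lam T) : Prop := ∃ i < e, D.tw i l = l'

theorem CCData.rel_refl [Finite G] (D : CCData T w e) (l : Lam T) : D.Rel l l :=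
  ⟨0, by have := D.pos; omega, D.tw_zero l⟩

theorem CCData.rel_ne_triv [Finite G] (D : CCData T w e) {l l' : Lam T} (h : D.Rel l l')
    (hl : l ≠ triv T) : l' ≠ triv T := by
  obtain ⟨i, -, rfl⟩ := h
  intro h'
  exact hl (D.tw_injective i (h'.trans (D.tw_triv i).symm))

open Classical in
theorem CCData.sum_tw_eq [Finite G] (D : CCData T w e) {l : Lam T} (hl : l ≠ triv T) (l' : Lam T) :
    ∑ i ∈ Finset.range e, (if D.tw i l = l' then 1 else 0 : ℂ) = if D.Rel l l' then 1 else 0 := by
  by_cases h : D.Rel l l'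
  · obtain ⟨i, hi, hl'⟩ := h
    rw [if_pos ⟨i, hi, hl'⟩, Finset.sum_eq_single i]
    · rw [if_pos hl']
    · intro j hj hne
      rw [if_neg fun h => hne (D.tw_inj_index hl (Finset.mem_range.mp hj) hi (h.trans hl'.symm))]
    · exact fun h => absurd (Finset.mem_range.mpr hi) h
  · rw [if_neg h]
    exact Finset.sum_eq_zero fun i hi => if_neg fun hh => h ⟨i, Finset.mem_range.mp hi, hh⟩

open Classical in
theorem CCData.sum_tw_triv [Finite G] (D : CCData T w e) (l' : Lam T) :
    ∑ i ∈ Finset.range e, (if D.tw i (triv T) = l' then 1 else 0 : ℂ) =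
      if l' = triv T then (e : ℂ) else 0 := by
  by_cases h : l' = triv T
  · simp [D.tw_triv, h]
  · simp [D.tw_triv, Ne.symm h, h]

variable [Fintype G]

/-- The value on `T` of a function induced from `T` that vanishes at one. -/
theorem CCData.indFun_apply (D : CCData T w e) (a : T → ℂ) (ha : a 1 = 0) (t : T) :
    indFun T a (t : G) = ∑ i ∈ Finset.range e, a (D.act i t) := by
  classical
  by_cases ht : t = 1
  · subst ht
    simp [indFun_apply_one, ha]
  have ht' : (t : G) ≠ 1 := fun h => ht (Subtype.ext h)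
  have : Fintype T := Fintype.ofFinite T
  let emb : T × Fin e → G := fun p => ((p.1 : G) * w ^ (p.2 : ℕ))⁻¹
  have hemb : Function.Injective emb := by
    intro p p' h
    have h1 : (p.1 : G) * w ^ (p.2 : ℕ) = p'.1 * w ^ (p'.2 : ℕ) := inv_injective h
    have key : ∀ (s s' : T) (i j : ℕ), i < j → j < e → (s : G) * w ^ i ≠ s' * w ^ j := by
      intro s s' i j hij hje hh
      refine D.out (j - i) (by omega) (by omega) ?_
      have hw : w ^ j = w ^ (j - i) * w ^ i := by rw [← pow_add, Nat.sub_add_cancel hij.le]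
      rw [hw, ← mul_assoc] at hh
      have : (s : G) = s' * w ^ (j - i) := mul_right_cancel hh
      rw [show w ^ (j - i) = (s' : G)⁻¹ * s by rw [this, inv_mul_cancel_left]]
      exact T.mul_mem (T.inv_mem s'.2) s.2
    have hij : (p.2 : ℕ) = p'.2 := by
      by_contra hne
      rcases Nat.lt_or_ge (p.2 : ℕ) p'.2 with hlt | hge
      · exact key _ _ _ _ hlt p'.2.2 h1
      · exact key _ _ _ _ (by omega) p.2.2 h1.symm
    refine Prod.ext (Subtype.ext ?_) (Fin.ext hij)
    rw [hij] at h1
    exact mul_right_cancel h1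
  have hval : ∀ p : T × Fin e,
      extendByZero T a ((emb p)⁻¹ * t * emb p) = a (D.act p.2 t) := by
    intro p
    have h1 : (emb p)⁻¹ * t * emb p = (D.act p.2 t : G) := by
      have hc := D.comm p.1 p.1.2 _ (D.act p.2 t).2
      simp only [emb, inv_inv, mul_inv_rev, D.act_apply] at hc ⊢
      calc (p.1 : G) * w ^ (p.2 : ℕ) * t * ((w ^ (p.2 : ℕ))⁻¹ * (p.1 : G)⁻¹)
          = (p.1 : G) * (w ^ (p.2 : ℕ) * t * (w ^ (p.2 : ℕ))⁻¹) * (p.1 : G)⁻¹ := by group
        _ = _ := by rw [hc, mul_inv_cancel_right]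
    rw [h1, extendByZero_coe]
  have hsum : ∑ x : G, extendByZero T a (x⁻¹ * t * x) = ∑ p : T × Fin e, a (D.act p.2 t) := by
    rw [← Finset.sum_congr rfl fun p _ => hval p,
      ← Finset.sum_image (f := fun x => extendByZero T a (x⁻¹ * t * x)) fun p _ p' _ h => hemb h]
    symm
    refine Finset.sum_subset (Finset.subset_univ _) fun x _ hx => ?_
    refine extendByZero_of_not_mem _ _ fun hmem => hx ?_
    obtain ⟨i, hi, s, hs, hg⟩ := D.fus x⁻¹ t t.2 ht' (by simpa using hmem)
    exact Finset.mem_image.mpr ⟨(⟨s, hs⟩, ⟨i, hi⟩), Finset.mem_univ _, by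
      show ((s : G) * w ^ i)⁻¹ = x
      rw [← hg, inv_inv]⟩
  rw [indFun, hsum, Fintype.sum_prod_type]
  simp only [Finset.sum_const, Finset.card_univ, nsmul_eq_mul]
  rw [← mul_assoc, Nat.card_eq_fintype_card, inv_mul_cancel₀ (by simp), one_mul,
    Fin.sum_univ_eq_sum_range (fun i => a (D.act i t))]

/-- The difference of two linear characters, induced to `G`. -/
noncomputable def CCData.alpha (_D : CCData T w e) (l l' : Lam T) : G → ℂ :=
  indFun T ((l : T → ℂ) - (l' : T → ℂ))

theorem CCData.isGen_alpha (D : CCData T w e) (l l' : Lam T) :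
    IsGeneralizedCharacter G (D.alpha l l') :=
  isGenChar_indFun _ ⟨_, _, isCharacter_of_irr l.2, isCharacter_of_irr l'.2, rfl⟩

theorem CCData.alpha_one (D : CCData T w e) (l l' : Lam T) : D.alpha l l' 1 = 0 := by
  simp [CCData.alpha, indFun_apply_one, D.lam_one]

theorem CCData.alpha_apply (D : CCData T w e) (l l' : Lam T) (t : T) :
    D.alpha l l' (t : G) =
      ∑ i ∈ Finset.range e, ((D.tw i l : T → ℂ) t - (D.tw i l' : T → ℂ) t) :=
  D.indFun_apply _ (by simp [D.lam_one]) t

open Classical in
theorem lam_inner [Fintype T] (a b : Lam T) :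
    classInner (a : T → ℂ) (b : T → ℂ) = if a = b then 1 else 0 := by
  rw [classInner_irr a.2 b.2]
  simp [Subtype.ext_iff]

open Classical in
theorem CCData.alpha_res_inner [Fintype T] (D : CCData T w e) (l l' η : Lam T) :
    classInner (fun t : T => D.alpha l l' t) (η : T → ℂ) =
      (∑ i ∈ Finset.range e, (if D.tw i l = η then 1 else 0 : ℂ)) -
        ∑ i ∈ Finset.range e, (if D.tw i l' = η then 1 else 0 : ℂ) := by
  have h : (fun t : T => D.alpha l l' t) =
      ∑ i ∈ Finset.range e, ((D.tw i l : T → ℂ) - (D.tw i l' : T → ℂ)) := by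
    funext t
    rw [D.alpha_apply, Finset.sum_apply]
    rfl
  rw [h, classInner_sum_left, ← Finset.sum_sub_distrib]
  exact Finset.sum_congr rfl fun i _ => by rw [classInner_sub_left, lam_inner, lam_inner]

open Classical in
theorem CCData.alpha_inner [Fintype T] (D : CCData T w e) (a b c d : Lam T) :
    classInner (D.alpha a b) (D.alpha c d) =
      (∑ i ∈ Finset.range e, (if D.tw i a = c then 1 else 0 : ℂ)) -
        (∑ i ∈ Finset.range e, (if D.tw i b = c then 1 else 0 : ℂ)) -
      ((∑ i ∈ Finset.range e, (if D.tw i a = d then 1 else 0 : ℂ)) -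
        ∑ i ∈ Finset.range e, (if D.tw i b = d then 1 else 0 : ℂ)) := by
  conv_lhs => arg 2; rw [CCData.alpha]
  rw [frobenius_reciprocity' T _ (show IsClassFunction G (D.alpha a b) from indFun_isClassFunction T _),
    classInner_sub_right,
    D.alpha_res_inner, D.alpha_res_inner]

end CfsgLib.SingerFive
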