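/-
A field of degree five over a finite field, its multiplications, automorphisms and points.
-/
import Mathlib

set_option autoImplicit false
set_option linter.unusedSectionVars false
set_option linter.style.haveILetI false

namespace CfsgLib.SingerFive

open Module

/-- The subspaces of a given dimension. -/
def Sub (F V : Type*) [Field F] [AddCommGroup V] [Module F V] (k : ℕ) : Type _ :=
  {W : Submodule F V // finrank F W = k}

section Action

variable {F V : Type*} [Field F] [AddCommGroup V] [Module F V] {k : ℕ}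

instance : MulAction (V ≃ₗ[F] V) (Sub F V k) where
  smul g W := ⟨W.1.map (g : V →ₗ[F] V), (g.finrank_map_eq W.1).trans W.2⟩
  one_smul W := Subtype.ext (Submodule.map_id W.1)
  mul_smul g h W := Subtype.ext (Submodule.map_comp (h : V →ₗ[F] V) (g : V →ₗ[F] V) W.1)

theorem sub_smul_val (g : V ≃ₗ[F] V) (W : Sub F V k) : (g • W).1 = W.1.map (g : V →ₗ[F] V) := rfl

theorem mem_sub_smul (g : V ≃ₗ[F] V) (W : Sub F V k) {x : V} (hx : x ∈ W.1) : g x ∈ (g • W).1 :=
  Submodule.mem_map_of_mem hx

instance [Finite V] : Finite (Sub F V k) :=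
  Finite.of_injective (fun W : Sub F V k => (W.1 : Set V)) fun _ _ h => Subtype.ext (SetLike.coe_injective h)

/-- The point through a non-zero vector. -/
noncomputable def pt (v : V) (hv : v ≠ 0) : Sub F V 1 := ⟨F ∙ v, finrank_span_singleton hv⟩

theorem exists_pt (P : Sub F V 1) : ∃ (v : V) (hv : v ≠ 0), P = pt v hv := by
  obtain ⟨⟨v, hvP⟩, hv, hspan⟩ := finrank_eq_one_iff'.mp P.2
  have hv0 : v ≠ 0 := fun h => hv (Subtype.ext h)
  refine ⟨v, hv0, Subtype.ext (le_antisymm (fun x hx => ?_) ?_)⟩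
  · obtain ⟨c, hc⟩ := hspan ⟨x, hx⟩
    exact Submodule.mem_span_singleton.mpr ⟨c, congrArg Subtype.val hc⟩
  · exact (Submodule.span_singleton_le_iff_mem _ _).mpr hvP

theorem smul_pt (g : V ≃ₗ[F] V) (v : V) (hv : v ≠ 0) :
    g • (pt v hv : Sub F V 1) = pt (g v) (by simpa using hv) :=
  Subtype.ext (by rw [sub_smul_val]; exact Submodule.map_span _ _ |>.trans (by simp [pt]))

theorem pt_eq_pt {v v' : V} (hv : v ≠ 0) (hv' : v' ≠ 0) (h : (pt v hv : Sub F V 1) = pt v' hv') :
    ∃ c : F, c ≠ 0 ∧ v' = c • v := by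
  have h1 : v' ∈ F ∙ v := by
    have := congrArg Subtype.val h
    simp only [pt] at this
    rw [this]
    exact Submodule.mem_span_singleton_self v'
  obtain ⟨c, rfl⟩ := Submodule.mem_span_singleton.mp h1
  exact ⟨c, fun hc => hv' (by rw [hc, zero_smul]), rfl⟩

/-- A linear equivalence fixing every point is a scalar. -/
theorem exists_scalar_of_fix [FiniteDimensional F V] (g : V ≃ₗ[F] V) (h : ∀ P : Sub F V 1, g • P = P) :
    ∃ c : F, ∀ x, g x = c • x := by
  have hline : ∀ x : V, ∃ c : F, g x = c • x := by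
    intro x
    by_cases hx : x = 0
    · exact ⟨0, by simp [hx]⟩
    · have h1 := h (pt x hx)
      rw [smul_pt] at h1
      obtain ⟨c, -, hc⟩ := pt_eq_pt hx (by simpa using hx) h1.symm
      exact ⟨c, hc⟩
  by_cases hV : ∀ x : V, x = 0
  · exact ⟨0, fun x => by rw [hV x]; simp⟩
  push Not at hV
  obtain ⟨v, hv⟩ := hV
  choose c hc using hline
  refine ⟨c v, fun x => ?_⟩
  by_cases hx : x = 0
  · simp [hx]
  by_cases hdep : ∃ a : F, x = a • v
  · obtain ⟨a, rfl⟩ := hdep
    rw [map_smul, hc v, smul_comm]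
  · have hxv := hc (x + v)
    rw [map_add, hc x, hc v, smul_add] at hxv
    have h1 : (c x - c (x + v)) • x = (c (x + v) - c v) • v := by
      rw [sub_smul, sub_smul, sub_eq_sub_iff_add_eq_add, hxv, add_comm]
    have h2 : c x - c (x + v) = 0 := by
      by_contra h2
      exact hdep ⟨(c x - c (x + v))⁻¹ * (c (x + v) - c v), by
        rw [mul_smul, ← h1, smul_smul, inv_mul_cancel₀ h2, one_smul]⟩
    rw [h2, zero_smul] at h1
    have h3 : c (x + v) - c v = 0 := (smul_eq_zero.mp h1.symm).resolve_right hv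
    rw [hc x, sub_eq_zero.mp h2, sub_eq_zero.mp h3]

end Action

variable {F L : Type*} [Field F] [Field L] [Algebra F L]

/-- Multiplication by a unit of `L`. -/
def mulE : Lˣ →* (L ≃ₗ[F] L) where
  toFun u :=
    { toFun := fun x => (u : L) * x
      map_add' := fun x y => mul_add _ x y
      map_smul' := fun c x => mul_smul_comm c _ x
      invFun := fun x => ((u⁻¹ : Lˣ) : L) * x
      left_inv := fun x => Units.inv_mul_cancel_left u x
      right_inv := fun x => Units.mul_inv_cancel_left u x }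
  map_one' := LinearEquiv.ext fun x => one_mul x
  map_mul' u v := LinearEquiv.ext fun x => mul_assoc (u : L) v x

@[simp] theorem mulE_apply (u : Lˣ) (x : L) : (mulE u : L ≃ₗ[F] L) x = (u : L) * x := rfl

/-- A field automorphism as a linear equivalence. -/
def autE : (L ≃ₐ[F] L) →* (L ≃ₗ[F] L) where
  toFun τ := τ.toLinearEquiv
  map_one' := rfl
  map_mul' _ _ := rfl

@[simp] theorem autE_apply (τ : L ≃ₐ[F] L) (x : L) : (autE τ : L ≃ₗ[F] L) x = τ x := rfl

/-- A multiplication followed by an automorphism. -/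
def IsSemi (g : L ≃ₗ[F] L) : Prop := ∃ (c : Lˣ) (τ : L ≃ₐ[F] L), g = mulE c * autE τ

variable [Finite L]

theorem finiteDim : FiniteDimensional F L := Module.Finite.of_finite

theorem det_mulE (u : Lˣ) :
    LinearMap.det ((mulE u : L ≃ₗ[F] L) : L →ₗ[F] L) = Algebra.norm F (u : L) := by
  rw [Algebra.norm_apply]
  rfl

theorem card_aut (hn : finrank F L = 5) : Nat.card (L ≃ₐ[F] L) = 5 := by
  haveI : Finite F := Finite.of_injective _ (algebraMap F L).injective
  haveI : FiniteDimensional F L := finiteDim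
  rw [IsGalois.card_aut_eq_finrank, hn]

theorem aut_eq_pow (hn : finrank F L = 5) {τ : L ≃ₐ[F] L} (hτ : τ ≠ 1) (σ : L ≃ₐ[F] L) :
    ∃ i < 5, σ = τ ^ i := by
  haveI : Finite (L ≃ₐ[F] L) := Nat.finite_of_card_ne_zero (by rw [card_aut hn]; norm_num)
  haveI : Fact (Nat.Prime 5) := ⟨by norm_num⟩
  have h5 : orderOf τ = 5 := by
    have h1 := orderOf_dvd_natCard τ
    rw [card_aut hn] at h1
    exact ((Nat.dvd_prime (by norm_num)).mp h1).resolve_left fun h => hτ (orderOf_eq_one_iff.mp h)
  obtain ⟨i, hi⟩ := (Submonoid.mem_powers_iff _ _).mp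
    ((mem_powers_iff_mem_zpowers).mpr (mem_zpowers_of_prime_card (p := 5) (g' := σ) (card_aut hn) hτ))
  exact ⟨i % 5, Nat.mod_lt _ (by norm_num), by rw [← hi, ← h5, pow_mod_orderOf]⟩

theorem exists_aut_ne_one (hn : finrank F L = 5) : ∃ τ : L ≃ₐ[F] L, τ ≠ 1 := by
  by_contra h
  push Not at h
  have h1 := card_aut (F := F) (L := L) hn
  haveI : Unique (L ≃ₐ[F] L) := ⟨⟨1⟩, h⟩
  rw [Nat.card_unique] at h1
  omega

/-- An automorphism has determinant one. -/
theorem det_autE (hn : finrank F L = 5) (τ : L ≃ₐ[F] L) :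
    LinearMap.det ((autE τ : L ≃ₗ[F] L) : L →ₗ[F] L) = 1 := by
  classical
  haveI : Finite F := Finite.of_injective _ (algebraMap F L).injective
  haveI : FiniteDimensional F L := finiteDim
  haveI : Fintype (L ≃ₐ[F] L) := Fintype.ofFinite _
  obtain ⟨x, hx⟩ := exists_linearIndependent_algEquiv_apply F L
  let b : Basis (L ≃ₐ[F] L) F L := basisOfLinearIndependentOfCardEqFinrank hx (by
    rw [← Nat.card_eq_fintype_card, card_aut hn, hn])
  have hb : ∀ σ, b σ = σ x := fun σ => congrFun (coe_basisOfLinearIndependentOfCardEqFinrank _ _) σ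
  have hM : LinearMap.toMatrix b b ((autE τ : L ≃ₗ[F] L) : L →ₗ[F] L) =
      (1 : Matrix (L ≃ₐ[F] L) (L ≃ₐ[F] L) F).submatrix (Equiv.mulLeft τ⁻¹) id := by
    ext i j
    rw [LinearMap.toMatrix_apply, hb j]
    show b.repr (τ (j x)) i = _
    rw [show τ (j x) = b (τ * j) from (hb (τ * j)).symm, b.repr_self, Finsupp.single_apply]
    simp only [Matrix.submatrix_apply, Matrix.one_apply, Equiv.coe_mulLeft, id_eq]
    exact if_congr ⟨fun h => by rw [← h, inv_mul_cancel_left], fun h => by rw [← h, mul_inv_cancel_left]⟩ rfl rfl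
  have hdet : LinearMap.det ((autE τ : L ≃ₗ[F] L) : L →ₗ[F] L) =
      ((Equiv.Perm.sign (Equiv.mulLeft τ⁻¹) : ℤˣ) : ℤ) := by
    rw [← LinearMap.det_toMatrix b, hM, Matrix.det_permute, Matrix.det_one, mul_one]
  rw [hdet]
  have hsign : Equiv.Perm.sign (Equiv.mulLeft τ⁻¹) = 1 := by
    have h1 : (MulAction.toPermHom (L ≃ₐ[F] L) (L ≃ₐ[F] L)) τ⁻¹ = Equiv.mulLeft τ⁻¹ :=
      Equiv.ext fun σ => rfl
    have h2 : (τ⁻¹) ^ 5 = 1 := by rw [← card_aut (F := F) (L := L) hn, pow_card_eq_one']
    have h3 : Equiv.Perm.sign (Equiv.mulLeft τ⁻¹) ^ 5 = 1 := by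
      rw [← h1, ← map_pow, ← map_pow, h2, map_one, map_one]
    rcases Int.units_eq_one_or (Equiv.Perm.sign (Equiv.mulLeft τ⁻¹)) with h4 | h4
    · exact h4
    · rw [h4] at h3; exact absurd h3 (by decide)
  rw [hsign]
  simp

/-- A map intertwining two multiplications, one by an element outside `F`, is semilinear. -/
theorem semi_of_intertwine (hn : finrank F L = 5) (g : L ≃ₗ[F] L) {u u' : L}
    (hu : u ∉ Set.range (algebraMap F L)) (h : ∀ x, g (u * x) = u' * g x) : IsSemi g := by
  haveI : FiniteDimensional F L := finiteDim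
  let A : Subalgebra F L :=
    { carrier := {a | ∃ a', ∀ x, g (a * x) = a' * g x}
      one_mem' := ⟨1, fun x => by simp⟩
      mul_mem' := by
        rintro a b ⟨a', ha⟩ ⟨b', hb⟩
        exact ⟨a' * b', fun x => by rw [mul_assoc, ha, hb, mul_assoc]⟩
      zero_mem' := ⟨0, fun x => by simp⟩
      add_mem' := by
        rintro a b ⟨a', ha⟩ ⟨b', hb⟩
        exact ⟨a' + b', fun x => by rw [add_mul, map_add, ha, hb, add_mul]⟩
      algebraMap_mem' := fun c => ⟨algebraMap F L c, fun x => by
        rw [← Algebra.smul_def, map_smul, Algebra.smul_def]⟩ }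
  have hA : A = ⊤ := by
    refine ((Subalgebra.isSimpleOrder_of_finrank_prime F L
      (by rw [hn]; norm_num)).eq_bot_or_eq_top A).resolve_left fun hbot => hu ?_
    have hm : u ∈ A := ⟨u', h⟩
    rw [hbot, Algebra.mem_bot] at hm
    exact hm
  have key : ∀ a x, g (a * x) * g 1 = g a * g x := fun a x => by
    obtain ⟨a', ha⟩ : a ∈ A := hA ▸ Algebra.mem_top
    have h1 := ha 1
    rw [mul_one] at h1
    rw [ha, h1]
    ring
  have hg1 : g 1 ≠ 0 := by simp
  let f : L →ₐ[F] L :=
    { toFun := fun a => g a / g 1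
      map_one' := div_self hg1
      map_mul' := fun a b => by
        field_simp
        linear_combination key a b
      map_zero' := by simp
      map_add' := fun a b => by rw [map_add, add_div]
      commutes' := fun c => by
        rw [Algebra.algebraMap_eq_smul_one, map_smul, Algebra.smul_def, mul_div_assoc, div_self hg1,
          mul_one, Algebra.algebraMap_eq_smul_one] }
  refine ⟨Units.mk0 _ hg1, AlgEquiv.ofBijective f (Finite.injective_iff_bijective.mp f.injective), ?_⟩
  refine LinearEquiv.ext fun x => ?_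
  show g x = g 1 * (g x / g 1)
  rw [mul_div_cancel₀ _ hg1]

end CfsgLib.SingerFive
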