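/-
Points and lines of the projective space of `L`.
-/
import Cfsg.Agent.Lib.SingerFive.Count

set_option autoImplicit false
set_option linter.unusedSectionVars false
set_option linter.style.haveILetI false

namespace CfsgLib.SingerFive

open Module

variable {F V : Type*} [Field F] [AddCommGroup V] [Module F V] [Finite V]

theorem finrank_span_pair {v w : V} (h : LinearIndependent F ![v, w]) :
    finrank F (Submodule.span F ({v, w} : Set V)) = 2 := by
  have := finrank_span_eq_card h
  have hr : Set.range ![v, w] = {v, w} := by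
    ext x
    simp [eq_comm, or_comm]
  rw [hr] at this
  simpa using this

/-- The line through two independent vectors. -/
noncomputable def line2 {v w : V} (h : LinearIndependent F ![v, w]) : Sub F V 2 :=
  ⟨Submodule.span F ({v, w} : Set V), finrank_span_pair h⟩

theorem indep_of_ne {v w : V} (hv : v ≠ 0) (hw : w ≠ 0) (h : (pt v hv : Sub F V 1) ≠ pt w hw) :
    LinearIndependent F ![v, w] := by
  rw [LinearIndependent.pair_iff' hv]
  intro a ha
  refine h (Subtype.ext ?_)
  show F ∙ v = F ∙ w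
  rw [← ha, Submodule.span_singleton_smul_eq]
  exact (isUnit_iff_ne_zero).mpr fun h0 => hw (by rw [← ha, h0, zero_smul])

theorem pt_le_iff {v : V} (hv : v ≠ 0) {k : ℕ} (W : Sub F V k) :
    (pt v hv : Sub F V 1).1 ≤ W.1 ↔ v ∈ W.1 := Submodule.span_singleton_le_iff_mem v W.1

/-- Two points lie on exactly one line. -/
theorem existsUnique_line (P Q : Sub F V 1) (h : P ≠ Q) : ∃! W : Sub F V 2, P.1 ≤ W.1 ∧ Q.1 ≤ W.1 := by
  obtain ⟨v, hv, rfl⟩ := exists_pt P
  obtain ⟨w, hw, rfl⟩ := exists_pt Q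
  have hli := indep_of_ne hv hw h
  haveI : FiniteDimensional F V := Module.Finite.of_finite
  refine ⟨line2 hli, ⟨(pt_le_iff hv _).mpr (Submodule.subset_span (by simp)),
    (pt_le_iff hw _).mpr (Submodule.subset_span (by simp))⟩, fun W hW => Subtype.ext ?_⟩
  symm
  refine Submodule.eq_of_le_of_finrank_le (Submodule.span_le.mpr ?_) (W.2.trans (finrank_span_pair hli).symm).le
  rintro x (rfl | rfl)
  · exact (pt_le_iff hv _).mp hW.1
  · exact (pt_le_iff hw _).mp hW.2

/-- A line has two independent vectors spanning it. -/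
theorem exists_line2 (W : Sub F V 2) : ∃ (v w : V) (h : LinearIndependent F ![v, w]), W = line2 h := by
  haveI : FiniteDimensional F V := Module.Finite.of_finite
  let b := Module.finBasisOfFinrankEq F W.1 W.2
  have hli : LinearIndependent F ![(b 0 : V), (b 1 : V)] := by
    have h0 := b.linearIndependent.map' W.1.subtype (Submodule.ker_subtype _)
    refine (linearIndependent_equiv' (Equiv.refl _) ?_).mp h0
    funext i
    fin_cases i <;> rfl
  refine ⟨b 0, b 1, hli, Subtype.ext (Eq.symm ?_)⟩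
  refine Submodule.eq_of_le_of_finrank_le (Submodule.span_le.mpr ?_) (W.2.trans (finrank_span_pair hli).symm).le
  rintro x (rfl | rfl)
  · exact (b 0).2
  · exact (b 1).2

/-- A line has `q + 1` points. -/
theorem card_on_line (W : Sub F V 2) : Nat.card {P : Sub F V 1 // P.1 ≤ W.1} = Nat.card F + 1 := by
  classical
  obtain ⟨v, w, hli, rfl⟩ := exists_line2 W
  haveI : Finite F := Finite.of_injective (fun c : F => c • w) (smul_left_injective F (hli.ne_zero 1))
  rw [← Finite.card_option]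
  have hne : ∀ a : F, v + a • w ≠ 0 := fun a h => by
    have := (LinearIndependent.pair_iff.mp hli 1 a (by rw [one_smul]; exact h)).1
    exact one_ne_zero this
  have hw : w ≠ 0 := hli.ne_zero 1
  refine (Nat.card_eq_of_bijective (fun o : Option F => match o with
    | none => (⟨pt w hw, (pt_le_iff hw _).mpr (Submodule.subset_span (by simp))⟩ :
        {P : Sub F V 1 // P.1 ≤ (line2 hli).1})
    | some a => ⟨pt (v + a • w) (hne a), (pt_le_iff _ _).mpr (Submodule.mem_span_pair.mpr ⟨1, a, by simp⟩)⟩)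
    ⟨?_, ?_⟩).symm
  · rintro (_ | a) (_ | b) h
    · rfl
    · obtain ⟨c, hc, he⟩ := pt_eq_pt hw (hne b) (congrArg Subtype.val h)
      have h1 := (LinearIndependent.pair_iff.mp hli 1 (b - c) (by rw [sub_smul, one_smul, ← add_sub_assoc, he, sub_self])).1
      exact absurd h1 one_ne_zero
    · obtain ⟨c, hc, he⟩ := pt_eq_pt hw (hne a) (congrArg Subtype.val h).symm
      have h1 := (LinearIndependent.pair_iff.mp hli 1 (a - c) (by rw [sub_smul, one_smul, ← add_sub_assoc, he, sub_self])).1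
      exact absurd h1 one_ne_zero
    · obtain ⟨c, hc, he⟩ := pt_eq_pt (hne a) (hne b) (congrArg Subtype.val h)
      have h1 := LinearIndependent.pair_iff.mp hli (1 - c) (b - c * a) (by
        rw [sub_smul, sub_smul, one_smul, mul_smul, sub_add_sub_comm, he, smul_add, sub_self])
      have hc1 : c = 1 := (sub_eq_zero.mp h1.1).symm
      rw [hc1, one_mul] at h1
      rw [sub_eq_zero.mp h1.2]
  · rintro ⟨P, hP⟩
    obtain ⟨x, hx, rfl⟩ := exists_pt P
    obtain ⟨a, b, rfl⟩ := Submodule.mem_span_pair.mp ((pt_le_iff hx _).mp hP)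
    by_cases ha : a = 0
    · refine ⟨none, Subtype.ext (Subtype.ext ?_)⟩
      have hb : b ≠ 0 := fun hb => hx (by simp [ha, hb])
      show F ∙ w = F ∙ (a • v + b • w)
      rw [ha, zero_smul, zero_add, Submodule.span_singleton_smul_eq hb.isUnit]
    · refine ⟨some (a⁻¹ * b), Subtype.ext (Subtype.ext ?_)⟩
      show F ∙ (v + (a⁻¹ * b) • w) = F ∙ (a • v + b • w)
      rw [← Submodule.span_singleton_smul_eq (Ne.isUnit ha) (v + (a⁻¹ * b) • w), smul_add, smul_smul,
        mul_inv_cancel_left₀ ha]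

open Classical in
/-- Double counting of ordered pairs in a set of points by their lines. -/
theorem sum_pairs [Fintype (Sub F V 2)] (q : Sub F V 1 → Prop) :
    ∑ W : Sub F V 2, Nat.card {P : Sub F V 1 // P.1 ≤ W.1 ∧ q P} *
        (Nat.card {P : Sub F V 1 // P.1 ≤ W.1 ∧ q P} - 1) =
      Nat.card {P : Sub F V 1 // q P} * (Nat.card {P : Sub F V 1 // q P} - 1) := by
  classical
  have hpairs : ∀ (r : Sub F V 1 → Prop), Nat.card {x : Sub F V 1 × Sub F V 1 // r x.1 ∧ r x.2 ∧ x.1 ≠ x.2} =
      Nat.card {P // r P} * (Nat.card {P // r P} - 1) := by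
    intro r
    haveI : Fintype (Sub F V 1) := Fintype.ofFinite _
    simp only [Nat.card_eq_fintype_card, Fintype.card_subtype]
    rw [Nat.mul_sub, mul_one, ← Finset.offDiag_card]
    refine congrArg Finset.card (Finset.ext fun x => ?_)
    simp [Finset.mem_offDiag]
  rw [← hpairs, Finset.sum_congr rfl fun W _ => (hpairs fun P => P.1 ≤ W.1 ∧ q P).symm, ← Nat.card_sigma]
  refine Nat.card_eq_of_bijective (fun y => ⟨y.2.1, y.2.2.1.2, y.2.2.2.1.2, y.2.2.2.2⟩) ⟨?_, ?_⟩
  · rintro ⟨W, x, ⟨hW1, h1⟩, ⟨hW2, h2⟩, hne⟩ ⟨W', x', ⟨hW1', h1'⟩, ⟨hW2', h2'⟩, hne'⟩ h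
    have hx : x = x' := congrArg Subtype.val h
    subst hx
    obtain rfl := (existsUnique_line x.1 x.2 hne).unique ⟨hW1, hW2⟩ ⟨hW1', hW2'⟩
    rfl
  · rintro ⟨x, h1, h2, hne⟩
    obtain ⟨W, ⟨hW1, hW2⟩, -⟩ := existsUnique_line x.1 x.2 hne
    exact ⟨⟨W, x, ⟨hW1, h1⟩, ⟨hW2, h2⟩, hne⟩, rfl⟩

variable {L : Type*} [Field L] [Algebra F L] [Finite L]

/-- Multiplications by units translated by a predicate on points. -/
theorem card_units_filter (p : Sub F L 1 → Prop) :
    Nat.card {a : Lˣ // p (pt (a : L) a.ne_zero)} = Nat.card {P : Sub F L 1 // p P} * Nat.card Fˣ := by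
  classical
  choose r hr hP using fun P : Sub F L 1 => exists_pt P
  rw [← Nat.card_prod]
  have hval : ∀ (P : Sub F L 1) (c : Fˣ), pt ((c : F) • r P) (smul_ne_zero c.ne_zero (hr P)) = P := fun P c => by
    conv_rhs => rw [hP P]
    exact Subtype.ext (Submodule.span_singleton_smul_eq c.isUnit (r P))
  refine (Nat.card_eq_of_bijective (fun x : {P : Sub F L 1 // p P} × Fˣ =>
    (⟨Units.mk0 ((x.2 : F) • r x.1.1) (smul_ne_zero x.2.ne_zero (hr _)), by
      exact (congrArg p (hval x.1.1 x.2)).mpr x.1.2⟩ : {a : Lˣ // p (pt (a : L) a.ne_zero)})) ⟨?_, ?_⟩).symm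
  · rintro ⟨⟨P, hp⟩, c⟩ ⟨⟨P', hp'⟩, c'⟩ h
    have h1 : (c : F) • r P = (c' : F) • r P' := congrArg (fun y => ((y.1 : Lˣ) : L)) h
    have hPP : P = P' := by
      rw [← hval P c, ← hval P' c']
      exact Subtype.ext (by show F ∙ _ = F ∙ _; rw [h1])
    subst hPP
    rw [Units.ext (smul_left_injective F (hr P) h1)]
  · rintro ⟨u, hu⟩
    obtain ⟨c, hc, he⟩ := pt_eq_pt (hr (pt (u : L) u.ne_zero)) u.ne_zero (hP _).symm
    exact ⟨(⟨pt (u : L) u.ne_zero, hu⟩, Units.mk0 c hc), Subtype.ext (Units.ext he.symm)⟩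

end CfsgLib.SingerFive
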