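/-
A group doubly transitive on points is transitive on hyperplanes through and off a point.
-/
import Cfsg.Agent.Lib.SingerFive.Incidence

set_option autoImplicit false
set_option linter.unusedSectionVars false
set_option linter.style.haveILetI false

namespace CfsgLib.SingerFive

open Module

variable {F V : Type*} [Field F] [AddCommGroup V] [Module F V] [Finite V] {G : Subgroup (V ≃ₗ[F] V)}

/-- Doubly transitive on points. -/
def PairTrans (G : Subgroup (V ≃ₗ[F] V)) : Prop :=
  ∀ P Q P' Q' : Sub F V 1, P ≠ Q → P' ≠ Q' → ∃ g ∈ G, (g : V ≃ₗ[F] V) • P = P' ∧ (g : V ≃ₗ[F] V) • Q = Q'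

theorem finite_field [Nontrivial V] : Finite F := by
  obtain ⟨v, hv⟩ := exists_ne (0 : V)
  exact Finite.of_injective (fun c : F => c • v) (smul_left_injective F hv)

/-- The points of a space and its non-zero vectors. -/
theorem card_pts_space : Nat.card (Sub F V 1) * Nat.card Fˣ = Nat.card V - 1 := by
  classical
  choose r hr hP using fun P : Sub F V 1 => exists_pt P
  rw [← Nat.card_prod]
  have h : Nat.card {x : V // x ≠ 0} = Nat.card V - 1 := by
    haveI : Fintype V := Fintype.ofFinite V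
    rw [Nat.card_eq_fintype_card, Nat.card_eq_fintype_card, Fintype.card_subtype_compl, Fintype.card_subtype_eq]
  rw [← h]
  refine Nat.card_eq_of_bijective (fun x : Sub F V 1 × Fˣ => (⟨(x.2 : F) • r x.1,
    smul_ne_zero x.2.ne_zero (hr _)⟩ : {x : V // x ≠ 0})) ⟨?_, ?_⟩
  · rintro ⟨P, c⟩ ⟨P', c'⟩ h
    have h1 : (c : F) • r P = (c' : F) • r P' := congrArg Subtype.val h
    have hPP : P = P' := by
      rw [hP P, hP P']
      refine Subtype.ext ?_
      show F ∙ r P = F ∙ r P'
      rw [← Submodule.span_singleton_smul_eq c.isUnit (r P), h1, Submodule.span_singleton_smul_eq c'.isUnit]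
    subst hPP
    rw [Units.ext (smul_left_injective F (hr P) h1)]
  · intro u
    obtain ⟨c, hc, hu⟩ := pt_eq_pt (hr (pt u.1 u.2)) u.2 (hP _).symm
    exact ⟨(pt u.1 u.2, Units.mk0 c hc), Subtype.ext hu.symm⟩

theorem exists_point_ne (hn : 2 ≤ finrank F V) (P : Sub F V 1) : ∃ Q : Sub F V 1, Q ≠ P := by
  haveI : FiniteDimensional F V := Module.Finite.of_finite
  obtain ⟨v, hv, rfl⟩ := exists_pt P
  obtain ⟨x, hx⟩ := SetLike.exists_not_mem_of_ne_top (F ∙ v) (fun h => by
    have := finrank_top F V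
    rw [← h, finrank_span_singleton hv] at this
    omega)
  have hx0 : x ≠ 0 := fun e => hx (e ▸ zero_mem _)
  exact ⟨pt x hx0, fun e => hx (by
    have : (pt x hx0 : Sub F V 1).1 = F ∙ v := congrArg Subtype.val e
    rw [← this]
    exact Submodule.mem_span_singleton_self x)⟩

/-- The dual action. -/
def dualE : (V ≃ₗ[F] V) →* (Dual F V ≃ₗ[F] Dual F V) where
  toFun g := g.symm.dualMap
  map_one' := LinearEquiv.ext fun φ => LinearMap.ext fun x => rfl
  map_mul' g h := LinearEquiv.ext fun φ => LinearMap.ext fun x => rfl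

theorem dualE_apply (g : V ≃ₗ[F] V) (φ : Dual F V) (x : V) : dualE g φ x = φ (g.symm x) := rfl

theorem card_fixed_dual (g : V ≃ₗ[F] V) :
    Nat.card {φ : Dual F V // dualE g φ = φ} = Nat.card {x : V // g x = x} := by
  rcases subsingleton_or_nontrivial V with hV | hV
  · haveI : Subsingleton (Dual F V) := ⟨fun a b => LinearMap.ext fun x => by rw [Subsingleton.elim x 0, map_zero, map_zero]⟩
    exact Nat.card_congr
      { toFun := fun _ => ⟨0, map_zero g⟩
        invFun := fun _ => ⟨0, map_zero _⟩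
        left_inv := fun a => Subtype.ext (Subsingleton.elim _ _)
        right_inv := fun a => Subtype.ext (Subsingleton.elim _ _) }
  haveI : Finite F := finite_field (V := V)
  haveI : FiniteDimensional F V := Module.Finite.of_finite
  haveI : Finite (Dual F V) := Module.finite_of_finite F
  let X : V →ₗ[F] V := (g : V →ₗ[F] V) - LinearMap.id
  have h1 : Nat.card {x : V // g x = x} = Nat.card (LinearMap.ker X) :=
    Nat.card_congr (Equiv.subtypeEquivRight fun x => by simp [X, LinearMap.mem_ker, sub_eq_zero])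
  have h2 : Nat.card {φ : Dual F V // dualE g φ = φ} = Nat.card (LinearMap.ker X.dualMap) := by
    refine Nat.card_congr (Equiv.subtypeEquivRight fun φ => ?_)
    rw [LinearMap.mem_ker]
    constructor
    · intro h
      refine LinearMap.ext fun x => ?_
      have := congrArg (fun ψ : Dual F V => ψ (g x)) h
      simp [dualE_apply] at this
      simp [X, this]
    · intro h
      refine LinearMap.ext fun x => ?_
      have := congrArg (fun ψ : Dual F V => ψ (g.symm x)) h
      simp [X, sub_eq_zero] at this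
      rw [dualE_apply, ← this]
  rw [h1, h2, Module.natCard_eq_pow_finrank (K := F), Module.natCard_eq_pow_finrank (K := F) (V := LinearMap.ker X)]
  congr 1
  have e1 := X.finrank_range_add_finrank_ker
  have e2 := X.dualMap.finrank_range_add_finrank_ker
  rw [LinearMap.finrank_range_dualMap_eq_finrank_range, Subspace.dual_finrank_eq] at e2
  omega

/-- Transitivity on the hyperplanes through a point and on those off it. -/
theorem hyper_transitive (h2 : PairTrans G) (hn : 2 ≤ finrank F V) {v : V} (hv : v ≠ 0) {φ ψ : Dual F V} (hφ : φ ≠ 0)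
    (hψ : ψ ≠ 0) (hiff : φ v = 0 ↔ ψ v = 0) :
    ∃ g ∈ G, (g : V ≃ₗ[F] V) • (pt v hv : Sub F V 1) = pt v hv ∧ ∃ d : F, d ≠ 0 ∧ dualE g φ = d • ψ := by
  classical
  haveI : FiniteDimensional F V := Module.Finite.of_finite
  haveI : Nontrivial V := ⟨v, 0, hv⟩
  haveI : Finite F := finite_field (V := V)
  haveI : Finite (Dual F V) := Module.finite_of_finite F
  haveI : Finite (V ≃ₗ[F] V) := Finite.of_injective (fun g : V ≃ₗ[F] V => (g : V → V)) DFunLike.coe_injective
  set P : Sub F V 1 := pt v hv with hP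
  let sc : Fˣ → (V ≃ₗ[F] V) := fun c => LinearEquiv.smulOfUnit c
  let H : Subgroup (V ≃ₗ[F] V) :=
    { carrier := {h | ∃ c : Fˣ, ∃ g ∈ G, g • P = P ∧ ∀ x, h x = (c : F) • g x}
      one_mem' := ⟨1, 1, one_mem G, one_smul _ _, fun x => (one_smul F _).symm⟩
      mul_mem' := by
        rintro a b ⟨c, g, hg, hgP, ha⟩ ⟨d, g', hg', hg'P, hb⟩
        refine ⟨c * d, g * g', mul_mem hg hg', by rw [mul_smul, hg'P, hgP], fun x => ?_⟩
        show a (b x) = _
        rw [ha, hb, map_smul, smul_smul, ← Units.val_mul]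
        rfl
      inv_mem' := by
        rintro a ⟨c, g, hg, hgP, ha⟩
        refine ⟨c⁻¹, g⁻¹, inv_mem hg, inv_smul_eq_iff.mpr hgP.symm, fun x => a.injective ?_⟩
        show a (a.symm x) = a (((c⁻¹ : Fˣ) : F) • g.symm x)
        rw [a.apply_symm_apply, map_smul, ha, g.apply_symm_apply, smul_smul, ← Units.val_mul, inv_mul_cancel,
          Units.val_one, one_smul] }
  letI : MulAction H (Dual F V) := MulAction.compHom _ (dualE.comp H.subtype)
  haveI : Fintype H := Fintype.ofFinite H
  haveI : Fintype V := Fintype.ofFinite V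
  haveI : Fintype (Dual F V) := Fintype.ofFinite _
  have hdact : ∀ (h : H) (χ : Dual F V), h • χ = dualE (h : V ≃ₗ[F] V) χ := fun h χ => rfl
  have hscal : ∀ c : Fˣ, sc c ∈ H := fun c => ⟨c, 1, one_mem G, one_smul _ _, fun x => rfl⟩
  have hvfix : ∀ h : H, ∃ c : F, c ≠ 0 ∧ (h : V ≃ₗ[F] V) v = c • v := by
    rintro ⟨h, c, g, hg, hgP, hh⟩
    rw [hP, smul_pt] at hgP
    obtain ⟨d, hd, he⟩ := pt_eq_pt hv _ hgP.symm
    refine ⟨(c : F) * d, mul_ne_zero c.ne_zero hd, ?_⟩
    show h v = _
    rw [hh, he, smul_smul]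
  obtain ⟨Q₀, hQ₀⟩ := exists_point_ne hn P
  -- three orbits on vectors
  let cl : V → Fin 3 := fun x => if x = 0 then 0 else if x ∈ F ∙ v then 1 else 2
  have hcl : ∀ (h : H) (x : V), cl (h • x) = cl x := by
    intro h x
    obtain ⟨c, hc, hcv⟩ := hvfix h
    have h0 : h • x = 0 ↔ x = 0 := (h : V ≃ₗ[F] V).map_eq_zero_iff
    have h1 : h • x ∈ F ∙ v ↔ x ∈ F ∙ v := by
      constructor
      · intro hx
        obtain ⟨e, he⟩ := Submodule.mem_span_singleton.mp hx
        refine Submodule.mem_span_singleton.mpr ⟨e / c, (h : V ≃ₗ[F] V).injective ?_⟩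
        rw [map_smul, hcv, smul_smul, div_mul_cancel₀ _ hc]
        exact he
      · intro hx
        obtain ⟨e, rfl⟩ := Submodule.mem_span_singleton.mp hx
        show (h : V ≃ₗ[F] V) (e • v) ∈ _
        rw [map_smul, hcv]
        exact Submodule.smul_mem _ _ (Submodule.smul_mem _ _ (Submodule.mem_span_singleton_self v))
    simp only [cl, h0, h1]
  have htr : ∀ x y : V, cl x = cl y → ∃ h : H, h • x = y := by
    intro x y e
    by_cases hx : x = 0
    · by_cases hy : y = 0
      · exact ⟨1, by rw [one_smul, hx, hy]⟩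
      · simp only [cl, hx, hy, if_true, if_false] at e
        split_ifs at e <;> exact absurd e (by decide)
    by_cases hy : y = 0
    · simp only [cl, hx, hy, if_true, if_false] at e
      split_ifs at e <;> exact absurd e (by decide)
    by_cases hxv : x ∈ F ∙ v
    · by_cases hyv : y ∈ F ∙ v
      · obtain ⟨a, rfl⟩ := Submodule.mem_span_singleton.mp hxv
        obtain ⟨b, rfl⟩ := Submodule.mem_span_singleton.mp hyv
        have ha : a ≠ 0 := fun h => hx (by rw [h, zero_smul])
        have hb : b ≠ 0 := fun h => hy (by rw [h, zero_smul])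
        exact ⟨⟨_, hscal (Units.mk0 (b / a) (div_ne_zero hb ha))⟩, by
          show (b / a) • a • v = b • v
          rw [smul_smul, div_mul_cancel₀ _ ha]⟩
      · simp [cl, hx, hy, hxv, hyv] at e
    by_cases hyv : y ∈ F ∙ v
    · simp [cl, hx, hy, hxv, hyv] at e
    have hne : ∀ {z : V} (hz : z ≠ 0), z ∉ F ∙ v → P ≠ pt z hz := fun hz hzv e => by
      obtain ⟨c, -, rfl⟩ := pt_eq_pt hv hz e
      exact hzv (Submodule.smul_mem _ _ (Submodule.mem_span_singleton_self v))
    obtain ⟨g, hg, e1, e2⟩ := h2 P (pt x hx) P (pt y hy) (hne hx hxv) (hne hy hyv)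
    rw [smul_pt] at e2
    obtain ⟨c, hc, he⟩ := pt_eq_pt (g.map_ne_zero_iff.mpr hx) hy e2
    exact ⟨⟨sc (Units.mk0 c hc) * g, Units.mk0 c hc, g, hg, e1, fun z => rfl⟩, he.symm⟩
  have hcard : Fintype.card (MulAction.orbitRel.Quotient H V) ≤ 3 := by
    rw [← Fintype.card_fin 3]
    refine Fintype.card_le_of_injective (Quotient.lift cl fun a b hab => ?_) ?_
    · obtain ⟨h, rfl⟩ := MulAction.orbitRel_apply.mp hab
      exact hcl h b
    · rintro ⟨a⟩ ⟨b⟩ e
      obtain ⟨h, hh⟩ := htr b a (e.symm)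
      exact Quotient.sound (MulAction.orbitRel_apply.mpr ⟨h, hh⟩)
  -- three classes of functionals
  let cl' : Dual F V → Fin 3 := fun χ => if χ = 0 then 0 else if χ v = 0 then 1 else 2
  have hcl' : ∀ (h : H) (χ : Dual F V), cl' (h • χ) = cl' χ := by
    intro h χ
    obtain ⟨c, hc, hcv⟩ := hvfix h
    have h0 : h • χ = 0 ↔ χ = 0 := by rw [hdact]; exact (dualE _).map_eq_zero_iff
    have h1 : (h • χ) v = 0 ↔ χ v = 0 := by
      rw [hdact, dualE_apply]
      have : (h : V ≃ₗ[F] V).symm v = c⁻¹ • v := by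
        rw [LinearEquiv.symm_apply_eq, map_smul, hcv, smul_smul, inv_mul_cancel₀ hc, one_smul]
      rw [this, map_smul, smul_eq_mul, mul_eq_zero]
      simp [hc]
    simp only [cl', h0, h1]
  have hsurj' : Function.Surjective cl' := by
    obtain ⟨f, hf⟩ := Module.Projective.exists_dual_ne_zero F hv
    intro i
    fin_cases i
    · exact ⟨0, by simp [cl']⟩
    · obtain ⟨w, hw, hQ⟩ := exists_pt Q₀
      have hwv : w ∉ F ∙ v := fun h => hQ₀ (by
        obtain ⟨c, rfl⟩ := Submodule.mem_span_singleton.mp h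
        have hc : c ≠ 0 := fun h0 => hw (by rw [h0, zero_smul])
        rw [hQ, hP]
        exact Subtype.ext (Submodule.span_singleton_smul_eq hc.isUnit v))
      obtain ⟨χ, hχv, hχw⟩ := Submodule.exists_dual_map_eq_bot_of_notMem hwv inferInstance
      refine ⟨χ, ?_⟩
      have h1 : χ v = 0 := by
        have : χ v ∈ (F ∙ v).map χ := Submodule.mem_map_of_mem (Submodule.mem_span_singleton_self v)
        rwa [hχw, Submodule.mem_bot] at this
      have h0 : χ ≠ 0 := fun e => hχv (by rw [e]; rfl)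
      simp [cl', h0, h1]
    · refine ⟨f, ?_⟩
      have h0 : f ≠ 0 := fun e => hf (by rw [e]; rfl)
      simp [cl', h0, hf]
  have hB1 := MulAction.sum_card_fixedBy_eq_card_orbits_mul_card_group H V
  have hB2 := MulAction.sum_card_fixedBy_eq_card_orbits_mul_card_group H (Dual F V)
  rw [Finset.sum_congr rfl (fun h _ => show Fintype.card (MulAction.fixedBy (Dual F V) h) =
    Fintype.card (MulAction.fixedBy V h) by
      rw [← Nat.card_eq_fintype_card, ← Nat.card_eq_fintype_card]
      exact card_fixed_dual (h : V ≃ₗ[F] V)), hB1] at hB2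
  have horb := Nat.eq_of_mul_eq_mul_right (Fintype.card_pos (α := H)) hB2
  let q' : MulAction.orbitRel.Quotient H (Dual F V) → Fin 3 := Quotient.lift cl' fun a b hab => by
    obtain ⟨h, rfl⟩ := MulAction.orbitRel_apply.mp hab
    exact hcl' h b
  have hq' : Function.Surjective q' := fun i => by
    obtain ⟨χ, hχ⟩ := hsurj' i
    exact ⟨Quotient.mk'' χ, hχ⟩
  have hbij := (Fintype.bijective_iff_surjective_and_card q').mpr ⟨hq', by
    refine le_antisymm ?_ (Fintype.card_le_of_surjective q' hq')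
    rw [← horb, Fintype.card_fin]
    exact hcard⟩
  have heq : (Quotient.mk'' φ : MulAction.orbitRel.Quotient H (Dual F V)) = Quotient.mk'' ψ :=
    hbij.1 (show cl' φ = cl' ψ by simp [cl', hφ, hψ, hiff])
  obtain ⟨⟨h, c, g, hg, hgP, hh⟩, e⟩ := MulAction.orbitRel_apply.mp (Quotient.eq''.mp heq.symm)
  refine ⟨g, hg, hgP, (c : F), c.ne_zero, LinearMap.ext fun x => ?_⟩
  have he := congrArg (fun χ : Dual F V => χ ((c : F) • x)) e
  simp only [hdact, dualE_apply] at he
  have hsymm : h.symm ((c : F) • x) = g.symm x := by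
    rw [LinearEquiv.symm_apply_eq, hh, g.apply_symm_apply]
  rw [hsymm] at he
  rw [dualE_apply, he, LinearMap.smul_apply, map_smul]

/-- The number of hyperplanes off a point divides the order. -/
theorem pow_four_dvd (h2 : PairTrans G) (hn : finrank F V = 5) : Nat.card F ^ 4 ∣ Nat.card G := by
  classical
  haveI : FiniteDimensional F V := Module.Finite.of_finite
  haveI : Nontrivial V := Module.nontrivial_of_finrank_pos (R := F) (by omega)
  haveI : Finite F := finite_field (V := V)
  haveI : Finite (Dual F V) := Module.finite_of_finite F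
  haveI : Finite (V ≃ₗ[F] V) := Finite.of_injective (fun g : V ≃ₗ[F] V => (g : V → V)) DFunLike.coe_injective
  obtain ⟨v, hv⟩ := exists_ne (0 : V)
  obtain ⟨φ₀, hφ₀⟩ := Module.Projective.exists_dual_ne_zero F hv
  letI : MulAction G (Sub F (Dual F V) 1) := MulAction.compHom _ (dualE.comp G.subtype)
  let S := MulAction.stabilizer G (pt v hv : Sub F V 1)
  have hφ0 : φ₀ ≠ 0 := fun e => hφ₀ (by rw [e]; rfl)
  let O : Sub F (Dual F V) 1 := pt φ₀ hφ0
  let off := {R : Sub F (Dual F V) 1 // ∃ χ ∈ R.1, χ v ≠ 0}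
  have horb : MulAction.orbit S O = {R | ∃ χ ∈ R.1, χ v ≠ 0} := by
    ext R
    constructor
    · rintro ⟨⟨g, hg⟩, rfl⟩
      refine ⟨dualE (g : V ≃ₗ[F] V) φ₀, mem_sub_smul (dualE (g : V ≃ₗ[F] V)) O (Submodule.mem_span_singleton_self φ₀), ?_⟩
      rw [dualE_apply]
      have hfix : (g : V ≃ₗ[F] V)⁻¹ • (pt v hv : Sub F V 1) = pt v hv := inv_smul_eq_iff.mpr (MulAction.mem_stabilizer_iff.mp hg).symm
      rw [smul_pt] at hfix
      obtain ⟨c, hc, he⟩ := pt_eq_pt hv _ hfix.symm
      rw [show (g : V ≃ₗ[F] V).symm v = c • v from he, map_smul, smul_eq_mul]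
      exact mul_ne_zero hc hφ₀
    · rintro ⟨χ, hχR, hχv⟩
      have hχ : χ ≠ 0 := fun e => hχv (by rw [e]; rfl)
      obtain ⟨g, hg, hgP, d, hd, he⟩ := hyper_transitive h2 (by omega) hv hφ0 hχ ⟨fun h => absurd h hφ₀, fun h => absurd h hχv⟩
      refine ⟨⟨⟨g, hg⟩, hgP⟩, ?_⟩
      have hR : R = pt χ hχ := by
        refine Subtype.ext (Eq.symm (Submodule.eq_of_le_of_finrank_le ?_ ?_))
        · exact (Submodule.span_singleton_le_iff_mem _ _).mpr hχR
        · rw [R.2, (pt χ hχ : Sub F (Dual F V) 1).2]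
      rw [hR]
      show dualE (g : V ≃ₗ[F] V) • O = _
      rw [smul_pt]
      refine Subtype.ext ?_
      show F ∙ _ = F ∙ χ
      rw [he, Submodule.span_singleton_smul_eq hd.isUnit]
  have hcard : Nat.card (MulAction.orbit S O) = Nat.card F ^ 4 := by
    rw [horb]
    let ev : Dual F V →ₗ[F] F := LinearMap.applyₗ v
    have hker : Nat.card (LinearMap.ker ev) = Nat.card F ^ 4 := by
      rw [Module.natCard_eq_pow_finrank (K := F)]
      congr 1
      have e1 := ev.finrank_range_add_finrank_ker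
      have hr : LinearMap.range ev = ⊤ := LinearMap.range_eq_top.mpr fun c => ⟨(c / φ₀ v) • φ₀, by
        show ((c / φ₀ v) • φ₀) v = c
        rw [LinearMap.smul_apply, smul_eq_mul, div_mul_cancel₀ _ hφ₀]⟩
      rw [hr, finrank_top, Module.finrank_self, Subspace.dual_finrank_eq, hn] at e1
      omega
    rw [← hker]
    have hval : ∀ k : LinearMap.ker ev, ((φ₀ v)⁻¹ • φ₀ + (k : Dual F V)) v = 1 := fun k => by
      have : (k : Dual F V) v = 0 := k.2
      simp [this, inv_mul_cancel₀ hφ₀]
    have hne : ∀ k : LinearMap.ker ev, (φ₀ v)⁻¹ • φ₀ + (k : Dual F V) ≠ 0 :=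
      fun k e => one_ne_zero (α := F) (by rw [← hval k, e]; rfl)
    refine (Nat.card_eq_of_bijective (fun k : LinearMap.ker ev => (⟨pt ((φ₀ v)⁻¹ • φ₀ + (k : Dual F V)) (hne k),
      (φ₀ v)⁻¹ • φ₀ + (k : Dual F V), Submodule.mem_span_singleton_self _,
      by rw [hval]; exact one_ne_zero⟩ : {R : Sub F (Dual F V) 1 | ∃ χ ∈ R.1, χ v ≠ 0})) ⟨?_, ?_⟩).symm
    · intro a b e
      obtain ⟨c, hc, he⟩ := pt_eq_pt (hne a) (hne b) (congrArg Subtype.val e)
      have := congrArg (fun χ : Dual F V => χ v) he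
      rw [LinearMap.smul_apply, hval, hval, smul_eq_mul, mul_one] at this
      rw [← this, one_smul] at he
      exact Subtype.ext (add_left_cancel he.symm)
    · rintro ⟨R, χ, hχR, hχv⟩
      have hk : (χ v)⁻¹ • χ - (φ₀ v)⁻¹ • φ₀ ∈ LinearMap.ker ev := by
        show ((χ v)⁻¹ • χ - (φ₀ v)⁻¹ • φ₀) v = 0
        simp [inv_mul_cancel₀ hφ₀, inv_mul_cancel₀ hχv]
      refine ⟨⟨_, hk⟩, Subtype.ext (Subtype.ext ?_)⟩
      refine Submodule.eq_of_le_of_finrank_le ((Submodule.span_singleton_le_iff_mem _ _).mpr ?_) (le_of_eq (R.2.trans (Subtype.prop (_ : Sub F (Dual F V) 1)).symm))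
      show (φ₀ v)⁻¹ • φ₀ + ((χ v)⁻¹ • χ - (φ₀ v)⁻¹ • φ₀) ∈ R.1
      rw [add_sub_cancel]
      exact R.1.smul_mem _ hχR
  rw [← hcard, Nat.card_congr (MulAction.orbitEquivQuotientStabilizer S O)]
  exact (Subgroup.card_quotient_dvd_card _).trans (Subgroup.card_subgroup_dvd_card S)

end CfsgLib.SingerFive
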