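/-
In a group doubly transitive on points of a five-space one transvection gives all.
-/
import Cfsg.Agent.Lib.SingerFive.Hyper
import Cfsg.Agent.Lib.MaxSub.ExtLin.Transvection

set_option autoImplicit false
set_option linter.unusedSectionVars false
set_option linter.style.haveILetI false

namespace CfsgLib.SingerFive

open Module
open CfsgLib.MaxSub.ExtLin (UIn TIn)

variable {F V : Type*} [Field F] [AddCommGroup V] [Module F V] [Finite V] {G : Subgroup (V ≃ₗ[F] V)}

theorem tin_map' {u : V} {φ : Dual F V} (h : TIn G u φ) {g : V ≃ₗ[F] V} (hg : g ∈ G) :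
    TIn G (g u) (dualE g φ) := by
  have h' := UIn.conj h hg
  have e : g.toLinearMap ∘ₗ φ.smulRight u ∘ₗ g.symm.toLinearMap = (dualE g φ).smulRight (g u) :=
    LinearMap.ext fun x => by simp [dualE_apply]
  rw [TIn, ← e]; exact h'

theorem tin_smul' {u : V} {φ : Dual F V} {a : F} (h : TIn G (a • u) φ) : TIn G u (a • φ) := by
  have e : φ.smulRight (a • u) = (a • φ).smulRight u :=
    LinearMap.ext fun x => by simp [smul_smul, mul_comm]
  rw [TIn, ← e]; exact h

/-- The multiples of a functional giving transvections. -/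
def coeffs (G : Subgroup (V ≃ₗ[F] V)) (u : V) (ψ : Dual F V) (h : ψ u = 0) : AddSubgroup F where
  carrier := {c | TIn G u (c • ψ)}
  zero_mem' := ⟨1, one_mem G, fun x => by simp⟩
  add_mem' := by
    intro a b ha hb
    have := UIn.mul ha hb
    have e : (a • ψ).smulRight u + (b • ψ).smulRight u + (a • ψ).smulRight u ∘ₗ (b • ψ).smulRight u =
        ((a + b) • ψ).smulRight u := LinearMap.ext fun x => by simp [add_smul, add_mul, h]
    show TIn G u _
    rw [TIn, ← e]; exact this
  neg_mem' := by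
    intro a ha
    have := UIn.neg ha (fun x => by simp [h])
    have e : -(a • ψ).smulRight u = ((-a) • ψ).smulRight u := LinearMap.ext fun x => by simp [neg_smul]
    show TIn G u _
    rw [TIn, ← e]; exact this

theorem pair_to_pair (h2 : PairTrans G) (hn : 2 ≤ finrank F V) {u u' : V} (hu : u ≠ 0) (hu' : u' ≠ 0)
    {ψ ψ' : Dual F V} (hψ : ψ ≠ 0) (hψ' : ψ' ≠ 0) (h : ψ u = 0) (h' : ψ' u' = 0) :
    ∃ g ∈ G, ∃ a b : F, a ≠ 0 ∧ b ≠ 0 ∧ g u = a • u' ∧ dualE g ψ = b • ψ' := by
  obtain ⟨Q, hQ⟩ := exists_point_ne hn (pt u hu)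
  obtain ⟨Q', hQ'⟩ := exists_point_ne hn (pt u' hu')
  obtain ⟨g, hg, e, -⟩ := h2 _ _ _ _ hQ.symm hQ'.symm
  rw [smul_pt] at e
  obtain ⟨a, ha, hga⟩ := pt_eq_pt hu' _ e.symm
  have h1 : dualE g ψ u' = 0 := by
    rw [dualE_apply, show g.symm u' = a⁻¹ • u by
      rw [LinearEquiv.symm_apply_eq, map_smul, hga, smul_smul, inv_mul_cancel₀ ha, one_smul], map_smul, h, smul_zero]
  obtain ⟨g', hg', e', d, hd, hgd⟩ := hyper_transitive h2 hn hu' (φ := dualE g ψ)
    ((dualE g).map_ne_zero_iff.mpr hψ) hψ' ⟨fun _ => h', fun _ => h1⟩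
  rw [smul_pt] at e'
  obtain ⟨a', ha', hga'⟩ := pt_eq_pt hu' _ e'.symm
  refine ⟨g' * g, mul_mem hg' hg, a * a', d, mul_ne_zero ha ha', hd, ?_, ?_⟩
  · show g' (g u) = _
    rw [hga, map_smul, hga', smul_smul]
  · rw [map_mul]
    exact hgd

theorem card_coeffs_le (h2 : PairTrans G) (hn : 2 ≤ finrank F V) [Finite F] {u u' : V} (hu : u ≠ 0) (hu' : u' ≠ 0)
    {ψ ψ' : Dual F V} (hψ : ψ ≠ 0) (hψ' : ψ' ≠ 0) (h : ψ u = 0) (h' : ψ' u' = 0) :
    Nat.card (coeffs G u ψ h) ≤ Nat.card (coeffs G u' ψ' h') := by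
  obtain ⟨g, hg, a, b, ha, hb, hga, hgb⟩ := pair_to_pair h2 hn hu hu' hψ hψ' h h'
  refine Nat.card_le_card_of_injective (fun c => ⟨a * (c.1 * b), ?_⟩) fun c c' e =>
    Subtype.ext (mul_right_cancel₀ hb (mul_left_cancel₀ ha (congrArg Subtype.val e)))
  show TIn G u' _
  have := tin_map' c.2 hg
  rw [map_smul, hgb, hga, smul_smul] at this
  rw [mul_smul]
  exact tin_smul' this

/-- One transvection gives all. -/
theorem all_transvections (h2 : PairTrans G) (hn : finrank F V = 5) {u₀ : V} {φ₀ : Dual F V} (hu₀ : u₀ ≠ 0)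
    (hφ₀ : φ₀ ≠ 0) (hφu : φ₀ u₀ = 0) (hT : TIn G u₀ φ₀) (u : V) (φ : Dual F V) (hφ : φ u = 0) :
    TIn G u φ := by
  classical
  haveI : FiniteDimensional F V := Module.Finite.of_finite
  haveI : Nontrivial V := ⟨u₀, 0, hu₀⟩
  haveI : Finite F := finite_field (V := V)
  haveI : Finite (Dual F V) := Module.finite_of_finite F
  by_cases hu : u = 0
  · exact ⟨1, one_mem G, fun x => by simp [hu]⟩
  by_cases hφz : φ = 0
  · exact ⟨1, one_mem G, fun x => by simp [hφz]⟩
  have hn2 : 2 ≤ finrank F V := by omega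
  set m := Nat.card (coeffs G u₀ φ₀ hφu) with hm
  have hm2 : 2 ≤ m := by
    rw [hm]
    refine Finite.one_lt_card_iff_nontrivial.mpr ⟨⟨0, zero_mem _⟩, ⟨1, ?_⟩, fun e => zero_ne_one (congrArg Subtype.val e)⟩
    show TIn G u₀ _
    rw [one_smul]; exact hT
  have hmall : ∀ (ψ : Dual F V) (hψ : ψ ≠ 0) (h : ψ u = 0), Nat.card (coeffs G u ψ h) = m := fun ψ hψ h =>
    le_antisymm (card_coeffs_le h2 hn2 hu hu₀ hψ hφ₀ h hφu) (card_coeffs_le h2 hn2 hu₀ hu hφ₀ hψ hφu h)
  let K : Submodule F (Dual F V) := LinearMap.ker (LinearMap.applyₗ u)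
  have hKu : ∀ χ : K, (χ : Dual F V) u = 0 := fun χ => χ.2
  let A : AddSubgroup K :=
    { carrier := {χ | TIn G u (χ : Dual F V)}
      zero_mem' := ⟨1, one_mem G, fun x => by simp⟩
      add_mem' := by
        intro a b ha hb
        have := UIn.mul ha hb
        have e : (a : Dual F V).smulRight u + (b : Dual F V).smulRight u + (a : Dual F V).smulRight u ∘ₗ
            (b : Dual F V).smulRight u = ((a + b : K) : Dual F V).smulRight u :=
          LinearMap.ext fun x => by simp [add_smul, hKu]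
        show TIn G u _
        rw [TIn, ← e]; exact this
      neg_mem' := by
        intro a ha
        have := UIn.neg ha (fun x => by simp [hKu])
        have e : -(a : Dual F V).smulRight u = ((-a : K) : Dual F V).smulRight u := LinearMap.ext fun x => by simp
        show TIn G u _
        rw [TIn, ← e]; exact this }
  have hK : Nat.card K = Nat.card F ^ 4 := by
    rw [Module.natCard_eq_pow_finrank (K := F)]
    congr 1
    have e1 := (LinearMap.applyₗ u : Dual F V →ₗ[F] F).finrank_range_add_finrank_ker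
    obtain ⟨f, hf⟩ := Module.Projective.exists_dual_ne_zero F hu
    have hr : LinearMap.range (LinearMap.applyₗ u : Dual F V →ₗ[F] F) = ⊤ :=
      LinearMap.range_eq_top.mpr fun c => ⟨(c / f u) • f, by
        show ((c / f u) • f) u = c
        rw [LinearMap.smul_apply, smul_eq_mul, div_mul_cancel₀ _ hf]⟩
    rw [hr, finrank_top, Module.finrank_self, Subspace.dual_finrank_eq, hn] at e1
    show finrank F (LinearMap.ker (LinearMap.applyₗ u : Dual F V →ₗ[F] F)) = 4
    omega
  -- count the transvections at `u`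
  choose r hr hP using fun P : Sub F K 1 => exists_pt P
  have hr' : ∀ P, ((r P : K) : Dual F V) ≠ 0 := fun P e => hr P (Subtype.ext e)
  let C := fun P : Sub F K 1 => {c : coeffs G u (r P : Dual F V) (hKu _) // c ≠ 0}
  have hC : ∀ P, Nat.card (C P) = m - 1 := fun P => by
    haveI := Fintype.ofFinite (coeffs G u (r P : Dual F V) (hKu _))
    rw [← hmall _ (hr' P) (hKu _), Nat.card_eq_fintype_card, Nat.card_eq_fintype_card, Fintype.card_subtype_compl,
      Fintype.card_subtype_eq]
  have hsig : Nat.card {a : A // a ≠ 0} = Nat.card (Sub F K 1) * (m - 1) := by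
    haveI : Fintype (Sub F K 1) := Fintype.ofFinite _
    have hs : Nat.card (Σ P, C P) = Nat.card (Sub F K 1) * (m - 1) := by
      rw [Nat.card_sigma, Finset.sum_congr rfl (fun P _ => hC P), Finset.sum_const, Finset.card_univ, smul_eq_mul,
        Nat.card_eq_fintype_card]
    rw [← hs]
    refine (Nat.card_eq_of_bijective (fun x : Σ P, C P => (⟨⟨(x.2.1 : F) • r x.1, x.2.1.2⟩, fun e => ?_⟩ :
      {a : A // a ≠ 0})) ⟨?_, ?_⟩).symm
    · rcases smul_eq_zero.mp (congrArg Subtype.val e) with h | h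
      · exact x.2.2 (Subtype.ext h)
      · exact hr _ h
    · rintro ⟨P, c, hc⟩ ⟨P', c', hc'⟩ e
      have h1 : (c : F) • r P = (c' : F) • r P' := congrArg (fun a : {a : A // a ≠ 0} => (a.1 : K)) e
      have hPP : P = P' := by
        rw [hP P, hP P']
        refine Subtype.ext ?_
        show F ∙ r P = F ∙ r P'
        rw [← Submodule.span_singleton_smul_eq (Ne.isUnit (fun h => hc (Subtype.ext h))) (r P), h1,
          Submodule.span_singleton_smul_eq (Ne.isUnit (fun h => hc' (Subtype.ext h)))]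
      subst hPP
      have : c = c' := Subtype.ext (smul_left_injective F (hr P) h1)
      subst this
      rfl
    · rintro ⟨⟨χ, hχ⟩, hne⟩
      have hχ0 : χ ≠ 0 := fun e => hne (Subtype.ext e)
      obtain ⟨c, hc, he⟩ := pt_eq_pt (hr (pt χ hχ0)) hχ0 (hP _).symm
      refine ⟨⟨pt χ hχ0, ⟨c, ?_⟩, fun e => hc (congrArg Subtype.val e)⟩, Subtype.ext (Subtype.ext he.symm)⟩
      show TIn G u _
      have : ((χ : K) : Dual F V) = c • (r (pt χ hχ0) : Dual F V) := by rw [← Submodule.coe_smul, ← he]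
      rw [← this]
      exact hχ
  have hA : Nat.card A = Nat.card (Sub F K 1) * (m - 1) + 1 := by
    haveI := Fintype.ofFinite A
    have : Nat.card {a : A // a ≠ 0} = Nat.card A - 1 := by
      rw [Nat.card_eq_fintype_card, Nat.card_eq_fintype_card, Fintype.card_subtype_compl, Fintype.card_subtype_eq]
    rw [← hsig, this, Nat.sub_add_cancel Nat.card_pos]
  obtain ⟨k, hk⟩ := A.card_addSubgroup_dvd_card
  have hpts := card_pts_space (F := F) (V := K)
  rw [hK, Nat.card_units] at hpts
  rw [hK] at hk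
  set R := Nat.card (Sub F K 1)
  set q := Nat.card F
  have hq : 2 ≤ q := Finite.one_lt_card
  have hmq : m ≤ q := Nat.card_le_card_of_injective _ Subtype.val_injective
  obtain ⟨q', hq'⟩ : ∃ q', q = q' + 1 := ⟨q - 1, by omega⟩
  have hpts' : R * q' + 1 = q ^ 4 := by
    have h0 : 0 < q ^ 4 := pow_pos (by omega) 4
    have hq'' : q - 1 = q' := by omega
    rw [hq''] at hpts
    omega
  have hk1 : k = 1 := by
    rw [hA] at hk
    have hk0 : k ≠ 0 := fun h => by rw [h, mul_zero] at hk; omega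
    have hdvd : R ∣ k - 1 := by
      refine (Nat.dvd_add_right (dvd_mul_of_dvd_left (dvd_mul_right R (m - 1)) k)).mp
        (?_ : R ∣ R * (m - 1) * k + (k - 1))
      refine ⟨q', ?_⟩
      have : (R * (m - 1) + 1) * k = R * (m - 1) * k + k := by ring
      omega
    by_contra hne
    have h1 := Nat.le_of_dvd (by omega) hdvd
    have h3 : (R * (m - 1) + 1) * k ≥ (R + 1) * (R + 1) :=
      Nat.mul_le_mul (by have := Nat.mul_le_mul_left R (show 1 ≤ m - 1 by omega); omega) (by omega)
    have h4 : q' ≤ R := by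
      have hq4 : q ^ 2 ≤ q ^ 4 := Nat.pow_le_pow_right (by omega) (by norm_num)
      rw [hq'] at hq4 hpts'
      nlinarith
    nlinarith
  have hmq' : m = q := by
    rw [hA, hk1, mul_one] at hk
    have hR : 0 < R := by
      by_contra h
      rw [show R = 0 by omega, zero_mul] at hpts'
      have := Nat.one_lt_pow (show 4 ≠ 0 by norm_num) (show 1 < q by omega)
      omega
    have : R * (m - 1) = R * q' := by omega
    have := Nat.eq_of_mul_eq_mul_left hR this
    omega
  have hfull : coeffs G u φ hφ = ⊤ := AddSubgroup.eq_top_of_card_eq _ (by rw [hmall φ hφz hφ, hmq'])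
  have : TIn G u ((1 : F) • φ) := (hfull ▸ AddSubgroup.mem_top (1 : F) : (1 : F) ∈ coeffs G u φ hφ)
  rwa [one_smul] at this

end CfsgLib.SingerFive
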