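/-
The `p`-subgroups of the linear groups in dimensions two and three.
-/
import Cfsg.Agent.Lib.SingerFive.Hyper

set_option autoImplicit false
set_option linter.unusedSectionVars false
set_option linter.style.haveILetI false

namespace CfsgLib.SingerFive

open Module

variable {F U : Type*} [Field F] [AddCommGroup U] [Module F U] [Finite U]

theorem card_linearEquiv [Fintype F] {d : ℕ} (hd : finrank F U = d) :
    Nat.card (U ≃ₗ[F] U) = ∏ i : Fin d, (Fintype.card F ^ d - Fintype.card F ^ (i : ℕ)) := by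
  haveI : FiniteDimensional F U := Module.Finite.of_finite
  let e : U ≃ₗ[F] (Fin d → F) := LinearEquiv.ofFinrankEq U (Fin d → F) (by rw [hd, Module.finrank_fin_fun])
  let c : (U ≃ₗ[F] U) ≃ ((Fin d → F) ≃ₗ[F] (Fin d → F)) :=
    { toFun := fun f => e.symm.trans (f.trans e)
      invFun := fun f => e.trans (f.trans e.symm)
      left_inv := fun f => LinearEquiv.ext fun x => by simp
      right_inv := fun f => LinearEquiv.ext fun x => by simp }
  rw [Nat.card_congr c, Nat.card_congr ((Matrix.GeneralLinearGroup.toLin (n := Fin d) (R := F)).trans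
    (LinearMap.GeneralLinearGroup.generalLinearEquiv F (Fin d → F))).toEquiv.symm, Matrix.card_GL_field]

theorem pgroup_card_le (hd : finrank F U = 2 ∨ finrank F U = 3) (p : ℕ) [Fact p.Prime] [CharP F p]
    (H : Subgroup (U ≃ₗ[F] U)) (hH : IsPGroup p H) :
    (finrank F U = 2 → Nat.card H ≤ Nat.card F) ∧ (finrank F U = 3 → Nat.card H ≤ Nat.card F ^ 3) := by
  haveI : Nontrivial U := Module.nontrivial_of_finrank_pos (R := F) (by omega)
  haveI : Finite F := finite_field (V := U)
  haveI : Fintype F := Fintype.ofFinite F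
  haveI : Finite (U ≃ₗ[F] U) := Finite.of_injective (fun g : U ≃ₗ[F] U => (g : U → U)) DFunLike.coe_injective
  obtain ⟨a, ha⟩ := IsPGroup.iff_card.mp hH
  obtain ⟨n, hp, hn⟩ := FiniteField.card F p
  rw [Nat.card_eq_fintype_card (α := F)]
  set q := Fintype.card F
  have hq : 2 ≤ q := Fintype.one_lt_card
  have hpq : p ∣ q := hn ▸ dvd_pow_self p n.ne_zero
  have hdvd := Subgroup.card_subgroup_dvd_card H
  rw [ha] at hdvd ⊢
  have hcop : ∀ {k : ℕ}, k ≠ 0 → Nat.Coprime (p ^ a) (q ^ k - 1) := by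
    intro k hk
    refine Nat.Coprime.pow_left _ ((hp.coprime_iff_not_dvd).mpr fun h => ?_)
    have h1 : p ∣ q ^ k := dvd_pow hpq hk
    have h2 : 1 ≤ q ^ k := Nat.one_le_pow _ _ (by omega)
    have : p ∣ 1 := by
      have := Nat.dvd_sub h1 h
      rwa [Nat.sub_sub_self h2] at this
    exact hp.one_lt.ne' (Nat.dvd_one.mp this)
  constructor
  · intro h
    rw [card_linearEquiv h, Fin.prod_univ_two, show q ^ 2 - q ^ ((0 : Fin 2) : ℕ) = q ^ 2 - 1 by simp,
      show q ^ 2 - q ^ ((1 : Fin 2) : ℕ) = q * (q ^ 1 - 1) by simp [Nat.mul_sub, pow_two],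
      show (q ^ 2 - 1) * (q * (q ^ 1 - 1)) = q * ((q ^ 2 - 1) * (q ^ 1 - 1)) by ring] at hdvd
    exact Nat.le_of_dvd (by omega) (Nat.Coprime.dvd_of_dvd_mul_right ((hcop two_ne_zero).mul_right (hcop one_ne_zero)) hdvd)
  · intro h
    rw [card_linearEquiv h, Fin.prod_univ_three, show q ^ 3 - q ^ ((0 : Fin 3) : ℕ) = q ^ 3 - 1 by simp,
      show q ^ 3 - q ^ ((1 : Fin 3) : ℕ) = q * (q ^ 2 - 1) by simp [Nat.mul_sub, pow_succ, mul_assoc],
      show q ^ 3 - q ^ ((2 : Fin 3) : ℕ) = q ^ 2 * (q ^ 1 - 1) by simp [Nat.mul_sub, pow_succ, mul_assoc],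
      show (q ^ 3 - 1) * (q * (q ^ 2 - 1)) * (q ^ 2 * (q ^ 1 - 1)) =
        q ^ 3 * ((q ^ 3 - 1) * (q ^ 2 - 1) * (q ^ 1 - 1)) by ring] at hdvd
    exact Nat.le_of_dvd (pow_pos (by omega) 3) (Nat.Coprime.dvd_of_dvd_mul_right
      (((hcop three_ne_zero).mul_right (hcop two_ne_zero)).mul_right (hcop one_ne_zero)) hdvd)

/-- A rank one element in a `p`-group of the maximal order of a three-space. -/
theorem exists_rank_one (hd : finrank F U = 3) (p : ℕ) [Fact p.Prime] [CharP F p] (H : Subgroup (U ≃ₗ[F] U))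
    (hH : IsPGroup p H) (hcard : Nat.card F ^ 3 ≤ Nat.card H) :
    ∃ h ∈ H, ∃ u : U, u ≠ 0 ∧ (h : U ≃ₗ[F] U) ≠ 1 ∧ (∀ x, (h : U ≃ₗ[F] U) x - x ∈ F ∙ u) ∧ (h : U ≃ₗ[F] U) u = u := by
  classical
  haveI : FiniteDimensional F U := Module.Finite.of_finite
  haveI : Finite (U ≃ₗ[F] U) := Finite.of_injective (fun g : U ≃ₗ[F] U => (g : U → U)) DFunLike.coe_injective
  obtain ⟨P, hP⟩ := hH.exists_le_sylow
  have hPle := (pgroup_card_le (Or.inr hd) p _ P.2).2 hd
  have hHP : H = P := Subgroup.eq_of_le_of_card_ge hP (hPle.trans hcard)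
  let b := Module.finBasisOfFinrankEq F U hd
  have hf : (b.coord 1) (b 0) = 0 := by simp
  set t := LinearEquiv.transvection hf with ht
  have htp : ∀ k : ℕ, ∀ x, (t ^ k) x = x + (k : F) • (b.coord 1) x • b 0 := by
    intro k
    induction k with
    | zero => intro x; simp
    | succ k ih =>
      intro x
      rw [pow_succ, LinearEquiv.mul_apply, ih, ht, LinearEquiv.transvection.apply, map_add, map_smul, hf,
        smul_zero, add_zero, Nat.cast_succ, add_smul, one_smul, add_assoc]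
      congr 1
      exact add_comm _ _
  have htpp : t ^ p = 1 := LinearEquiv.ext fun x => by
    rw [htp, CharP.cast_eq_zero, zero_smul, add_zero]; rfl
  have hzp : IsPGroup p (Subgroup.zpowers t) := IsPGroup.of_card (n := if t = 1 then 0 else 1) (by
    rw [Nat.card_zpowers]
    split_ifs with h
    · rw [h, orderOf_one, pow_zero]
    · rw [pow_one, orderOf_eq_prime htpp h])
  obtain ⟨Q, hQ⟩ := hzp.exists_le_sylow
  obtain ⟨c, hc⟩ := MulAction.exists_smul_eq (U ≃ₗ[F] U) Q P
  have htQ : t ∈ (Q : Subgroup (U ≃ₗ[F] U)) := hQ (Subgroup.mem_zpowers t)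
  have hmem : c * t * c⁻¹ ∈ H := by
    rw [hHP, ← hc, Sylow.coe_subgroup_smul, Subgroup.pointwise_smul_def]
    exact ⟨t, htQ, rfl⟩
  have hfix : t (b 0) = b 0 := by rw [ht, LinearEquiv.transvection.apply, hf, zero_smul, add_zero]
  refine ⟨_, hmem, c (b 0), c.map_ne_zero_iff.mpr (b.ne_zero 0), ?_, ?_, ?_⟩
  · intro h
    have h1 : t = 1 := by
      rw [mul_inv_eq_one] at h
      exact mul_eq_left.mp h
    have := congrArg (fun e : U ≃ₗ[F] U => e (b 1)) h1
    simp only [ht, LinearEquiv.transvection.apply] at this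
    have h2 : (b.coord 1) (b 1) = 1 := by simp
    rw [h2, one_smul] at this
    exact b.ne_zero 0 (add_eq_left.mp this)
  · intro x
    obtain ⟨y, rfl⟩ := c.surjective x
    show c (t (c.symm (c y))) - c y ∈ _
    rw [c.symm_apply_apply, ← map_sub, ht, LinearEquiv.transvection.apply, add_sub_cancel_left, map_smul]
    exact Submodule.smul_mem _ _ (Submodule.mem_span_singleton_self _)
  · show c (t (c.symm (c (b 0)))) = _
    rw [c.symm_apply_apply, hfix]

end CfsgLib.SingerFive
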