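/-
A group doubly transitive on the points of a five-space contains a transvection.
-/
import Cfsg.Agent.Lib.SingerFive.PGroupBound
import Cfsg.Agent.Lib.MaxSub.ExtLin.Transvection

set_option autoImplicit false
set_option linter.unusedSectionVars false
set_option linter.style.haveILetI false

namespace CfsgLib.SingerFive

open Module
open CfsgLib.MaxSub.ExtLin (UIn TIn)

variable {F V : Type*} [Field F] [AddCommGroup V] [Module F V] [Finite V] {G : Subgroup (V ≃ₗ[F] V)}

/-- A transvection from an element of rank one. -/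
theorem tin_of_rank_one {g : V ≃ₗ[F] V} (hg : g ∈ G) {u : V} (hu : u ≠ 0) (hg1 : g ≠ 1)
    (h : ∀ x, g x - x ∈ F ∙ u) (hgu : g u = u) :
    ∃ φ : Dual F V, φ ≠ 0 ∧ φ u = 0 ∧ TIn G u φ := by
  obtain ⟨π, hπ⟩ := Module.Projective.exists_dual_ne_zero F hu
  let φ : Dual F V := (π u)⁻¹ • π ∘ₗ ((g : V →ₗ[F] V) - LinearMap.id)
  have hφ : ∀ x, φ x • u = g x - x := fun x => by
    obtain ⟨c, hc⟩ := Submodule.mem_span_singleton.mp (h x)
    rw [← hc]
    congr 1
    show (π u)⁻¹ * π (g x - x) = c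
    rw [← hc, map_smul, smul_eq_mul, mul_left_comm, inv_mul_cancel₀ hπ, mul_one]
  refine ⟨φ, fun e => hg1 (LinearEquiv.ext fun x => ?_), ?_, g, hg, fun x => ?_⟩
  · have := hφ x
    rw [e, LinearMap.zero_apply, zero_smul] at this
    exact sub_eq_zero.mp this.symm
  · have := hφ u
    rw [hgu, sub_self] at this
    exact (smul_eq_zero.mp this).resolve_right hu
  · rw [LinearMap.smulRight_apply, hφ, add_sub_cancel]

/-- The lines of a space. -/
theorem card_lines_space [Nontrivial V] :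
    Nat.card (Sub F V 2) * ((Nat.card F + 1) * Nat.card F) =
      Nat.card (Sub F V 1) * (Nat.card (Sub F V 1) - 1) := by
  classical
  haveI : Fintype (Sub F V 2) := Fintype.ofFinite _
  have h := sum_pairs (F := F) (V := V) fun _ => True
  simp only [and_true] at h
  rw [Finset.sum_congr rfl fun W _ => by rw [card_on_line, Nat.add_sub_cancel], Finset.sum_const, smul_eq_mul,
    Finset.card_univ, ← Nat.card_eq_fintype_card, Nat.card_congr (Equiv.subtypeUnivEquiv fun _ => trivial)] at h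
  exact h

theorem card_lines_three [Nontrivial V] [Finite F] (hn : finrank F V = 3) :
    Nat.card (Sub F V 2) = Nat.card F ^ 2 + Nat.card F + 1 := by
  have h := card_lines_space (F := F) (V := V)
  have hp := card_pts_space (F := F) (V := V)
  haveI : FiniteDimensional F V := Module.Finite.of_finite
  rw [Module.natCard_eq_pow_finrank (K := F) (V := V), hn, Nat.card_units] at hp
  obtain ⟨q', hq'⟩ : ∃ q', Nat.card F = q' + 1 := ⟨Nat.card F - 1, by have := Nat.card_pos (α := F); omega⟩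
  rw [hq', Nat.add_sub_cancel] at hp
  have hq0 : 0 < q' := by have := Finite.one_lt_card (α := F); omega
  have hR : Nat.card (Sub F V 1) = (q' + 1) ^ 2 + (q' + 1) + 1 := by
    refine Nat.eq_of_mul_eq_mul_right hq0 (hp.trans ?_)
    rw [Nat.sub_eq_iff_eq_add (Nat.one_le_pow _ (q' + 1) (by omega))]
    ring
  rw [hR, hq', show (q' + 1) ^ 2 + (q' + 1) + 1 - 1 = (q' + 1 + 1) * (q' + 1) by
    rw [Nat.add_sub_cancel]; ring] at h
  rw [hq']
  exact Nat.eq_of_mul_eq_mul_right (Nat.mul_pos (show 0 < q' + 1 + 1 by omega) (show 0 < q' + 1 by omega)) h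

theorem card_lines_five [Nontrivial V] [Finite F] (hn : finrank F V = 5) :
    Nat.card (Sub F V 2) =
      (Nat.card F ^ 4 + Nat.card F ^ 3 + Nat.card F ^ 2 + Nat.card F + 1) * (Nat.card F ^ 2 + 1) := by
  have h := card_lines_space (F := F) (V := V)
  have hp := card_pts_space (F := F) (V := V)
  haveI : FiniteDimensional F V := Module.Finite.of_finite
  rw [Module.natCard_eq_pow_finrank (K := F) (V := V), hn, Nat.card_units] at hp
  obtain ⟨q', hq'⟩ : ∃ q', Nat.card F = q' + 1 := ⟨Nat.card F - 1, by have := Nat.card_pos (α := F); omega⟩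
  rw [hq', Nat.add_sub_cancel] at hp
  have hq0 : 0 < q' := by have := Finite.one_lt_card (α := F); omega
  have hR : Nat.card (Sub F V 1) = (q' + 1) ^ 4 + (q' + 1) ^ 3 + (q' + 1) ^ 2 + (q' + 1) + 1 := by
    refine Nat.eq_of_mul_eq_mul_right hq0 (hp.trans ?_)
    rw [Nat.sub_eq_iff_eq_add (Nat.one_le_pow _ (q' + 1) (by omega))]
    ring
  rw [hR, hq', show (q' + 1) ^ 4 + (q' + 1) ^ 3 + (q' + 1) ^ 2 + (q' + 1) + 1 - 1 =
    ((q' + 1) ^ 2 + 1) * ((q' + 1 + 1) * (q' + 1)) by rw [Nat.add_sub_cancel]; ring] at h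
  rw [hq']
  refine Nat.eq_of_mul_eq_mul_right (Nat.mul_pos (show 0 < q' + 1 + 1 by omega) (show 0 < q' + 1 by omega)) (h.trans ?_)
  ring

/-- Transitivity on lines. -/
theorem exists_line_smul (h2 : PairTrans G) (W W' : Sub F V 2) : ∃ g ∈ G, (g : V ≃ₗ[F] V) • W = W' := by
  obtain ⟨a, b, hli, rfl⟩ := exists_line2 W
  obtain ⟨a', b', hli', rfl⟩ := exists_line2 W'
  have hne : ∀ {a b : V} (hli : LinearIndependent F ![a, b]),
      (pt a (hli.ne_zero 0) : Sub F V 1) ≠ pt b (hli.ne_zero 1) := fun hli e => by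
    obtain ⟨c, -, hc⟩ := pt_eq_pt (hli.ne_zero 0) (hli.ne_zero 1) e
    exact ((LinearIndependent.pair_iff' (hli.ne_zero 0)).mp hli) c hc.symm
  obtain ⟨g, hg, e1, e2⟩ := h2 _ _ _ _ (hne hli) (hne hli')
  refine ⟨g, hg, (existsUnique_line _ _ (hne hli')).unique ⟨?_, ?_⟩
    ⟨(pt_le_iff _ _).mpr (Submodule.subset_span (by simp)), (pt_le_iff _ _).mpr (Submodule.subset_span (by simp))⟩⟩
  · rw [← e1]; exact Submodule.map_mono ((pt_le_iff _ _).mpr (Submodule.subset_span (by simp)))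
  · rw [← e2]; exact Submodule.map_mono ((pt_le_iff _ _).mpr (Submodule.subset_span (by simp)))

/-- Elements trivial on every line and its quotient give a transvection. -/
theorem exists_transvection_of_small (h2 : PairTrans G) (hn : finrank F V = 5) {g₀ : V ≃ₗ[F] V} (hg₀ : g₀ ∈ G)
    (hne : g₀ ≠ 1) {W₀ : Sub F V 2} (h1 : ∀ x ∈ W₀.1, g₀ x = x) (him : ∀ x, g₀ x - x ∈ W₀.1) :
    ∃ (u : V) (φ : Dual F V), u ≠ 0 ∧ φ ≠ 0 ∧ φ u = 0 ∧ TIn G u φ := by
  classical
  haveI : FiniteDimensional F V := Module.Finite.of_finite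
  haveI : Nontrivial V := Module.nontrivial_of_finrank_pos (R := F) (by omega)
  haveI : Finite F := finite_field (V := V)
  by_contra hno
  have hrank : ∀ g ∈ G, g ≠ 1 → ∀ u : V, g u = u → ¬ ∀ x, g x - x ∈ F ∙ u := by
    intro g hg hg1 u hgu h
    by_cases hu : u = 0
    · refine hg1 (LinearEquiv.ext fun x => sub_eq_zero.mp ?_)
      simpa [hu] using h x
    · obtain ⟨φ, hφ, hφu, hT⟩ := tin_of_rank_one hg hu hg1 h hgu
      exact hno ⟨u, φ, hu, hφ, hφu, hT⟩
  have hex : ∀ W : Sub F V 2, ∃ g ∈ G, g ≠ 1 ∧ (∀ x ∈ W.1, (g : V ≃ₗ[F] V) x = x) ∧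
      ∀ x, (g : V ≃ₗ[F] V) x - x ∈ W.1 := by
    intro W
    obtain ⟨k, hk, rfl⟩ := exists_line_smul h2 W₀ W
    refine ⟨k * g₀ * k⁻¹, mul_mem (mul_mem hk hg₀) (inv_mem hk), fun e => hne ?_, ?_, ?_⟩
    · rw [mul_inv_eq_one] at e
      exact mul_eq_left.mp e
    · intro x hx
      obtain ⟨y, hy, rfl⟩ := hx
      show k (g₀ (k.symm (k y))) = k y
      rw [k.symm_apply_apply, h1 y hy]
    · intro x
      obtain ⟨y, rfl⟩ := k.surjective x
      show k (g₀ (k.symm (k y))) - k y ∈ _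
      rw [k.symm_apply_apply, ← map_sub]
      exact mem_sub_smul k W₀ (him y)
  choose g hg hg1 hgW hgim using hex
  let X : Sub F V 2 → (V →ₗ[F] V) := fun W => (g W : V →ₗ[F] V) - LinearMap.id
  have hXapp : ∀ W x, X W x = g W x - x := fun W x => rfl
  let K : Sub F V 2 → Submodule F V := fun W => LinearMap.ker (X W)
  have hWK : ∀ W, W.1 ≤ K W := fun W x hx => by
    rw [LinearMap.mem_ker, hXapp, hgW W x hx, sub_self]
  have hrange : ∀ W, LinearMap.range (X W) = W.1 := by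
    intro W
    have hle : LinearMap.range (X W) ≤ W.1 := by rintro _ ⟨x, rfl⟩; exact hgim W x
    refine Submodule.eq_of_le_of_finrank_le hle ?_
    rw [W.2]
    by_contra hlt
    push Not at hlt
    obtain ⟨u, hu⟩ : ∃ u, LinearMap.range (X W) ≤ F ∙ u ∧ u ∈ W.1 := by
      rcases Nat.eq_zero_or_pos (finrank F (LinearMap.range (X W))) with h0 | h0
      · exact ⟨0, by rw [Submodule.finrank_eq_zero.mp h0]; exact bot_le, zero_mem _⟩
      · obtain ⟨⟨u, hu⟩, -, hspan⟩ := finrank_eq_one_iff'.mp (show finrank F (LinearMap.range (X W)) = 1 by omega)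
        refine ⟨u, fun x hx => ?_, hle hu⟩
        obtain ⟨c, hc⟩ := hspan ⟨x, hx⟩
        exact Submodule.mem_span_singleton.mpr ⟨c, congrArg Subtype.val hc⟩
    exact hrank _ (hg W) (hg1 W) u (hgW W u hu.2) fun x => hu.1 ⟨x, rfl⟩
  have hK3 : ∀ W, finrank F (K W) = 3 := by
    intro W
    have := (X W).finrank_range_add_finrank_ker
    rw [hrange, W.2, hn] at this
    show finrank F (LinearMap.ker (X W)) = 3
    omega
  have hXX : ∀ W x, X W (X W x) = 0 := fun W x => LinearMap.mem_ker.mp (hWK W (hrange W ▸ ⟨x, rfl⟩))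
  have hUIn : ∀ W, UIn G (X W) := fun W => ⟨g W, hg W, fun x => by rw [hXapp, add_sub_cancel]⟩
  have hrel : ∀ L L' : Sub F V 2, L.1 ≤ K L' → L'.1 ≤ K L := by
    intro L L' h
    by_contra hnot
    have hYX : ∀ x, X L' (X L x) = 0 := fun x => LinearMap.mem_ker.mp (h (hrange L ▸ ⟨x, rfl⟩))
    obtain ⟨c, hc, hcx⟩ := UIn.commutator (hUIn L) (hUIn L') (hXX L) (hXX L') hYX
    -- a common point
    obtain ⟨y, hyL, hyL', hy⟩ : ∃ y, y ∈ L.1 ∧ y ∈ L'.1 ∧ y ≠ 0 := by
      by_contra hc'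
      push Not at hc'
      have hinf : L.1 ⊓ L'.1 = ⊥ := eq_bot_iff.mpr fun x hx => (Submodule.mem_bot F).mpr (hc' x hx.1 hx.2)
      have h1 := Submodule.finrank_sup_add_finrank_inf_eq L.1 L'.1
      have h3 := Submodule.finrank_mono (sup_le h (hWK L'))
      rw [hinf, finrank_bot, L.2, L'.2] at h1
      rw [hK3] at h3
      omega
    let f : L'.1 →ₗ[F] V := (X L).domRestrict L'.1
    have hf1 : 1 ≤ finrank F (LinearMap.ker f) := by
      refine Submodule.one_le_finrank_iff.mpr fun e => ?_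
      have hmem : (⟨y, hyL'⟩ : L'.1) ∈ LinearMap.ker f := LinearMap.mem_ker.mpr (LinearMap.mem_ker.mp (hWK L hyL))
      rw [e, Submodule.mem_bot] at hmem
      exact hy (congrArg Subtype.val hmem)
    have hf2 : finrank F (LinearMap.range f) ≤ 1 := by
      have := f.finrank_range_add_finrank_ker
      rw [L'.2] at this
      omega
    obtain ⟨z, hz, hzK⟩ := SetLike.not_le_iff_exists.mp hnot
    have hu : X L z ≠ 0 := fun e => hzK (LinearMap.mem_ker.mpr e)
    have hspan : F ∙ X L z = LinearMap.range f := Submodule.eq_of_le_of_finrank_le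
      ((Submodule.span_singleton_le_iff_mem _ _).mpr ⟨⟨z, hz⟩, rfl⟩) (by rw [finrank_span_singleton hu]; exact hf2)
    obtain ⟨z', hz'⟩ : ∃ z', X L' z' = z := LinearMap.mem_range.mp ((hrange L').symm ▸ hz)
    refine hrank c hc ?_ (X L z) ?_ ?_
    · intro e
      have := hcx z'
      rw [e, LinearMap.comp_apply, hz'] at this
      exact hu (add_eq_left.mp this.symm)
    · rw [hcx, LinearMap.comp_apply, hYX, map_zero, add_zero]
    · intro x
      rw [hcx, add_sub_cancel_left, LinearMap.comp_apply, hspan]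
      exact ⟨⟨X L' x, hrange L' ▸ ⟨x, rfl⟩⟩, rfl⟩
  have hsame : ∀ L L' : Sub F V 2, L.1 ≤ K L' → K L = K L' := by
    intro L L' h
    by_cases he : L = L'
    · rw [he]
    have h' := hrel L L' h
    have hlt : L.1 < L.1 ⊔ L'.1 := lt_of_le_of_ne le_sup_left fun e => he (Subtype.ext
      (Submodule.eq_of_le_of_finrank_le (e.symm ▸ le_sup_right) (le_of_eq (L.2.trans L'.2.symm))).symm)
    have h3 := Submodule.finrank_lt_finrank_of_lt hlt
    rw [L.2] at h3
    exact (Submodule.eq_of_le_of_finrank_le (sup_le (hWK L) h') (by rw [hK3]; omega)).symm.trans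
      (Submodule.eq_of_le_of_finrank_le (sup_le h (hWK L')) (by rw [hK3]; omega))
  -- the fibres of `K` have the same size
  let im := Set.range K
  have hfib : ∀ D : im, Nat.card {L : Sub F V 2 // (⟨K L, L, rfl⟩ : im) = D} = Nat.card F ^ 2 + Nat.card F + 1 := by
    rintro ⟨_, L₀, rfl⟩
    haveI : Nontrivial (K L₀) := Module.nontrivial_of_finrank_pos (R := F) (by rw [hK3]; norm_num)
    rw [← card_lines_three (F := F) (V := K L₀) (hK3 L₀)]
    refine Nat.card_congr
      { toFun := fun L => ⟨L.1.1.comap (K L₀).subtype, ?_⟩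
        invFun := fun U => ⟨⟨U.1.map (K L₀).subtype, ?_⟩, ?_⟩
        left_inv := fun L => ?_
        right_inv := fun U => ?_ }
    · have hle : L.1.1 ≤ K L₀ := (hWK L.1).trans (congrArg Subtype.val L.2).le
      rw [(Submodule.comapSubtypeEquivOfLe hle).finrank_eq, L.1.2]
    · rw [Submodule.finrank_map_subtype_eq, U.2]
    · exact Subtype.ext (hsame _ L₀ (Submodule.map_subtype_le _ _))
    · refine Subtype.ext (Subtype.ext ?_)
      show Submodule.map (K L₀).subtype (L.1.1.comap (K L₀).subtype) = L.1.1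
      rw [Submodule.map_comap_subtype, inf_eq_right]
      exact (hWK L.1).trans (congrArg Subtype.val L.2).le
    · refine Subtype.ext ?_
      show (U.1.map (K L₀).subtype).comap (K L₀).subtype = U.1
      rw [Submodule.comap_map_eq_of_injective (Submodule.subtype_injective _)]
  haveI : Finite im := Finite.of_surjective (fun L : Sub F V 2 => (⟨K L, L, rfl⟩ : im)) fun ⟨_, L, rfl⟩ => ⟨L, rfl⟩
  haveI : Fintype im := Fintype.ofFinite _
  have hsum : Nat.card (Sub F V 2) = Nat.card im * (Nat.card F ^ 2 + Nat.card F + 1) := by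
    rw [← Nat.card_congr (Equiv.sigmaFiberEquiv fun L : Sub F V 2 => (⟨K L, L, rfl⟩ : im)), Nat.card_sigma,
      Finset.sum_congr rfl (fun D _ => hfib D), Finset.sum_const, Finset.card_univ, smul_eq_mul, Nat.card_eq_fintype_card (α := im)]
  rw [card_lines_five hn] at hsum
  set q := Nat.card F
  have hq : 2 ≤ q := Finite.one_lt_card
  have h1 : q ^ 2 + q + 1 ∣ 1 := by
    have e : (q ^ 4 + q ^ 3 + q ^ 2 + q + 1) * (q ^ 2 + 1) = (q ^ 2 + q + 1) * (q ^ 4 + q ^ 2 + q) + 1 := by ring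
    have hd : q ^ 2 + q + 1 ∣ (q ^ 2 + q + 1) * (q ^ 4 + q ^ 2 + q) + 1 := ⟨Nat.card im, by rw [← e, hsum, mul_comm]⟩
    exact (Nat.dvd_add_right (dvd_mul_right _ _)).mp hd
  have := Nat.le_of_dvd one_pos h1
  omega

/-- A transvection exists. -/
theorem exists_transvection (h2 : PairTrans G) (hn : finrank F V = 5) :
    ∃ (u : V) (φ : Dual F V), u ≠ 0 ∧ φ ≠ 0 ∧ φ u = 0 ∧ TIn G u φ := by
  classical
  haveI : FiniteDimensional F V := Module.Finite.of_finite
  haveI : Nontrivial V := Module.nontrivial_of_finrank_pos (R := F) (by omega)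
  haveI : Finite F := finite_field (V := V)
  haveI : Fintype F := Fintype.ofFinite F
  obtain ⟨p, hp⟩ := CharP.exists F
  haveI : Fact p.Prime := ⟨CharP.char_is_prime F p⟩
  haveI : Finite (V ≃ₗ[F] V) := Finite.of_injective (fun g : V ≃ₗ[F] V => (g : V → V)) DFunLike.coe_injective
  let b := Module.finBasisOfFinrankEq F V hn
  have hbli : LinearIndependent F ![b 0, b 1] := by
    have := b.linearIndependent.comp ![(0 : Fin 5), 1] (by decide)
    rwa [show (![b 0, b 1] : Fin 2 → V) = ⇑b ∘ ![(0 : Fin 5), 1] from funext fun i => by fin_cases i <;> rfl]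
  let W : Sub F V 2 := line2 hbli
  by_cases hE : ∃ g ∈ G, g ≠ 1 ∧ (∀ x ∈ W.1, (g : V ≃ₗ[F] V) x = x) ∧ ∀ x, (g : V ≃ₗ[F] V) x - x ∈ W.1
  · obtain ⟨g, hg, hg1, h1, him⟩ := hE
    exact exists_transvection_of_small h2 hn hg hg1 h1 him
  push Not at hE
  have hE' : ∀ g ∈ G, (∀ x ∈ W.1, (g : V ≃ₗ[F] V) x = x) → (∀ x, (g : V ≃ₗ[F] V) x - x ∈ W.1) → g = 1 :=
    fun g hg h1 h2' => by_contra fun hne => by
      obtain ⟨x, hx⟩ := hE g hg hne h1
      exact hx (h2' x)
  let S : Subgroup G := MulAction.stabilizer G W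
  have hS : ∀ s : S, ((s : G) : V ≃ₗ[F] V) • W = W := fun s => MulAction.mem_stabilizer_iff.mp s.2
  have hSmem : ∀ (s : S) (x : V), x ∈ W.1 → ((s : G) : V ≃ₗ[F] V) x ∈ W.1 := fun s x hx => by
    have := mem_sub_smul ((s : G) : V ≃ₗ[F] V) W hx
    rwa [hS s] at this
  have hSmap : ∀ s : S, W.1.map (((s : G) : V ≃ₗ[F] V) : V →ₗ[F] V) = W.1 := fun s => congrArg Subtype.val (hS s)
  let ρ : S →* (W.1 ≃ₗ[F] W.1) :=
    { toFun := fun s => ((s : G) : V ≃ₗ[F] V).ofSubmodules W.1 W.1 (hSmap s)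
      map_one' := LinearEquiv.ext fun x => Subtype.ext rfl
      map_mul' := fun s t => LinearEquiv.ext fun x => Subtype.ext rfl }
  let σ : S →* ((V ⧸ W.1) ≃ₗ[F] (V ⧸ W.1)) :=
    { toFun := fun s => Submodule.Quotient.equiv W.1 W.1 ((s : G) : V ≃ₗ[F] V) (hSmap s)
      map_one' := LinearEquiv.ext fun x => by
        induction x using Submodule.Quotient.induction_on with
        | H y => rfl
      map_mul' := fun s t => LinearEquiv.ext fun x => by
        induction x using Submodule.Quotient.induction_on with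
        | H y => rfl }
  have hρ : ∀ (s : S) (x : W.1), ((ρ s x : W.1) : V) = ((s : G) : V ≃ₗ[F] V) x := fun s x => rfl
  have hσ : ∀ s : S, σ s = 1 → ∀ x, ((s : G) : V ≃ₗ[F] V) x - x ∈ W.1 := fun s h x =>
    (Submodule.Quotient.eq W.1).mp (congrArg (fun e : (V ⧸ W.1) ≃ₗ[F] (V ⧸ W.1) => e (Submodule.Quotient.mk x)) h)
  have htriv : ∀ s : S, ρ s = 1 → σ s = 1 → s = 1 := fun s h h' => Subtype.ext (Subtype.ext
    (hE' _ (s : G).2 (fun x hx => by
      have := hρ s ⟨x, hx⟩
      rw [h] at this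
      exact this.symm) (hσ s h')))
  -- the size of a Sylow subgroup of the stabiliser
  set q := Nat.card F with hq
  have hq2 : 2 ≤ q := Finite.one_lt_card
  obtain ⟨n, -, hpn⟩ := FiniteField.card F p
  rw [← Nat.card_eq_fintype_card, ← hq] at hpn
  have hSdvd : q ^ 4 ∣ Nat.card S := by
    have h1 := pow_four_dvd h2 hn
    have horb : MulAction.orbit G W = Set.univ := Set.eq_univ_of_forall fun W' => by
      obtain ⟨g, hg, e⟩ := exists_line_smul h2 W W'
      exact ⟨⟨g, hg⟩, e⟩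
    have h3 : Nat.card (Sub F V 2) * Nat.card S = Nat.card G := by
      have hidx : S.index = Nat.card (Sub F V 2) := by
        rw [Subgroup.index_eq_card, ← Nat.card_congr (MulAction.orbitEquivQuotientStabilizer G W), horb,
          Nat.card_congr (Equiv.Set.univ _)]
      rw [← hidx, mul_comm, S.card_mul_index]
    rw [← h3, card_lines_five hn, ← hq] at h1
    have hp1 := (CharP.char_is_prime F p).one_lt
    have hpq : p ∣ q := hpn ▸ dvd_pow_self p n.ne_zero
    have hcop : Nat.Coprime p ((q ^ 4 + q ^ 3 + q ^ 2 + q + 1) * (q ^ 2 + 1)) := by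
      refine ((CharP.char_is_prime F p).coprime_iff_not_dvd).mpr fun h => ?_
      rw [show (q ^ 4 + q ^ 3 + q ^ 2 + q + 1) * (q ^ 2 + 1) =
        q * (q ^ 5 + q ^ 4 + 2 * q ^ 3 + 2 * q ^ 2 + 2 * q + 1) + 1 by ring] at h
      have := Nat.le_of_dvd one_pos ((Nat.dvd_add_right (dvd_mul_of_dvd_left hpq _)).mp h)
      omega
    have hcop' := Nat.Coprime.pow_left ((n : ℕ) * 4) hcop
    rw [pow_mul, ← hpn] at hcop'
    exact hcop'.dvd_of_dvd_mul_left h1
  obtain ⟨R⟩ := (inferInstance : Nonempty (Sylow p S))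
  have hR : q ^ 4 ≤ Nat.card R := by
    refine Nat.le_of_dvd Nat.card_pos ?_
    obtain ⟨R', hR'⟩ : ∃ k, Nat.card R = p ^ k := IsPGroup.iff_card.mp R.2
    rw [hR', hpn, ← pow_mul]
    refine pow_dvd_pow p ?_
    rw [R.card_eq_multiplicity] at hR'
    rw [← Nat.pow_right_injective (CharP.char_is_prime F p).two_le hR']
    rw [hpn, ← pow_mul] at hSdvd
    exact ((CharP.char_is_prime F p).pow_dvd_iff_le_factorization Nat.card_pos.ne').mp hSdvd
  have hW3 : finrank F (V ⧸ W.1) = 3 := by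
    have := Submodule.finrank_quotient_add_finrank W.1
    rw [W.2, hn] at this
    omega
  haveI : Finite (V ⧸ W.1) := Quotient.finite _
  haveI : Finite (W.1 ≃ₗ[F] W.1) := Finite.of_injective (fun g : W.1 ≃ₗ[F] W.1 => (g : W.1 → W.1)) DFunLike.coe_injective
  haveI : Finite ((V ⧸ W.1) ≃ₗ[F] (V ⧸ W.1)) :=
    Finite.of_injective (fun g : (V ⧸ W.1) ≃ₗ[F] (V ⧸ W.1) => (g : (V ⧸ W.1) → (V ⧸ W.1))) DFunLike.coe_injective
  let fρ : R →* (W.1 ≃ₗ[F] W.1) := ρ.comp (R : Subgroup S).subtype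
  let fσ : R →* ((V ⧸ W.1) ≃ₗ[F] (V ⧸ W.1)) := σ.comp (R : Subgroup S).subtype
  have hrρ : Nat.card fρ.range ≤ q := (pgroup_card_le (Or.inl W.2) p _
    (IsPGroup.of_surjective R.2 fρ.rangeRestrict fρ.rangeRestrict_surjective)).1 W.2
  have hrσ : Nat.card fσ.range ≤ q ^ 3 := (pgroup_card_le (Or.inr hW3) p _
    (IsPGroup.of_surjective R.2 fσ.rangeRestrict fσ.rangeRestrict_surjective)).2 hW3
  have hkρ : q ^ 3 ≤ Nat.card fρ.ker := by
    have := fρ.ker.card_mul_index
    rw [Subgroup.index_ker] at this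
    have h := hR
    rw [← this, pow_succ] at h
    exact Nat.le_of_mul_le_mul_right (h.trans (Nat.mul_le_mul_left _ hrρ)) (by omega)
  obtain ⟨z, hz, hz1⟩ : ∃ z : R, z ∈ fσ.ker ∧ z ≠ 1 := by
    by_contra hc
    push Not at hc
    have hk : fσ.ker = ⊥ := eq_bot_iff.mpr fun x hx => Subgroup.mem_bot.mpr (hc x hx)
    have := fσ.ker.card_mul_index
    rw [Subgroup.index_ker, hk, Subgroup.card_bot, one_mul] at this
    rw [← this] at hR
    have h34 : q ^ 3 < q ^ 4 := Nat.pow_lt_pow_right (by omega) (by norm_num)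
    omega
  set z0 := ((z : S) : G) with hz0
  have hzW : ρ (z : S) ≠ 1 := fun h => hz1 (Subtype.ext (htriv (z : S) h hz))
  -- the unipotent element on the line
  let T : W.1 →ₗ[F] W.1 := (ρ (z : S) : W.1 →ₗ[F] W.1) - LinearMap.id
  have hTnil : IsNilpotent T := by
    obtain ⟨k, hk⟩ := R.2 z
    haveI : Nontrivial W.1 := Module.nontrivial_of_finrank_pos (R := F) (by rw [W.2]; norm_num)
    haveI : CharP (Module.End F W.1) p := charP_of_injective_algebraMap (FaithfulSMul.algebraMap_injective F _) p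
    refine ⟨p ^ k, ?_⟩
    have hpow : (ρ (z : S) : Module.End F W.1) ^ (p ^ k) = 1 := by
      have : ρ (z : S) ^ (p ^ k) = 1 := by rw [← map_pow, show (z : S) ^ (p ^ k) = 1 from congrArg Subtype.val hk, map_one]
      have hcoe : ∀ j : ℕ, (ρ (z : S) : Module.End F W.1) ^ j = ((ρ (z : S) ^ j : W.1 ≃ₗ[F] W.1) : Module.End F W.1) := fun j => by
        induction j with
        | zero => rfl
        | succ j ih => rw [pow_succ, pow_succ, ih]; rfl
      rw [hcoe, this]
      rfl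
    show ((ρ (z : S) : Module.End F W.1) - 1) ^ (p ^ k) = 0
    rw [sub_pow_char_pow_of_commute (p := p) (n := k) (h := Commute.one_right _), hpow, one_pow, sub_self]
  obtain ⟨m, hm⟩ := hTnil
  have hT0 : T ≠ 0 := fun h => hzW (LinearEquiv.ext fun x => sub_eq_zero.mp (LinearMap.congr_fun h x))
  obtain ⟨c, hc, hTc, hTim⟩ : ∃ c : W.1, c ≠ 0 ∧ T c = 0 ∧ ∀ x, ∃ a : F, T x = a • c := by
    have hker : LinearMap.ker T ≠ ⊥ := fun h => by
      have hinj : Function.Injective (T ^ m : Module.End F W.1) := by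
        rw [Module.End.coe_pow]
        exact (LinearMap.ker_eq_bot.mp h).iterate m
      rw [hm] at hinj
      haveI : Nontrivial W.1 := Module.nontrivial_of_finrank_pos (R := F) (by rw [W.2]; norm_num)
      obtain ⟨x, hx⟩ := exists_ne (0 : W.1)
      exact hx (hinj (a₁ := x) (a₂ := 0) rfl)
    have h1 := T.finrank_range_add_finrank_ker
    have h2' := Submodule.one_le_finrank_iff.mpr hker
    have h3 : 1 ≤ finrank F (LinearMap.range T) := Submodule.one_le_finrank_iff.mpr fun h => hT0 (LinearMap.range_eq_bot.mp h)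
    have hW2 : finrank F W.1 = 2 := W.2
    obtain ⟨c, hc0, hcs⟩ := finrank_eq_one_iff'.mp (show finrank F (LinearMap.range T) = 1 by omega)
    have hc' : (c : W.1) ≠ 0 := fun e => hc0 (Subtype.ext e)
    obtain ⟨μ, hμ⟩ := hcs ⟨T c, c, rfl⟩
    have hμ' : T c = μ • (c : W.1) := (congrArg Subtype.val hμ).symm
    refine ⟨c, hc', ?_, fun x => ?_⟩
    · by_contra hne
      have hμ0 : μ ≠ 0 := fun e => hne (by rw [hμ', e, zero_smul])
      have : ∀ j : ℕ, (T ^ j : Module.End F W.1) c = μ ^ j • (c : W.1) := fun j => by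
        induction j with
        | zero => simp
        | succ j ih => rw [pow_succ', Module.End.mul_apply, ih, map_smul, hμ', smul_smul, ← pow_succ]
      have h' := this m
      rw [hm, LinearMap.zero_apply, eq_comm, smul_eq_zero] at h'
      exact h'.elim (pow_ne_zero _ hμ0) hc'
    · obtain ⟨a, ha⟩ := hcs ⟨T x, x, rfl⟩
      exact ⟨a, (congrArg Subtype.val ha).symm⟩
  have hcV : (c : V) ≠ 0 := fun e => hc (Subtype.ext e)
  have hcW : (pt (c : V) hcV : Sub F V 1).1 ≤ W.1 := (pt_le_iff _ _).mpr c.2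
  obtain ⟨Q, hQW, hQne⟩ : ∃ Q : Sub F V 1, Q.1 ≤ W.1 ∧ Q ≠ pt (c : V) hcV := by
    by_contra h
    push Not at h
    have h1 : Nat.card {Q : Sub F V 1 // Q.1 ≤ W.1} ≤ 1 :=
      Finite.card_le_one_iff_subsingleton.mpr ⟨fun a b => Subtype.ext ((h a.1 a.2).trans (h b.1 b.2).symm)⟩
    rw [card_on_line, ← hq] at h1
    omega
  obtain ⟨g, hg, e1, e2⟩ := h2 (pt (c : V) hcV) Q Q (pt (c : V) hcV) hQne.symm hQne
  have hgW : (g : V ≃ₗ[F] V) • W = W := by
    refine (existsUnique_line _ _ hQne.symm).unique ⟨?_, ?_⟩ ⟨hcW, hQW⟩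
    · rw [← e2]; exact Submodule.map_mono hQW
    · rw [← e1]; exact Submodule.map_mono hcW
  have hgmem : ∀ x ∈ W.1, g x ∈ W.1 := fun x hx => by
    have := mem_sub_smul g W hx
    rwa [hgW] at this
  have hgmem' : ∀ x ∈ W.1, g.symm x ∈ W.1 := fun x hx => by
    have : x ∈ (g • W).1 := by rw [hgW]; exact hx
    obtain ⟨y, hy, rfl⟩ := this
    rwa [LinearEquiv.coe_coe, g.symm_apply_apply]
  set c' : V := g c with hc'
  have hc'0 : c' ≠ 0 := g.map_ne_zero_iff.mpr hcV
  have hind : LinearIndependent F ![(c : V), c'] := by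
    refine indep_of_ne hcV hc'0 ?_
    rw [show (pt c' hc'0 : Sub F V 1) = g • pt (c : V) hcV from (smul_pt g _ hcV).symm, e1]
    exact hQne.symm
  have hWspan : ∀ x ∈ W.1, ∃ s t : F, x = s • (c : V) + t • c' := fun x hx => by
    have h1 : (line2 hind).1 = W.1 := Submodule.eq_of_le_of_finrank_le (Submodule.span_le.mpr (by
      rintro y (rfl | rfl)
      · exact c.2
      · exact hgmem _ c.2)) (le_of_eq (W.2.trans (line2 hind).2.symm))
    obtain ⟨s, t, e⟩ := Submodule.mem_span_pair.mp (show x ∈ (line2 hind).1 by rw [h1]; exact hx)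
    exact ⟨s, t, e.symm⟩
  have hzc : (z0 : V ≃ₗ[F] V) (c : V) = c := sub_eq_zero.mp (congrArg Subtype.val hTc)
  obtain ⟨a, ha⟩ := hTim ⟨c', hgmem _ c.2⟩
  have hza : (z0 : V ≃ₗ[F] V) c' = c' + a • (c : V) := by
    have := congrArg Subtype.val ha
    simp only [Submodule.coe_smul] at this
    rw [← this, ← sub_eq_iff_eq_add']
    rfl
  set z' : V ≃ₗ[F] V := g * (z0 : V ≃ₗ[F] V) * g⁻¹ with hz'
  have hz'c' : z' c' = c' := by
    show g ((z0 : V ≃ₗ[F] V) (g.symm (g c))) = g c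
    rw [g.symm_apply_apply, hzc]
  obtain ⟨d, hd⟩ := hTim ⟨g.symm (c : V), hgmem' _ c.2⟩
  have hz'c : z' c = (c : V) + d • c' := by
    show g ((z0 : V ≃ₗ[F] V) (g.symm c)) = _
    have := congrArg Subtype.val hd
    simp only [Submodule.coe_smul] at this
    rw [show (z0 : V ≃ₗ[F] V) (g.symm c) = g.symm c + d • (c : V) by rw [← this, ← sub_eq_iff_eq_add']; rfl,
      map_add, map_smul, g.apply_symm_apply]
  have ha0 : a ≠ 0 := fun e => hzW (LinearEquiv.ext fun x => Subtype.ext (by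
    obtain ⟨s, t, hx⟩ := hWspan x x.2
    show (z0 : V ≃ₗ[F] V) (x : V) = x
    rw [hx, map_add, map_smul, map_smul, hzc, hza, e, zero_smul, add_zero]))
  have hd0 : d ≠ 0 := fun e => hzW (LinearEquiv.ext fun x => Subtype.ext (by
    show (z0 : V ≃ₗ[F] V) (x : V) = x
    obtain ⟨s, t, hx⟩ := hWspan _ (hgmem _ x.2)
    have h' : z' (g x) = g x := by rw [hx, map_add, map_smul, map_smul, hz'c', hz'c, e, zero_smul, add_zero]
    change g ((z0 : V ≃ₗ[F] V) (g.symm (g x))) = g x at h'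
    rw [g.symm_apply_apply] at h'
    exact g.injective h'))
  -- the element without fixed vector on the line
  set w : V ≃ₗ[F] V := (z0 : V ≃ₗ[F] V) * z' with hw
  have hwG : w ∈ G := mul_mem z0.2 (mul_mem (mul_mem hg z0.2) (inv_mem hg))
  have hzim : ∀ x, (z0 : V ≃ₗ[F] V) x - x ∈ W.1 := hσ (z : S) hz
  have hwim : ∀ x, w x - x ∈ W.1 := fun x => by
    have h1 : z' x - x ∈ W.1 := by
      obtain ⟨y, rfl⟩ := g.surjective x
      show g ((z0 : V ≃ₗ[F] V) (g.symm (g y))) - g y ∈ _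
      rw [g.symm_apply_apply, ← map_sub]
      exact hgmem _ (hzim y)
    have := W.1.add_mem (hzim (z' x)) h1
    rwa [sub_add_sub_cancel] at this
  let X : V →ₗ[F] V := (w : V →ₗ[F] V) - LinearMap.id
  have hXapp : ∀ x, X x = w x - x := fun x => rfl
  have hXc : X (c : V) = (a * d) • (c : V) + d • c' := by
    rw [hXapp, hw]
    show (z0 : V ≃ₗ[F] V) (z' c) - c = _
    rw [hz'c, map_add, map_smul, hzc, hza]
    module
  have hXc' : X c' = a • (c : V) := by
    rw [hXapp, hw]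
    show (z0 : V ≃ₗ[F] V) (z' c') - c' = _
    rw [hz'c', hza, add_sub_cancel_left]
  have hXinj : ∀ x ∈ W.1, X x = 0 → x = 0 := fun x hx h0 => by
    obtain ⟨s, t, rfl⟩ := hWspan x hx
    rw [map_add, map_smul, map_smul, hXc, hXc'] at h0
    have h' : (s * (a * d) + t * a) • (c : V) + (s * d) • c' = 0 := by rw [← h0]; module
    obtain ⟨h1, h3⟩ := LinearIndependent.pair_iff.mp hind _ _ h'
    have hs : s = 0 := (mul_eq_zero.mp h3).resolve_right hd0
    rw [hs, zero_mul, zero_add] at h1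
    rw [hs, (mul_eq_zero.mp h1).resolve_right ha0, zero_smul, zero_smul, add_zero]
  let C3 : Submodule F V := LinearMap.ker X
  have hrangeX : LinearMap.range X ≤ W.1 := by rintro _ ⟨x, rfl⟩; exact hwim x
  have hC3 : finrank F C3 = 3 ∧ W.1 ⊔ C3 = ⊤ := by
    have hdis : W.1 ⊓ C3 = ⊥ := eq_bot_iff.mpr fun x hx => (Submodule.mem_bot F).mpr (hXinj x hx.1 (LinearMap.mem_ker.mp hx.2))
    have h1 := X.finrank_range_add_finrank_ker
    have h3 := Submodule.finrank_mono hrangeX
    have h4 := Submodule.finrank_sup_add_finrank_inf_eq W.1 C3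
    have h5 := Submodule.finrank_le (W.1 ⊔ C3)
    rw [hdis, finrank_bot, W.2] at h4
    rw [W.2] at h3
    rw [hn] at h1 h5
    have hC : finrank F C3 = finrank F (LinearMap.ker X) := rfl
    exact ⟨by omega, Submodule.eq_top_of_finrank_eq (by rw [hn]; omega)⟩
  -- the fixer of the line commutes with `w`
  have hcomm : ∀ r : fρ.ker, ((((r : R) : S) : G) : V ≃ₗ[F] V) * w = w * ((((r : R) : S) : G) : V ≃ₗ[F] V) := by
    intro r
    set k := ((((r : R) : S) : G) : V ≃ₗ[F] V) with hk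
    have hk1 : ∀ x ∈ W.1, k x = x := fun x hx => by
      have h1 : ρ ((r : R) : S) = 1 := r.2
      have := hρ ((r : R) : S) ⟨x, hx⟩
      rw [h1] at this
      exact this.symm
    have hk1' : ∀ x ∈ W.1, k.symm x = x := fun x hx => by rw [LinearEquiv.symm_apply_eq, hk1 x hx]
    have hwmem : ∀ x ∈ W.1, w x ∈ W.1 := fun x hx => by
      have := W.1.add_mem (hwim x) hx
      rwa [sub_add_cancel] at this
    have hwmem' : ∀ x ∈ W.1, w.symm x ∈ W.1 := fun x hx => by
      have := W.1.sub_mem hx (hwim (w.symm x))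
      rwa [w.apply_symm_apply, sub_sub_cancel] at this
    have hone : k * w * k⁻¹ * w⁻¹ = 1 := by
      refine hE' _ (mul_mem (mul_mem (mul_mem (((r : R) : S) : G).2 hwG) (inv_mem (((r : R) : S) : G).2)) (inv_mem hwG)) ?_ ?_
      · intro x hx
        show k (w (k.symm (w.symm x))) = x
        rw [hk1' _ (hwmem' x hx), w.apply_symm_apply, hk1 x hx]
      · intro x
        show k (w (k.symm (w.symm x))) - x ∈ W.1
        have h1 := hwim (k.symm (w.symm x))
        have h3 : k (w (k.symm (w.symm x))) - w.symm x = w (k.symm (w.symm x)) - k.symm (w.symm x) := by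
          conv_lhs => arg 2; rw [← k.apply_symm_apply (w.symm x)]
          rw [← map_sub, hk1 _ h1]
        have h4 := hwim (w.symm x)
        rw [w.apply_symm_apply] at h4
        have := W.1.sub_mem (h3 ▸ h1) h4
        rwa [sub_sub_sub_cancel_right] at this
    rw [mul_inv_eq_one, mul_inv_eq_iff_eq_mul] at hone
    exact hone
  have hC3mem : ∀ (r : fρ.ker) (x : V), x ∈ C3 → ((((r : R) : S) : G) : V ≃ₗ[F] V) x ∈ C3 := by
    intro r x hx
    rw [LinearMap.mem_ker, hXapp, sub_eq_zero] at hx ⊢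
    have := congrArg (fun e : V ≃ₗ[F] V => e x) (hcomm r)
    refine this.symm.trans ?_
    show ((((r : R) : S) : G) : V ≃ₗ[F] V) (w x) = _
    rw [hx]
  have hC3map : ∀ r : fρ.ker, C3.map (((((r : R) : S) : G) : V ≃ₗ[F] V) : V →ₗ[F] V) = C3 := fun r =>
    Submodule.eq_of_le_of_finrank_le (by rintro _ ⟨x, hx, rfl⟩; exact hC3mem r x hx) (by rw [LinearEquiv.finrank_map_eq])
  let θ : fρ.ker →* (C3 ≃ₗ[F] C3) :=
    { toFun := fun r => ((((r : R) : S) : G) : V ≃ₗ[F] V).ofSubmodules C3 C3 (hC3map r)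
      map_one' := LinearEquiv.ext fun x => Subtype.ext rfl
      map_mul' := fun s t => LinearEquiv.ext fun x => Subtype.ext rfl }
  have hext : ∀ (r : fρ.ker) (y : V), (∀ x ∈ C3, ((((r : R) : S) : G) : V ≃ₗ[F] V) x = x) →
      ((((r : R) : S) : G) : V ≃ₗ[F] V) y = y := by
    intro r y hr
    obtain ⟨u, hu, v, hv, rfl⟩ := Submodule.mem_sup.mp (show y ∈ W.1 ⊔ C3 by rw [hC3.2]; exact Submodule.mem_top)
    have h1 : ρ ((r : R) : S) = 1 := r.2
    have h1' := hρ ((r : R) : S) ⟨u, hu⟩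
    rw [h1] at h1'
    rw [map_add, hr v hv, ← h1']
    rfl
  have hθ : Function.Injective θ := (injective_iff_map_eq_one θ).mpr fun r hr => by
    refine Subtype.ext (Subtype.ext (Subtype.ext (Subtype.ext (LinearEquiv.ext fun y => hext r y fun x hx => ?_))))
    exact congrArg (fun e : C3 ≃ₗ[F] C3 => ((e ⟨x, hx⟩ : C3) : V)) hr
  haveI : Finite (C3 ≃ₗ[F] C3) := Finite.of_injective (fun g : C3 ≃ₗ[F] C3 => (g : C3 → C3)) DFunLike.coe_injective
  obtain ⟨_, ⟨r, rfl⟩, u, hu, hr1, hrim, hru⟩ := exists_rank_one hC3.1 p θ.range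
    (IsPGroup.of_surjective (R.2.to_subgroup fρ.ker) θ.rangeRestrict θ.rangeRestrict_surjective)
    (by rw [← Nat.card_congr (MonoidHom.ofInjective hθ).toEquiv]; exact hkρ)
  have hu' : (u : V) ≠ 0 := fun e => hu (Subtype.ext e)
  obtain ⟨φ, hφ, hφu, hTin⟩ := tin_of_rank_one (G := G) (((r : R) : S) : G).2 hu'
    (fun e => hr1 (LinearEquiv.ext fun x => Subtype.ext (congrArg (fun f : V ≃ₗ[F] V => f x) e)))
    (fun y => by
      obtain ⟨a', ha', b', hb', rfl⟩ := Submodule.mem_sup.mp (show y ∈ W.1 ⊔ C3 by rw [hC3.2]; exact Submodule.mem_top)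
      have h1 : ρ ((r : R) : S) = 1 := r.2
      have h1' := hρ ((r : R) : S) ⟨a', ha'⟩
      rw [h1] at h1'
      rw [map_add, ← h1', show (((1 : W.1 ≃ₗ[F] W.1) ⟨a', ha'⟩ : W.1) : V) = a' from rfl, add_sub_add_left_eq_sub]
      obtain ⟨e, he⟩ := Submodule.mem_span_singleton.mp (hrim ⟨b', hb'⟩)
      exact Submodule.mem_span_singleton.mpr ⟨e, congrArg Subtype.val he⟩)
    (congrArg Subtype.val hru)
  exact ⟨u, φ, hu', hφ, hφu, hTin⟩

end CfsgLib.SingerFive
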