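/-
The multiplicities of an irreducible character on the torus: constant, or a single exceptional orbit.
-/
import Cfsg.Agent.Lib.SingerFive.CharCC

set_option autoImplicit false
set_option linter.unusedSectionVars false
set_option linter.style.haveILetI false

namespace CfsgLib.SingerFive

open Cfsg CfsgLib.CharTheory
open scoped ComplexConjugate

universe u

variable {G : Type u} [Group G] [Fintype G] {T : Subgroup G} {w : G} {e : ℕ}

theorem CCData.exists_ne_one (D : CCData T w e) : ∃ a ∈ T, a ≠ (1 : G) := by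
  by_contra h
  push Not at h
  have h1 : T = ⊥ := (Subgroup.eq_bot_iff_forall T).mpr h
  have h2 := D.big
  rw [h1, Subgroup.card_bot] at h2
  have : e = 0 := by
    rcases Nat.eq_zero_or_pos e with h3 | h3
    · exact h3
    · have : 0 < e * (e + 3) := Nat.mul_pos h3 (by omega)
      omega
  have := D.pos
  omega

theorem CCData.pow_e_mem (D : CCData T w e) : w ^ e ∈ T := by
  obtain ⟨a, ha, ha1⟩ := D.exists_ne_one
  obtain ⟨i, hi, s, hs, hg⟩ := D.fus (w ^ e) a ha ha1 (D.pow_conj_mem e a ha)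
  have h1 : w ^ (e - i) = s := by
    have h2 : w ^ (e - i) * w ^ i = s * w ^ i := by rw [← pow_add, Nat.sub_add_cancel hi.le, hg]
    exact mul_right_cancel h2
  rcases Nat.eq_zero_or_pos i with rfl | hi0
  · simp only [Nat.sub_zero] at h1
    exact h1 ▸ hs
  · exact absurd (h1 ▸ hs) (D.out (e - i) (by omega) (by omega))

theorem CCData.act_period (D : CCData T w e) (t : T) : D.act e t = t := by
  apply Subtype.ext
  rw [D.act_apply, D.comm _ D.pow_e_mem _ t.2, mul_inv_cancel_right]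

theorem CCData.tw_period (D : CCData T w e) (i : ℕ) (l : Lam T) : D.tw (i + e) l = D.tw i l := by
  apply Subtype.ext
  funext t
  rw [D.tw_apply, D.tw_apply, D.act_add, D.act_period]

theorem CCData.rel_of_tw (D : CCData T w e) : ∀ (i : ℕ) {l l' : Lam T}, D.tw i l = l' → D.Rel l l' := by
  intro i
  induction i using Nat.strong_induction_on with
  | _ i ih =>
    intro l l' h
    by_cases hi : i < e
    · exact ⟨i, hi, h⟩
    · have hp := D.pos
      refine ih (i - e) (by omega) ?_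
      rw [← D.tw_period, Nat.sub_add_cancel (by omega : e ≤ i)]
      exact h

theorem CCData.rel_symm (D : CCData T w e) {l l' : Lam T} (h : D.Rel l l') : D.Rel l' l := by
  obtain ⟨i, hi, rfl⟩ := h
  refine D.rel_of_tw (e - i) ?_
  rw [D.tw_tw, Nat.add_sub_cancel' hi.le]
  have := D.tw_period 0 l
  rwa [Nat.zero_add, D.tw_zero] at this

theorem CCData.rel_trans (D : CCData T w e) {a b c : Lam T} (h : D.Rel a b) (h' : D.Rel b c) :
    D.Rel a c := by
  obtain ⟨i, -, rfl⟩ := h
  obtain ⟨j, -, rfl⟩ := h'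
  exact D.rel_of_tw (i + j) (D.tw_tw j i a).symm

open Classical in
theorem CCData.card_rel (D : CCData T w e) [Fintype T] {l : Lam T} (hl : l ≠ triv T) :
    (Finset.univ.filter fun η : Lam T => D.Rel l η).card = e := by
  have h : (Finset.univ.filter fun η : Lam T => D.Rel l η) =
      (Finset.range e).image (fun i => D.tw i l) := by
    ext η
    simp only [Finset.mem_filter, Finset.mem_univ, true_and, Finset.mem_image, Finset.mem_range]
    exact Iff.rfl
  rw [h, Finset.card_image_of_injOn fun i hi j hj hij =>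
    D.tw_inj_index hl (Finset.mem_range.mp hi) (Finset.mem_range.mp hj) hij, Finset.card_range]

theorem CCData.card_lam (D : CCData T w e) [Fintype T] :
    Fintype.card (Lam T) = Nat.card T := by
  have h := sum_irr_degree_sq (G := T)
  simp only [D.lam_one, one_pow, Finset.sum_const, Finset.card_univ, nsmul_eq_mul, mul_one] at h
  exact_mod_cast h

/-- The multiplicity of a linear character in the restriction to `T`. -/
noncomputable def mu [Fintype T] (χ : G → ℂ) (l : Lam T) : ℕ :=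
  ⌊(classInner (fun t : T => χ t) (l : T → ℂ)).re⌋₊

theorem mu_spec [Fintype T] {χ : G → ℂ} (h : IsCharacter G χ) (l : Lam T) :
    (mu χ l : ℂ) = classInner (fun t : T => χ t) (l : T → ℂ) := by
  obtain ⟨n, hn⟩ := classInner_char_nat (isCharacter_restrict h T) (isCharacter_of_irr l.2)
  rw [mu, hn]
  simp

theorem CCData.deg_eq (D : CCData T w e) [Fintype T] {χ : G → ℂ} (h : IsCharacter G χ) :
    χ 1 = ∑ l : Lam T, (mu χ l : ℂ) := by
  have h1 := congrFun (eq_sum_irr (isClassFunction_char (isCharacter_restrict h T))) 1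
  simp only [Finset.sum_apply, Pi.smul_apply, smul_eq_mul, D.lam_one, mul_one, ← mu_spec h] at h1
  simpa using h1

theorem CCData.mu_tw (D : CCData T w e) [Fintype T] {χ : G → ℂ} (h : IsCharacter G χ) (i : ℕ)
    (l : Lam T) : mu χ (D.tw i l) = mu χ l := by
  have key : classInner (fun t : T => χ t) (D.tw i l : T → ℂ) =
      classInner (fun t : T => χ t) (l : T → ℂ) := by
    simp only [classInner]
    congr 1
    refine Fintype.sum_equiv (Equiv.ofBijective _ ⟨D.act_injective i, D.act_surjective i⟩) _ _ fun t => ?_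
    show χ (t : G) * conj ((l : T → ℂ) (D.act i t)) = χ ((D.act i t : T) : G) * conj ((l : T → ℂ) (D.act i t))
    rw [D.act_apply, isClassFunction_char h]
  rw [← mu_spec h, ← mu_spec h] at key
  exact_mod_cast key

theorem CCData.mu_rel (D : CCData T w e) [Fintype T] {χ : G → ℂ} (h : IsCharacter G χ) {l l' : Lam T}
    (hr : D.Rel l l') : mu χ l' = mu χ l := by
  obtain ⟨i, -, rfl⟩ := hr
  exact D.mu_tw h i l

theorem CCData.inner_alpha (D : CCData T w e) [Fintype T] {χ : G → ℂ} (h : IsCharacter G χ)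
    (l l' : Lam T) : classInner χ (D.alpha l l') = (mu χ l : ℂ) - mu χ l' := by
  rw [CCData.alpha, frobenius_reciprocity' T _ (isClassFunction_char h), classInner_sub_right,
    mu_spec h, mu_spec h]

theorem CCData.alpha_norm (D : CCData T w e) [Fintype T] {a b : Lam T} (ha : a ≠ triv T)
    (hb : b ≠ triv T) (hab : ¬ D.Rel a b) : classInner (D.alpha a b) (D.alpha a b) = 2 := by
  rw [D.alpha_inner, D.sum_tw_eq ha, D.sum_tw_eq hb, D.sum_tw_eq ha, D.sum_tw_eq hb, if_pos (D.rel_refl a),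
    if_pos (D.rel_refl b), if_neg hab, if_neg fun h => hab (D.rel_symm h)]
  norm_num

theorem CCData.alpha_triv_norm (D : CCData T w e) [Fintype T] {b : Lam T} (hb : b ≠ triv T) :
    classInner (D.alpha (triv T) b) (D.alpha (triv T) b) = (e : ℂ) + 1 := by
  rw [D.alpha_inner, D.sum_tw_triv, D.sum_tw_eq hb, D.sum_tw_triv, D.sum_tw_eq hb, if_pos (D.rel_refl b),
    if_pos rfl, if_neg hb, if_neg fun h => D.rel_ne_triv h hb rfl]
  ring

/-- A virtual character of norm two and degree zero meeting `χ` is `±(χ - ψ)`. -/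
theorem norm_two_shape {θ : G → ℂ} (hθ : IsGeneralizedCharacter G θ) (h2 : classInner θ θ = 2)
    (h0 : θ 1 = 0) {χ : G → ℂ} (hχ : IsIrrCharacter G χ) {d : ℤ} (hd : classInner θ χ = d) (hd0 : d ≠ 0) :
    (d = 1 ∨ d = -1) ∧ ∃ ψ, IsIrrCharacter G ψ ∧ ψ ≠ χ ∧ ψ 1 = χ 1 ∧ θ = (d : ℂ) • (χ - ψ) := by
  classical
  obtain ⟨c, hsum, hc, hsq⟩ := classInner_self_eq_sum_sq hθ
  rw [h2] at hsq
  have hsq' : ∑ ψ : IrrCharacter G, c ψ ^ 2 = 2 := by exact_mod_cast hsq.symm
  have hcχ : c ⟨χ, hχ⟩ = d := by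
    have := (hc ⟨χ, hχ⟩).symm.trans hd
    exact_mod_cast this
  have hd1 : d = 1 ∨ d = -1 := by
    have hle : c ⟨χ, hχ⟩ ^ 2 ≤ 2 := hsq' ▸
      Finset.single_le_sum (f := fun ψ => c ψ ^ 2) (fun ψ _ => sq_nonneg _) (Finset.mem_univ _)
    rw [hcχ] at hle
    have h5 : -1 ≤ d := by nlinarith
    have h6 : d ≤ 1 := by nlinarith
    omega
  refine ⟨hd1, ?_⟩
  rw [← Finset.add_sum_erase _ _ (Finset.mem_univ ⟨χ, hχ⟩), hcχ] at hsq'
  have hrest : ∑ ψ ∈ Finset.univ.erase ⟨χ, hχ⟩, c ψ ^ 2 = 1 := by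
    rcases hd1 with rfl | rfl <;> linarith
  obtain ⟨ψ, hψ, hψ0⟩ := Finset.exists_ne_zero_of_sum_ne_zero (by rw [hrest]; norm_num :
    ∑ ψ ∈ Finset.univ.erase ⟨χ, hχ⟩, c ψ ^ 2 ≠ 0)
  rw [← Finset.add_sum_erase _ _ hψ] at hrest
  have hz : ∀ η ∈ (Finset.univ.erase ⟨χ, hχ⟩).erase ψ, c η = 0 := by
    have h3 : 0 < c ψ ^ 2 := lt_of_le_of_ne (sq_nonneg _) (Ne.symm hψ0)
    have h4 : ∑ η ∈ (Finset.univ.erase ⟨χ, hχ⟩).erase ψ, c η ^ 2 = 0 :=
      le_antisymm (by linarith) (Finset.sum_nonneg fun η _ => sq_nonneg _)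
    intro η hη
    have := (Finset.sum_eq_zero_iff_of_nonneg fun η _ => sq_nonneg _).mp h4 η hη
    exact pow_eq_zero_iff (n := 2) (by norm_num) |>.mp this
  have hθ' : θ = (d : ℂ) • χ + (c ψ : ℂ) • (ψ : G → ℂ) := by
    rw [hsum, ← Finset.add_sum_erase _ _ (Finset.mem_univ ⟨χ, hχ⟩), ← Finset.add_sum_erase _ _ hψ, hcχ,
      Finset.sum_eq_zero (s := (Finset.univ.erase ⟨χ, hχ⟩).erase ψ) fun η hη => by simp [hz η hη]]
    simp
  have hcψ : c ψ = 1 ∨ c ψ = -1 := by
    have h7 : 0 ≤ ∑ η ∈ (Finset.univ.erase ⟨χ, hχ⟩).erase ψ, c η ^ 2 :=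
      Finset.sum_nonneg fun η _ => sq_nonneg _
    have h5 : -1 ≤ c ψ := by nlinarith
    have h6 : c ψ ≤ 1 := by nlinarith
    have : c ψ ≠ 0 := fun h => hψ0 (by rw [h]; rfl)
    omega
  have hdeg := congrFun hθ' 1
  obtain ⟨n1, hn1, hχ1⟩ := irr_degree_pos hχ
  obtain ⟨n2, hn2, hψ1⟩ := irr_degree_pos ψ.2
  simp only [h0, Pi.add_apply, Pi.smul_apply, smul_eq_mul, hχ1, hψ1] at hdeg
  have hdeg' : (0 : ℤ) = d * n1 + c ψ * n2 := by exact_mod_cast hdeg
  have hval : c ψ = -d ∧ n2 = n1 := by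
    rcases hd1 with rfl | rfl <;> rcases hcψ with h | h <;> rw [h] at hdeg' ⊢ <;> constructor <;> omega
  refine ⟨ψ, ψ.2, fun h => (Finset.mem_erase.mp hψ).1 (Subtype.ext h), by rw [hψ1, hχ1, hval.2], ?_⟩
  rw [hθ', hval.1, smul_sub]
  simp [sub_eq_add_neg]

theorem CCData.mu_diff (D : CCData T w e) [Fintype T] {χ : G → ℂ} (hχ : IsIrrCharacter G χ) {a b : Lam T}
    (ha : a ≠ triv T) (hb : b ≠ triv T) : mu χ a ≤ mu χ b + 1 := by
  have hc := isCharacter_of_irr hχ
  by_contra hlt
  have hab : ¬ D.Rel a b := fun h => by rw [D.mu_rel hc h] at hlt; omega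
  have hd : classInner (D.alpha a b) χ = (((mu χ a : ℤ) - mu χ b : ℤ) : ℂ) := by
    rw [← classInner_comm, D.inner_alpha hc]
    push_cast
    simp
  obtain ⟨h1, -⟩ := norm_two_shape (D.isGen_alpha a b) (D.alpha_norm ha hb hab) (D.alpha_one a b) hχ hd
    (by omega)
  omega

/-- Two disjoint pairs of orbits cannot be separated by the same character. -/
theorem CCData.no_two_pairs (D : CCData T w e) [Fintype T] {χ : G → ℂ} (hχ : IsIrrCharacter G χ)
    {a a' b b' : Lam T} (ha : a ≠ triv T) (ha' : a' ≠ triv T) (hb : b ≠ triv T) (hb' : b' ≠ triv T)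
    (haa : ¬ D.Rel a a') (hbb : ¬ D.Rel b b') (h : mu χ b < mu χ a) (h' : mu χ b' < mu χ a')
    (hx : mu χ b' < mu χ a) (hy : mu χ b < mu χ a') : False := by
  have hc := isCharacter_of_irr hχ
  have hne : ∀ {x y : Lam T}, mu χ y < mu χ x → ¬ D.Rel x y := fun hlt hr => by
    rw [D.mu_rel hc hr] at hlt
    exact lt_irrefl _ hlt
  have hd : ∀ {x y : Lam T}, x ≠ triv T → y ≠ triv T → mu χ y < mu χ x →
      ∃ ψ, IsIrrCharacter G ψ ∧ ψ ≠ χ ∧ D.alpha x y = χ - ψ := by
    intro x y hx hy hlt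
    have := D.mu_diff hχ hx hy
    have hd : classInner (D.alpha x y) χ = ((1 : ℤ) : ℂ) := by
      rw [← classInner_comm, D.inner_alpha hc, show mu χ x = mu χ y + 1 by omega]
      simp
    obtain ⟨-, ψ, hψ, hne', -, heq⟩ := norm_two_shape (D.isGen_alpha x y)
      (D.alpha_norm hx hy (hne hlt)) (D.alpha_one x y) hχ hd one_ne_zero
    exact ⟨ψ, hψ, hne', by simpa using heq⟩
  obtain ⟨ψ, hψ, hψne, he⟩ := hd ha hb h
  obtain ⟨ψ', hψ', hψne', he'⟩ := hd ha' hb' h'
  have h0 : classInner (D.alpha a b) (D.alpha a' b') = 0 := by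
    rw [D.alpha_inner, D.sum_tw_eq ha, D.sum_tw_eq hb, D.sum_tw_eq ha, D.sum_tw_eq hb, if_neg haa, if_neg hbb,
      if_neg (hne hx), if_neg fun hr => hne hy (D.rel_symm hr)]
    ring
  classical
  rw [he, he', classInner_sub_left, classInner_sub_right, classInner_sub_right, classInner_irr_self hχ,
    classInner_irr_ne hχ hψ' (Ne.symm hψne'), classInner_irr_ne hψ hχ hψne, classInner_irr hψ hψ'] at h0
  split_ifs at h0 <;> norm_num at h0

/-- The multiplicities of `χ` are `c`, except on the orbit of `l`, where they are `c + d`. -/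
def CCData.Shape (D : CCData T w e) [Fintype T] (χ : G → ℂ) (l : Lam T) (c d : ℤ) : Prop :=
  ∀ η : Lam T, η ≠ triv T → (D.Rel l η → (mu χ η : ℤ) = c + d) ∧ (¬ D.Rel l η → (mu χ η : ℤ) = c)

/-- A non-constant multiplicity function has one exceptional orbit. -/
theorem CCData.exists_shape (D : CCData T w e) [Fintype T] {χ : G → ℂ} (hχ : IsIrrCharacter G χ)
    {a b : Lam T} (ha : a ≠ triv T) (hb : b ≠ triv T) (hab : mu χ b < mu χ a) :
    ∃ l c d, l ≠ triv T ∧ (d = 1 ∨ d = (-1 : ℤ)) ∧ D.Shape χ l c d := by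
  have hc := isCharacter_of_irr hχ
  have h1 := D.mu_diff hχ ha hb
  have hval : ∀ η : Lam T, η ≠ triv T → mu χ η = mu χ b ∨ mu χ η = mu χ b + 1 := fun η hη => by
    have h2 := D.mu_diff hχ hη hb
    have h3 := D.mu_diff hχ ha hη
    omega
  by_cases hA : ∀ η : Lam T, η ≠ triv T → mu χ η = mu χ b + 1 → D.Rel a η
  · refine ⟨a, mu χ b, 1, ha, Or.inl rfl, fun η hη => ⟨fun hr => ?_, fun hr => ?_⟩⟩
    · rw [D.mu_rel hc hr]; omega
    · rcases hval η hη with h | h
      · omega
      · exact absurd (hA η hη h) hr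
  · push Not at hA
    obtain ⟨a', ha', hva, hra⟩ := hA
    refine ⟨b, (mu χ b : ℤ) + 1, -1, hb, Or.inr rfl, fun η hη => ⟨fun hr => ?_, fun hr => ?_⟩⟩
    · rw [D.mu_rel hc hr]; omega
    · rcases hval η hη with h | h
      · exact absurd (D.no_two_pairs hχ ha ha' hb hη hra hr hab (by omega) (by omega) (by omega)) id
      · omega

theorem CCData.shape_deg (D : CCData T w e) [Fintype T] {χ : G → ℂ} (hχ : IsCharacter G χ) {l : Lam T}
    (hl : l ≠ triv T) {c d : ℤ} (hs : D.Shape χ l c d) :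
    χ 1 = (((mu χ (triv T) : ℤ) + c * ((Nat.card T : ℤ) - 1) + d * e : ℤ) : ℂ) := by
  classical
  have key : ∑ η : Lam T, (mu χ η : ℤ) = mu χ (triv T) + c * ((Nat.card T : ℤ) - 1) + d * e := by
    rw [← Finset.add_sum_erase _ _ (Finset.mem_univ (triv T)), add_assoc]
    congr 1
    have h1 : ∀ η ∈ Finset.univ.erase (triv T), (mu χ η : ℤ) = c + if D.Rel l η then d else 0 := by
      intro η hη
      have hη' := (Finset.mem_erase.mp hη).1
      by_cases hr : D.Rel l η
      · rw [if_pos hr, (hs η hη').1 hr]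
      · rw [if_neg hr, (hs η hη').2 hr, add_zero]
    have h2 : ((Finset.univ.erase (triv T)).filter fun η => D.Rel l η) =
        (Finset.univ.filter fun η : Lam T => D.Rel l η) := by
      ext η
      simpa using fun hr => D.rel_ne_triv hr hl
    rw [Finset.sum_congr rfl h1, Finset.sum_add_distrib, ← Finset.sum_filter, h2,
      Finset.sum_const, Finset.sum_const, D.card_rel hl, Finset.card_erase_of_mem (Finset.mem_univ _),
      Finset.card_univ, D.card_lam]
    have := Nat.card_pos (α := T)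
    push_cast [Nat.cast_sub this]
    simp only [nsmul_eq_mul]
    push_cast [Nat.cast_sub this]
    ring
  rw [D.deg_eq hχ, ← key]
  push_cast
  rfl

/-- Every orbit is the exceptional orbit of a partner of `χ`. -/
theorem CCData.exists_partner (D : CCData T w e) [Fintype T] {χ : G → ℂ} (hχ : IsIrrCharacter G χ)
    {l : Lam T} (hl : l ≠ triv T) {c d : ℤ} (hd : d = 1 ∨ d = -1) (hs : D.Shape χ l c d)
    {ν : Lam T} (hν : ν ≠ triv T) :
    ∃ ψ, IsIrrCharacter G ψ ∧ ψ 1 = χ 1 ∧ D.Shape ψ ν c d ∧ mu ψ (triv T) = mu χ (triv T) ∧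
      ∀ π : G → ℂ, IsClassFunction G π → (∀ t : T, t ≠ 1 → π t = 0) → classInner π ψ = classInner π χ := by
  classical
  by_cases hr : D.Rel l ν
  · exact ⟨χ, hχ, rfl, fun η hη => ⟨fun h => (hs η hη).1 (D.rel_trans hr h),
      fun h => (hs η hη).2 fun h' => h (D.rel_trans (D.rel_symm hr) h')⟩, rfl, fun π _ _ => rfl⟩
  have hc := isCharacter_of_irr hχ
  have hd0 : d ≠ 0 := by omega
  have hcd : classInner (D.alpha l ν) χ = (d : ℂ) := by
    rw [← classInner_comm, D.inner_alpha hc]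
    have h1 := (hs l hl).1 (D.rel_refl l)
    have h2 := (hs ν hν).2 hr
    have e1 : (mu χ l : ℂ) = c + d := by exact_mod_cast h1
    have e2 : (mu χ ν : ℂ) = c := by exact_mod_cast h2
    rw [e1, e2]
    simp
  obtain ⟨-, ψ, hψ, -, hψ1, heq⟩ := norm_two_shape (D.isGen_alpha l ν) (D.alpha_norm hl hν hr)
    (D.alpha_one l ν) hχ hcd hd0
  have hres : (fun t : T => D.alpha l ν t) = (d : ℂ) • ((fun t : T => χ t) - fun t : T => ψ t) := by
    funext t
    rw [heq]
    simp
  have hmu : ∀ η : Lam T, (d : ℂ) * ((mu χ η : ℂ) - mu ψ η) =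
      (∑ i ∈ Finset.range e, (if D.tw i l = η then 1 else 0 : ℂ)) -
        ∑ i ∈ Finset.range e, (if D.tw i ν = η then 1 else 0 : ℂ) := fun η => by
    rw [← D.alpha_res_inner, hres, classInner_smul_left, classInner_sub_left, mu_spec hc,
      mu_spec (isCharacter_of_irr hψ)]
  refine ⟨ψ, hψ, hψ1, fun η hη => ?_, ?_, ?_⟩
  · have h1 := hmu η
    rw [D.sum_tw_eq hl, D.sum_tw_eq hν] at h1
    have h2 : d * ((mu χ η : ℤ) - mu ψ η) =
        (if D.Rel l η then 1 else 0) - (if D.Rel ν η then 1 else 0) := by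
      apply Int.cast_injective (α := ℂ)
      push_cast
      exact h1
    constructor
    · intro hr'
      have hnl : ¬ D.Rel l η := fun h => hr (D.rel_trans h (D.rel_symm hr'))
      rw [if_pos hr', if_neg hnl, (hs η hη).2 hnl] at h2
      rcases hd with rfl | rfl <;> omega
    · intro hr'
      by_cases hl' : D.Rel l η
      · rw [if_neg hr', if_pos hl', (hs η hη).1 hl'] at h2
        rcases hd with rfl | rfl <;> omega
      · rw [if_neg hr', if_neg hl', (hs η hη).2 hl'] at h2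
        rcases hd with rfl | rfl <;> omega
  · have h1 := hmu (triv T)
    rw [D.sum_tw_eq hl, D.sum_tw_eq hν, if_neg fun h => D.rel_ne_triv h hl rfl,
      if_neg fun h => D.rel_ne_triv h hν rfl, sub_zero, mul_eq_zero] at h1
    rcases h1 with h1 | h1
    · exact absurd (by exact_mod_cast h1) hd0
    · exact_mod_cast (sub_eq_zero.mp h1).symm
  · intro π hπ hπ0
    have h1 : classInner π (D.alpha l ν) = 0 := by
      rw [CCData.alpha, frobenius_reciprocity' T _ hπ]
      simp only [classInner]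
      rw [Finset.sum_eq_zero, mul_zero]
      intro t _
      by_cases ht : t = 1
      · subst ht; simp [D.lam_one]
      · simp [hπ0 t ht]
    rw [heq, classInner_smul_right, classInner_sub_right, mul_eq_zero, sub_eq_zero] at h1
    rcases h1 with h1 | h1
    · simp at h1; exact absurd h1 hd0
    · exact h1.symm

end CfsgLib.SingerFive
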