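/-
The trichotomy for irreducible characters, the trace lemma for semiregular actions, and the
consequence of a small exceptional character.
-/
import Cfsg.Agent.Lib.SingerFive.CharCases
import Cfsg.Agent.Lib.CharTheory.MultFree

set_option autoImplicit false
set_option linter.unusedSectionVars false
set_option linter.style.haveILetI false

namespace CfsgLib.SingerFive

open Cfsg CfsgLib.CharTheory
open scoped ComplexConjugate

universe u v

variable {G : Type u} [Group G] [Fintype G] {T : Subgroup G} {w : G} {e : ℕ}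

/-- The multiplicities of `χ` on the non-trivial characters are all equal. -/
def Balanced [Fintype T] (χ : G → ℂ) : Prop :=
  ∀ a b : Lam T, a ≠ triv T → b ≠ triv T → mu χ a = mu χ b

/-- `χ` restricts to one orbit of linear characters. -/
def CCData.Small (D : CCData T w e) [Fintype T] (χ : G → ℂ) (l : Lam T) : Prop :=
  IsIrrCharacter G χ ∧ l ≠ triv T ∧ D.Shape χ l 0 1 ∧ mu χ (triv T) = 0

theorem CCData.small_deg (D : CCData T w e) [Fintype T] {χ : G → ℂ} {l : Lam T} (h : D.Small χ l) :
    χ 1 = e := by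
  obtain ⟨h1, h2, h3, h4⟩ := h
  rw [D.shape_deg (isCharacter_of_irr h1) h2 h3, h4]
  simp

theorem CCData.e_lt (D : CCData T w e) : e + 1 < Nat.card T := by
  have h1 := D.big
  have h2 := D.pos
  nlinarith

theorem CCData.mu_apply (D : CCData T w e) [Fintype T] {χ : G → ℂ} (h : IsCharacter G χ) (t : T) :
    χ t = ∑ l : Lam T, (mu χ l : ℂ) * (l : T → ℂ) t := by
  have h1 := congrFun (eq_sum_irr (isClassFunction_char (isCharacter_restrict h T))) t
  simpa [Finset.sum_apply, mu_spec h] using h1

theorem CCData.sum_lam_apply (D : CCData T w e) [Fintype T] {t : T} (ht : t ≠ 1) :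
    ∑ l : Lam T, (l : T → ℂ) t = 0 := by
  classical
  have h := sum_irr_apply_mul_degree (G := T) t
  simpa [D.lam_one, ht] using h

theorem CCData.balanced_apply (D : CCData T w e) [Fintype T] {χ : G → ℂ} (h : IsCharacter G χ)
    (hb : Balanced (T := T) χ) {a : Lam T} (ha : a ≠ triv T) {t : T} (ht : t ≠ 1) :
    χ t = (mu χ (triv T) : ℂ) - mu χ a := by
  classical
  rw [D.mu_apply h, ← Finset.add_sum_erase _ _ (Finset.mem_univ (triv T))]
  have h1 : ∑ l ∈ Finset.univ.erase (triv T), (mu χ l : ℂ) * (l : T → ℂ) t =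
      (mu χ a : ℂ) * ∑ l ∈ Finset.univ.erase (triv T), (l : T → ℂ) t := by
    rw [Finset.mul_sum]
    exact Finset.sum_congr rfl fun l hl => by rw [hb l a (Finset.mem_erase.mp hl).1 ha]
  have h2 := D.sum_lam_apply ht
  rw [← Finset.add_sum_erase _ _ (Finset.mem_univ (triv T))] at h2
  have h3 : (triv T : T → ℂ) t = 1 := rfl
  rw [h3] at h2 ⊢
  rw [h1, eq_neg_of_add_eq_zero_right h2]
  ring

theorem CCData.exists_lam (D : CCData T w e) [Fintype T] (l : Lam T) :
    ∃ η : Lam T, η ≠ triv T ∧ ¬ D.Rel l η := by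
  classical
  by_contra h
  push Not at h
  by_cases hl : l = triv T
  · subst hl
    have h1 : Fintype.card (Lam T) ≤ 1 := Fintype.card_le_one_iff.mpr fun a b => by
      have : ∀ η : Lam T, η = triv T := fun η => by
        by_contra hη
        obtain ⟨i, -, hi⟩ := h η hη
        exact hη (hi ▸ D.tw_triv i)
      rw [this a, this b]
    rw [D.card_lam] at h1
    have := D.e_lt
    omega
  · have h1 : Finset.univ.erase (triv T) ⊆ Finset.univ.filter fun η : Lam T => D.Rel l η := fun η hη => by
      simp only [Finset.mem_filter, Finset.mem_univ, true_and]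
      exact h η (Finset.mem_erase.mp hη).1
    have h2 := Finset.card_le_card h1
    rw [D.card_rel hl, Finset.card_erase_of_mem (Finset.mem_univ _), Finset.card_univ, D.card_lam] at h2
    have := D.e_lt
    omega

/-- An irreducible character is balanced, or large, or small. -/
theorem CCData.trichotomy (D : CCData T w e) [Fintype T] {χ : G → ℂ} (hχ : IsIrrCharacter G χ)
    (hb : ¬ Balanced (T := T) χ) :
    ∃ l c d, l ≠ triv T ∧ (d = 1 ∨ d = (-1 : ℤ)) ∧ D.Shape χ l c d ∧
      ((∃ n : ℕ, χ 1 = n ∧ Nat.card T ≤ n + e + 1) ∨ D.Small χ l) := by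
  classical
  have hc := isCharacter_of_irr hχ
  obtain ⟨a, b, ha, hb', hab⟩ : ∃ a b, a ≠ triv T ∧ b ≠ triv T ∧ mu χ b < mu χ a := by
    simp only [Balanced] at hb
    push Not at hb
    obtain ⟨a, b, ha, hb', hab⟩ := hb
    rcases lt_or_gt_of_ne hab with h | h
    · exact ⟨b, a, hb', ha, h⟩
    · exact ⟨a, b, ha, hb', h⟩
  obtain ⟨l, c, d, hl, hd, hs⟩ := D.exists_shape hχ ha hb' hab
  refine ⟨l, c, d, hl, hd, hs, ?_⟩
  obtain ⟨η, hη, hηl⟩ := D.exists_lam l
  have hc0 : 0 ≤ c := (hs η hη).2 hηl ▸ Int.natCast_nonneg _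
  obtain ⟨n, -, hn⟩ := irr_degree_pos hχ
  have hdeg : (n : ℤ) = (mu χ (triv T) : ℤ) + c * ((Nat.card T : ℤ) - 1) + d * e := by
    have := hn.symm.trans (D.shape_deg hc hl hs)
    exact_mod_cast this
  have hcard := D.e_lt
  rcases hc0.lt_or_eq with hc1 | hc1
  · left
    refine ⟨n, hn, ?_⟩
    have h1 : (Nat.card T : ℤ) - 1 ≤ c * ((Nat.card T : ℤ) - 1) := le_mul_of_one_le_left (by omega) hc1
    rcases hd with rfl | rfl <;> omega
  · right
    subst hc1
    have hd1 : d = 1 := by
      have := (hs l hl).1 (D.rel_refl l)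
      omega
    subst hd1
    refine ⟨hχ, hl, hs, ?_⟩
    choose P hP using fun ν : {ν : Lam T // ν ≠ triv T} => D.exists_partner hχ hl (Or.inl rfl) hs ν.2
    let S : Finset {ν : Lam T // ν ≠ triv T} := Finset.univ.filter fun ν => ¬ D.Rel l ν.1
    let g : {ν : Lam T // ν ≠ triv T} → IrrCharacter G := fun ν => ⟨P ν, (hP ν).1⟩
    obtain ⟨k, hksum, hkc, hksq⟩ := classInner_self_eq_sum_sq (D.isGen_alpha (triv T) l)
    rw [D.alpha_triv_norm hl] at hksq
    have hksq' : ∑ ψ : IrrCharacter G, k ψ ^ 2 = (e : ℤ) + 1 := by exact_mod_cast hksq.symm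
    have hval : ∀ ν ∈ S, k (g ν) = mu χ (triv T) := by
      intro ν hν
      obtain ⟨h1, -, h3, h4, -⟩ := hP ν
      have h5 := hkc (g ν)
      rw [← classInner_comm, D.inner_alpha (isCharacter_of_irr h1), h4] at h5
      have h6 := (h3 l hl).2 fun hr => (Finset.mem_filter.mp hν).2 (D.rel_symm hr)
      have h7 : (mu (P ν) l : ℤ) = 0 := h6
      have h8 : mu (P ν) l = 0 := by omega
      rw [h8] at h5
      simp at h5
      exact_mod_cast h5.symm
    have hfib : ∀ ψ ∈ S.image g, (S.filter fun ν => g ν = ψ).card ≤ e := by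
      intro ψ hψ
      obtain ⟨ν₀, -, rfl⟩ := Finset.mem_image.mp hψ
      rw [← D.card_rel ν₀.2]
      refine Finset.card_le_card_of_injOn Subtype.val (fun ν hν => ?_) Subtype.val_injective.injOn
      simp only [Finset.coe_filter, Finset.mem_univ, true_and, Set.mem_ofPred_eq] at hν ⊢
      by_contra hr
      have e1 : P ν = P ν₀ := congrArg Subtype.val hν.2
      have h1 := ((hP ν).2.2.1 ν.1 ν.2).1 (D.rel_refl _)
      have h2 := ((hP ν₀).2.2.1 ν.1 ν.2).2 hr
      rw [e1] at h1
      omega
    have hS : S.card + e + 1 = Nat.card T := by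
      have h1 := Finset.card_filter_add_card_filter_not (s := (Finset.univ : Finset {ν : Lam T // ν ≠ triv T}))
        (fun ν => D.Rel l ν.1)
      have h2 : (Finset.univ.filter fun ν : {ν : Lam T // ν ≠ triv T} => D.Rel l ν.1).card = e := by
        refine Eq.trans ?_ (D.card_rel hl)
        refine Finset.card_bij (fun ν _ => ν.1) (fun ν hν => by simpa using hν)
          (fun _ _ _ _ h => Subtype.ext h) fun η hη => ?_
        have hr : D.Rel l η := by simpa using hη
        exact ⟨⟨η, D.rel_ne_triv hr hl⟩, by simp [hr], rfl⟩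
      rw [h2, Finset.card_univ, Fintype.card_subtype_compl, D.card_lam, Fintype.card_subtype_eq] at h1
      show (Finset.univ.filter fun ν : {ν : Lam T // ν ≠ triv T} => ¬ D.Rel l ν.1).card + e + 1 = _
      omega
    have h1 : ((S.image g).card : ℤ) * (mu χ (triv T) : ℤ) ^ 2 ≤ e + 1 := by
      rw [← hksq']
      refine le_trans (le_of_eq ?_) (Finset.sum_le_sum_of_subset_of_nonneg (Finset.subset_univ (S.image g))
        fun ψ _ _ => sq_nonneg _)
      rw [Finset.sum_congr rfl fun ψ hψ => ?_, Finset.sum_const, nsmul_eq_mul]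
      obtain ⟨ν, hν, rfl⟩ := Finset.mem_image.mp hψ
      rw [hval ν hν]
    by_contra hm
    have h2 : (1 : ℤ) ≤ (mu χ (triv T) : ℤ) ^ 2 := by
      have : 1 ≤ mu χ (triv T) := by omega
      exact_mod_cast Nat.one_le_pow 2 _ this
    have h3 : (S.image g).card ≤ e + 1 := by
      have h4 : ((S.image g).card : ℤ) * 1 ≤ (S.image g).card * (mu χ (triv T) : ℤ) ^ 2 :=
        mul_le_mul_of_nonneg_left h2 (Int.natCast_nonneg _)
      omega
    have h5 := Finset.card_le_mul_card_image S e hfib
    have h6 := D.big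
    nlinarith

/-- A character annihilated by the average over `B` is annihilated by every translate. -/
theorem sum_translate_eq_zero {χ : G → ℂ} (hχ : IsCharacter G χ) (B : Subgroup G) [Fintype B]
    (h : ∑ b : B, χ b = 0) (g : G) : ∑ b : B, χ (b * g) = 0 := by
  obtain ⟨n, ρ, rfl⟩ := hχ
  let P : Module.End ℂ (Fin n → ℂ) := ∑ b : B, ρ b
  have hinv : ∀ b : B, ρ b * P = P := fun b => by
    simp only [P, Finset.mul_sum, ← map_mul]
    exact Fintype.sum_equiv (Equiv.mulLeft b) _ _ fun x => rfl
  have hP2 : P * P = (Fintype.card B : ℂ) • P := by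
    conv_lhs => arg 1; simp only [P]
    rw [Finset.sum_mul]
    simp only [hinv, Finset.sum_const, Finset.card_univ]
    rw [Nat.cast_smul_eq_nsmul]
  have hne : (Fintype.card B : ℂ) ≠ 0 := Nat.cast_ne_zero.mpr Fintype.card_ne_zero
  let Q : Module.End ℂ (Fin n → ℂ) := (Fintype.card B : ℂ)⁻¹ • P
  have hproj : LinearMap.IsProj (LinearMap.range Q) Q := by
    refine ⟨fun x => LinearMap.mem_range_self Q x, fun x hx => ?_⟩
    obtain ⟨y, rfl⟩ := hx
    have hQ : Q * Q = Q := by
      simp only [Q, smul_mul_assoc, mul_smul_comm, hP2, smul_smul]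
      rw [inv_mul_cancel₀ hne, mul_one]
    exact LinearMap.congr_fun hQ y
  have htr : LinearMap.trace ℂ _ Q = 0 := by
    simp only [Q, P, map_smul, map_sum, smul_eq_mul]
    rw [show ∑ b : B, LinearMap.trace ℂ _ (ρ b) = ∑ b : B, ρ.character b from rfl, h, mul_zero]
  rw [hproj.trace, Nat.cast_eq_zero, Submodule.finrank_eq_zero, LinearMap.range_eq_bot] at htr
  have hP : P = 0 := by
    rcases smul_eq_zero.mp (show (Fintype.card B : ℂ)⁻¹ • P = 0 from htr) with h1 | h1
    · exact absurd h1 (inv_ne_zero hne)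
    · exact h1
  show ∑ b : B, LinearMap.trace ℂ _ (ρ ((b : G) * g)) = 0
  simp only [map_mul, ← map_sum, ← Finset.sum_mul]
  show LinearMap.trace ℂ _ (P * ρ g) = 0
  rw [hP, zero_mul, map_zero]

/-- In a semiregular action of the torus on few points, the number of translation pairs in an
invariant relation does not depend on the element of the torus. -/
theorem CCData.trace_const (D : CCData T w e) [Fintype T] {Ω : Type v} [Fintype Ω] [MulAction G Ω]
    (hsemi : ∀ t ∈ T, t ≠ (1 : G) → ∀ u : Ω, t • u ≠ u)
    (hns : ∀ (χ : G → ℂ) (l : Lam T), ¬ D.Small χ l)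
    (hbound : e * Fintype.card Ω + (Nat.card T - 1) * (e + 1) < (Nat.card T - 1) * Nat.card T)
    (S : Ω → Ω → Prop) (hS : ∀ (g : G) (u v : Ω), S u v → S (g • u) (g • v))
    {t t' : G} (ht : t ∈ T) (ht1 : t ≠ 1) (ht' : t' ∈ T) (ht1' : t' ≠ 1) :
    Nat.card {u : Ω // S u (t • u)} = Nat.card {u : Ω // S u (t' • u)} := by
  classical
  have hS' : ∀ (g : G) (u v : Ω), S (g • u) (g • v) ↔ S u v := fun g u v =>
    ⟨fun h => by simpa using hS g⁻¹ _ _ h, hS g u v⟩
  let H : G → ℂ := fun g => (Nat.card {u : Ω // S u (g • u)} : ℂ)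
  have hH : IsClassFunction G H := fun g k => by
    refine congrArg Nat.cast (Nat.card_congr (Equiv.subtypeEquiv (MulAction.toPerm k⁻¹) fun u => ?_))
    rw [MulAction.toPerm_apply, ← hS' k⁻¹ u, smul_smul, smul_smul]
    simp [mul_assoc]
  let π : G → ℂ := fun g => (Nat.card (MulAction.fixedBy Ω g) : ℂ)
  have hπ : IsCharacter G π := by
    show IsCharacter G (fun g : G => (Nat.card (MulAction.fixedBy Ω g) : ℂ))
    rw [← permRep_character]
    exact isCharacter_character _
  have hπ0 : ∀ s : T, s ≠ 1 → π s = 0 := fun s hs => by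
    have : IsEmpty (MulAction.fixedBy Ω (s : G)) :=
      ⟨fun u => hsemi s s.2 (fun h => hs (Subtype.ext h)) u.1 u.2⟩
    show (Nat.card (MulAction.fixedBy Ω (s : G)) : ℂ) = 0
    rw [Nat.card_of_isEmpty, Nat.cast_zero]
  have key : ∀ χ : IrrCharacter G, classInner H (χ : G → ℂ) ≠ 0 → Balanced (T := T) (χ : G → ℂ) := by
    rintro ⟨χ, hχ⟩ hne
    by_contra hb
    obtain ⟨l, c, d, hl, hd, hs, hbig⟩ := D.trichotomy hχ hb
    rcases hbig with ⟨n, hn, hbig⟩ | hsm
    swap
    · exact hns χ l hsm
    by_cases hπχ : classInner π χ = 0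
    · apply hne
      have hfix : ∀ u : Ω, ∑ b : MulAction.stabilizer G u, χ b = 0 := by
        have h1 : ∑ u : Ω, ∑ b : MulAction.stabilizer G u, conj (χ (b : G)) = 0 := by
          have h2 : ∑ g : G, π g * conj (χ g) = 0 := by
            have := hπχ
            rw [classInner, mul_eq_zero] at this
            exact this.resolve_left (inv_ne_zero (Nat.cast_ne_zero.mpr Nat.card_pos.ne'))
          rw [← h2]
          have h3 : ∀ g : G, π g * conj (χ g) = ∑ u : Ω, if g • u = u then conj (χ g) else 0 := fun g => by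
            rw [← Finset.sum_filter, Finset.sum_const, nsmul_eq_mul]
            congr 1
            simp only [π, Nat.card_eq_fintype_card, ← Fintype.card_subtype]
            exact congrArg Nat.cast (Fintype.card_congr (Equiv.setCongr rfl))
          rw [Finset.sum_congr rfl fun g _ => h3 g, Finset.sum_comm]
          refine Finset.sum_congr rfl fun u _ => ?_
          rw [← Finset.sum_filter, Finset.sum_subtype (p := fun g : G => g • u = u) _ (fun g => by simp)]
          rfl
        intro u
        have h4 : ∀ u : Ω, ∃ k : ℕ, ∑ b : MulAction.stabilizer G u, conj (χ (b : G)) = (k : ℂ) := fun u => by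
          obtain ⟨k, hk⟩ := classInner_char_nat (isCharacter_one (G := MulAction.stabilizer G u))
            (isCharacter_restrict (isCharacter_of_irr hχ) (MulAction.stabilizer G u))
          refine ⟨Nat.card (MulAction.stabilizer G u) * k, ?_⟩
          rw [Nat.cast_mul, ← hk, classInner, ← mul_assoc,
            mul_inv_cancel₀ (Nat.cast_ne_zero.mpr Nat.card_pos.ne'), one_mul]
          simp
        choose k hk using h4
        have h5 : ∑ u : Ω, k u = 0 := by
          rw [Finset.sum_congr rfl fun u _ => hk u] at h1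
          exact_mod_cast h1
        have h6 := hk u
        rw [Finset.sum_eq_zero_iff.mp h5 u (Finset.mem_univ _), Nat.cast_zero, ← map_sum] at h6
        exact (map_eq_zero _).mp h6
      rw [classInner]
      refine mul_eq_zero_of_right _ ?_
      have hexp : ∀ g : G, H g * conj (χ g) = ∑ u : Ω, if S u (g • u) then conj (χ g) else 0 := fun g => by
        rw [← Finset.sum_filter, Finset.sum_const, nsmul_eq_mul]
        congr 1
        simp only [H, Nat.card_eq_fintype_card, ← Fintype.card_subtype]
      rw [Finset.sum_congr rfl fun g _ => hexp g, Finset.sum_comm]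
      refine Finset.sum_eq_zero fun u _ => ?_
      let f : G → ℂ := fun g => if S u (g • u) then 1 else 0
      have hf : ∀ (b : MulAction.stabilizer G u) (g : G), f ((b : G) * g) = f g := fun b g => by
        refine if_congr ?_ rfl rfl
        conv_rhs => rw [← hS' (b : G)]
        rw [show (b : G) • u = u from b.2, mul_smul]
      have h1 : ∑ g : G, f g * χ g = 0 := by
        have h2b : ∀ b : MulAction.stabilizer G u,
            ∑ g : G, f g * χ ((b : G) * g) = ∑ g : G, f g * χ g := fun b => by
          rw [← Equiv.sum_comp (Equiv.mulLeft (b : G)) (fun g => f g * χ g)]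
          exact Finset.sum_congr rfl fun g _ => by simp [hf b g]
        have h2 : ∑ g : G, ∑ b : MulAction.stabilizer G u, f g * χ ((b : G) * g) =
            (Fintype.card (MulAction.stabilizer G u) : ℂ) * ∑ g : G, f g * χ g := by
          rw [Finset.sum_comm, Finset.sum_congr rfl fun b _ => h2b b, Finset.sum_const, Finset.card_univ,
            nsmul_eq_mul]
        rw [Finset.sum_eq_zero (s := (Finset.univ : Finset G)) fun g _ => by
          rw [← Finset.mul_sum, sum_translate_eq_zero (isCharacter_of_irr hχ) _ (hfix u) g, mul_zero]] at h2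
        replace h2 := h2.symm
        exact (mul_eq_zero.mp h2).resolve_left (Nat.cast_ne_zero.mpr Fintype.card_ne_zero)
      have h7 := congrArg conj h1
      rw [map_sum, map_zero] at h7
      refine (Finset.sum_congr rfl fun g _ => ?_).trans h7
      by_cases hg : S u (g • u) <;> simp [f, hg]
    · choose P hP using fun ν : {ν : Lam T // ν ≠ triv T} => D.exists_partner hχ hl hd hs ν.2
      let g : {ν : Lam T // ν ≠ triv T} → IrrCharacter G := fun ν => ⟨P ν, (hP ν).1⟩
      have hfib : ∀ ψ ∈ Finset.univ.image g, (Finset.univ.filter fun ν => g ν = ψ).card ≤ e := by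
        intro ψ hψ
        obtain ⟨ν₀, -, rfl⟩ := Finset.mem_image.mp hψ
        rw [← D.card_rel ν₀.2]
        refine Finset.card_le_card_of_injOn Subtype.val (fun ν hν => ?_) Subtype.val_injective.injOn
        simp only [Finset.coe_filter, Finset.mem_univ, true_and, Set.mem_ofPred_eq] at hν ⊢
        by_contra hr
        have e1 : P ν = P ν₀ := congrArg Subtype.val hν
        have h1 := ((hP ν).2.2.1 ν.1 ν.2).1 (D.rel_refl _)
        have h2 := ((hP ν₀).2.2.1 ν.1 ν.2).2 hr
        rw [e1] at h1
        omega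
      obtain ⟨k, hk⟩ := classInner_char_nat hπ (isCharacter_of_irr hχ)
      have hk0 : 1 ≤ k := Nat.one_le_iff_ne_zero.mpr fun h0 => hπχ (by rw [hk, h0, Nat.cast_zero])
      choose a ha using fun ψ : IrrCharacter G => classInner_char_nat hπ (isCharacter_of_irr ψ.2)
      choose dg hdg using fun ψ : IrrCharacter G => char_one_eq_natCast (isCharacter_of_irr ψ.2)
      have hπ1 : ∑ ψ : IrrCharacter G, a ψ * dg ψ = Fintype.card Ω := by
        have h1 := congrFun (eq_sum_irr (isClassFunction_char hπ)) 1
        have h2 : π 1 = (Fintype.card Ω : ℂ) := by simp [π]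
        simp only [Finset.sum_apply, Pi.smul_apply, smul_eq_mul, ha, hdg, h2] at h1
        exact_mod_cast h1.symm
      have h3 : (Finset.univ.image g).card * n ≤ Fintype.card Ω := by
        rw [← hπ1, ← smul_eq_mul, ← Finset.sum_const]
        refine le_trans (Finset.sum_le_sum fun ψ hψ => ?_)
          (Finset.sum_le_sum_of_subset (Finset.subset_univ (Finset.univ.image g)))
        obtain ⟨ν, -, rfl⟩ := Finset.mem_image.mp hψ
        have h4 : a (g ν) = k := by
          have := ((hP ν).2.2.2.2 π (isClassFunction_char hπ) hπ0)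
          rw [hk] at this
          exact_mod_cast (ha (g ν)).symm.trans this
        have h5 : dg (g ν) = n := by
          have := (hdg (g ν)).symm.trans ((hP ν).2.1.trans hn)
          exact_mod_cast this
        rw [h4, h5]
        exact Nat.le_mul_of_pos_left _ hk0
      have h6 := Finset.card_le_mul_card_image Finset.univ e hfib
      rw [Finset.card_univ, Fintype.card_subtype_compl, D.card_lam, Fintype.card_subtype_eq] at h6
      obtain ⟨m, hm⟩ : ∃ m, Nat.card T = m + 1 := ⟨Nat.card T - 1, by have := D.e_lt; omega⟩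
      rw [hm, Nat.add_sub_cancel] at h6 hbound
      nlinarith
  obtain ⟨l₀, hl₀, -⟩ := D.exists_lam (triv T)
  let s : T := ⟨t, ht⟩
  let s' : T := ⟨t', ht'⟩
  have hH' : H t = H t' := by
    have he := eq_sum_irr hH
    rw [congrFun he t, congrFun he t', Finset.sum_apply, Finset.sum_apply]
    refine Finset.sum_congr rfl fun χ _ => ?_
    by_cases hc : classInner H (χ : G → ℂ) = 0
    · simp [hc]
    · have hc' := isCharacter_of_irr χ.2
      simp only [Pi.smul_apply]
      rw [D.balanced_apply hc' (key χ hc) hl₀ (t := s) fun h => ht1 (congrArg Subtype.val h),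
        D.balanced_apply hc' (key χ hc) hl₀ (t := s') fun h => ht1' (congrArg Subtype.val h)]
  exact Nat.cast_injective (R := ℂ) hH'

end CfsgLib.SingerFive
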