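/-
A small exceptional character forces a normal subgroup containing `T` whose derived subgroup avoids `T`.
-/
import Cfsg.Agent.Lib.SingerFive.CharMain

set_option autoImplicit false
set_option linter.unusedSectionVars false
set_option linter.style.haveILetI false

namespace CfsgLib.SingerFive

open Cfsg CfsgLib.CharTheory
open scoped ComplexConjugate

universe u

variable {G : Type u} [Group G] [Fintype G] {T : Subgroup G} {w : G} {e : ℕ}

/-- A product of a small character with its conjugate has constituents trivial on the normal closure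
of `T`, with total multiplicity at least `e`. -/
theorem CCData.small_inner_le (D : CCData T w e) [Fintype T] (hbig : e * e + e + 1 < Nat.card T)
    {χ : G → ℂ} {l : Lam T} (h : D.Small χ l) {K : Subgroup G} [Fintype K]
    (hK : ∀ N : Subgroup G, N.Normal → T ≤ N → K ≤ N) :
    ∃ k : ℕ, classInner (fun x : K => χ x) (fun x : K => χ x) = k ∧ e ≤ k := by
  classical
  obtain ⟨hχ, hl, hs, hm⟩ := h
  have hc := isCharacter_of_irr hχ
  have hdeg : χ 1 = e := D.small_deg ⟨hχ, hl, hs, hm⟩
  let θ : G → ℂ := fun g => χ g * conj (χ g)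
  have hθ : IsCharacter G θ := isCharacter_mul hc (isCharacter_conj hc)
  choose a ha using fun ψ : IrrCharacter G => classInner_char_nat hθ (isCharacter_of_irr ψ.2)
  choose dg hdg using fun ψ : IrrCharacter G => char_one_eq_natCast (isCharacter_of_irr ψ.2)
  have hexp : θ = ∑ ψ : IrrCharacter G, (a ψ : ℂ) • (ψ : G → ℂ) := by
    conv_lhs => rw [eq_sum_irr (isClassFunction_char hθ)]
    exact Finset.sum_congr rfl fun ψ _ => by rw [ha]
  have hsum : ∑ ψ : IrrCharacter G, a ψ * dg ψ = e * e := by
    have h1 := congrFun hexp 1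
    simp only [θ, hdeg, map_natCast, Finset.sum_apply, Pi.smul_apply, smul_eq_mul, hdg] at h1
    exact_mod_cast h1.symm
  -- the multiplicity of the trivial character on `T`
  have hT : ∀ (H : Subgroup G) [Fintype H], classInner (fun x : H => χ x) (fun x : H => χ x) =
      ∑ ψ : IrrCharacter G, (a ψ : ℂ) * classInner (fun x : H => (ψ : G → ℂ) x) (fun _ : H => 1) := by
    intro H _
    have h1 : classInner (fun x : H => χ x) (fun x : H => χ x) =
        classInner (fun x : H => θ x) (fun _ : H => 1) := by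
      simp [classInner, θ]
    rw [h1, show (fun x : H => θ x) = ∑ ψ : IrrCharacter G, (a ψ : ℂ) • (fun x : H => (ψ : G → ℂ) x) by
      funext x; rw [hexp]; simp [Finset.sum_apply], classInner_sum_left]
    simp [classInner_smul_left]
  have hTe : classInner (fun x : T => χ x) (fun x : T => χ x) = (e : ℂ) := by
    have h1 : IsClassFunction T (fun x : T => χ x) := isClassFunction_char (isCharacter_restrict hc T)
    rw [classInner_eq_sum_irr h1]
    simp only [← classInner_comm (fun x : T => χ x), ← mu_spec hc, map_natCast]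
    have h2 : ∀ η : Lam T, (mu χ η : ℂ) * (mu χ η : ℂ) = if D.Rel l η then 1 else 0 := by
      intro η
      by_cases hη : η = triv T
      · subst hη
        rw [if_neg fun hr => D.rel_ne_triv hr hl rfl, hm]
        simp
      · by_cases hr : D.Rel l η
        · have h3 := (hs η hη).1 hr
          rw [if_pos hr, show mu χ η = 1 by omega]
          simp
        · have h3 := (hs η hη).2 hr
          rw [if_neg hr, show mu χ η = 0 by omega]
          simp
    rw [Finset.sum_congr rfl fun η _ => h2 η, Finset.sum_boole, D.card_rel hl]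
  -- each constituent meeting the trivial character of `T` is trivial on `K`
  have hle : ∀ ψ : IrrCharacter G, a ψ ≠ 0 → mu (ψ : G → ℂ) (triv T) ≠ 0 →
      ∀ x ∈ K, (ψ : G → ℂ) x = (ψ : G → ℂ) 1 := by
    intro ψ hψa hψm
    have hψ := isCharacter_of_irr ψ.2
    have hdle : dg ψ ≤ e * e := by
      rw [← hsum]
      calc dg ψ ≤ a ψ * dg ψ := Nat.le_mul_of_pos_left _ (Nat.pos_of_ne_zero hψa)
        _ ≤ _ := Finset.single_le_sum (f := fun ψ => a ψ * dg ψ) (fun ψ _ => Nat.zero_le _) (Finset.mem_univ ψ)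
    have hb : Balanced (T := T) (ψ : G → ℂ) := by
      by_contra hb
      obtain ⟨l', c, d, -, -, -, h1⟩ := D.trichotomy ψ.2 hb
      rcases h1 with ⟨n, hn, hn'⟩ | ⟨-, -, -, h2⟩
      · have : n = dg ψ := by exact_mod_cast hn.symm.trans (hdg ψ)
        omega
      · exact hψm h2
    obtain ⟨η, hη, -⟩ := D.exists_lam (triv T)
    have h0 : mu (ψ : G → ℂ) η = 0 := by
      by_contra h0
      have h1 : Nat.card T ≤ dg ψ + 1 := by
        have h3 := D.deg_eq hψ
        rw [hdg] at h3
        have h4 : dg ψ = ∑ k : Lam T, mu (ψ : G → ℂ) k := by exact_mod_cast h3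
        have h5 : ∑ k ∈ Finset.univ.erase (triv T), 1 ≤ ∑ k ∈ Finset.univ.erase (triv T), mu (ψ : G → ℂ) k :=
          Finset.sum_le_sum fun k hk => Nat.one_le_iff_ne_zero.mpr fun hk0 =>
            h0 (by rw [hb η k hη (Finset.mem_erase.mp hk).1, hk0])
        have h6 : ∑ k ∈ Finset.univ.erase (triv T), mu (ψ : G → ℂ) k ≤ ∑ k : Lam T, mu (ψ : G → ℂ) k :=
          Finset.sum_le_sum_of_subset (Finset.subset_univ _)
        rw [Finset.sum_const, smul_eq_mul, mul_one, Finset.card_erase_of_mem (Finset.mem_univ _),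
          Finset.card_univ, D.card_lam] at h5
        omega
      omega
    have hker : ∀ t : T, (ψ : G → ℂ) t = (ψ : G → ℂ) 1 := by
      intro t
      have h1 : ∀ k : Lam T, k ≠ triv T → mu (ψ : G → ℂ) k = 0 := fun k hk => (hb k η hk hη).trans h0
      rw [D.mu_apply hψ, D.deg_eq hψ]
      refine Finset.sum_congr rfl fun k _ => ?_
      by_cases hk : k = triv T
      · subst hk; simp [triv]
      · simp [h1 k hk]
    have hN : (charKernel (ψ : G → ℂ) hψ).Normal := ⟨fun x hx g => by
      rw [mem_charKernel] at hx ⊢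
      rw [isClassFunction_char hψ, hx]⟩
    exact fun x hx => (mem_charKernel hψ x).mp
      (hK _ hN (fun t ht => (mem_charKernel hψ t).mpr (hker ⟨t, ht⟩)) hx)
  choose b hb using fun ψ : IrrCharacter G =>
    classInner_char_nat (isCharacter_restrict (isCharacter_of_irr ψ.2) K) isCharacter_one
  refine ⟨∑ ψ : IrrCharacter G, a ψ * b ψ, by rw [hT K]; push_cast; simp only [hb], ?_⟩
  have hTsum : ∑ ψ : IrrCharacter G, a ψ * mu (ψ : G → ℂ) (triv T) = e := by
    have h1 := (hT T).symm.trans hTe
    have h2 : ∀ ψ : IrrCharacter G, classInner (fun x : T => (ψ : G → ℂ) x) (fun _ : T => 1) =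
        (mu (ψ : G → ℂ) (triv T) : ℂ) := fun ψ => (mu_spec (isCharacter_of_irr ψ.2) (triv T)).symm
    rw [Finset.sum_congr rfl fun ψ _ => by rw [h2 ψ]] at h1
    exact_mod_cast h1
  refine le_trans (le_of_eq hTsum.symm) (Finset.sum_le_sum fun ψ _ => ?_)
  by_cases h1 : a ψ = 0
  · simp [h1]
  by_cases h2 : mu (ψ : G → ℂ) (triv T) = 0
  · simp [h2]
  refine Nat.mul_le_mul_left _ ?_
  have h3 : b ψ = dg ψ := by
    have h4 := hb ψ
    rw [show (fun x : K => (ψ : G → ℂ) x) = (dg ψ : ℂ) • fun _ : K => (1 : ℂ) by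
      funext x; simp [hle ψ h1 h2 x x.2, hdg], classInner_smul_left,
      classInner_irr_self isIrrCharacter_one, mul_one] at h4
    exact_mod_cast h4.symm
  rw [h3]
  have h5 := D.deg_eq (isCharacter_of_irr ψ.2)
  rw [hdg] at h5
  have h6 : dg ψ = ∑ k : Lam T, mu (ψ : G → ℂ) k := by exact_mod_cast h5
  rw [h6]
  exact Finset.single_le_sum (f := fun k => mu (ψ : G → ℂ) k) (fun k _ => Nat.zero_le _) (Finset.mem_univ _)

/-- A small character is trivial on the derived subgroup of the normal closure of `T`. -/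
theorem CCData.small_commutator (D : CCData T w e) [Fintype T] (hbig : e * e + e + 1 < Nat.card T)
    {χ : G → ℂ} {l : Lam T} (h : D.Small χ l) {K : Subgroup G} (hTK : T ≤ K)
    (hK : ∀ N : Subgroup G, N.Normal → T ≤ N → K ≤ N) {x : G} (hx : x ∈ ⁅K, K⁆) : χ x = χ 1 := by
  classical
  have : Fintype K := Fintype.ofFinite K
  obtain ⟨k, hk, hek⟩ := D.small_inner_le hbig h hK
  obtain ⟨hχ, hl, hs, hm⟩ := h
  have hc := isCharacter_of_irr hχ
  have hdeg : χ 1 = e := D.small_deg ⟨hχ, hl, hs, hm⟩
  have hcK := isCharacter_restrict hc K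
  choose a ha using fun θ : IrrCharacter K => classInner_char_nat hcK (isCharacter_of_irr θ.2)
  choose dg hdg using fun θ : IrrCharacter K => char_one_eq_natCast (isCharacter_of_irr θ.2)
  have hexp : (fun y : K => χ y) = ∑ θ : IrrCharacter K, (a θ : ℂ) • (θ : K → ℂ) := by
    conv_lhs => rw [eq_sum_irr (isClassFunction_char hcK)]
    exact Finset.sum_congr rfl fun θ _ => by rw [ha]
  have hd : ∑ θ : IrrCharacter K, a θ * dg θ = e := by
    have h1 := congrFun hexp 1
    simp only [Subgroup.coe_one, hdeg, Finset.sum_apply, Pi.smul_apply, smul_eq_mul, hdg] at h1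
    exact_mod_cast h1.symm
  have hsq : ∑ θ : IrrCharacter K, a θ * a θ = k := by
    have h1 := hk
    rw [classInner_eq_sum_irr (isClassFunction_char hcK)] at h1
    simp only [← classInner_comm (fun y : K => χ y), ha, map_natCast] at h1
    exact_mod_cast h1
  -- multiplicity freeness
  let i : T →* K := Subgroup.inclusion hTK
  choose r hr using fun (θ : IrrCharacter K) (η : Lam T) =>
    classInner_char_nat (isCharacter_comp (isCharacter_of_irr θ.2) i) (isCharacter_of_irr η.2)
  have hle1 : ∀ θ : IrrCharacter K, a θ ≤ 1 := by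
    intro θ
    obtain ⟨η, hη⟩ : ∃ η, r θ η ≠ 0 := by
      by_contra hall
      push Not at hall
      have h0 := congrFun (eq_sum_irr (isClassFunction_char (isCharacter_comp (isCharacter_of_irr θ.2) i))) 1
      simp only [map_one, Finset.sum_apply, Pi.smul_apply, smul_eq_mul, hr, hall, Nat.cast_zero, zero_mul,
        Finset.sum_const_zero] at h0
      exact irr_ne_zero θ.2 h0
    have h1 : mu χ η = ∑ θ' : IrrCharacter K, a θ' * r θ' η := by
      have h2 := mu_spec hc η
      rw [show (fun t : T => χ t) = ∑ θ' : IrrCharacter K, (a θ' : ℂ) • (fun t : T => (θ' : K → ℂ) (i t)) by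
        funext t
        have := congrFun hexp (i t)
        simpa [Finset.sum_apply, i] using this, classInner_sum_left] at h2
      simp only [classInner_smul_left, hr] at h2
      exact_mod_cast h2
    have h3 : mu χ η ≤ 1 := by
      by_cases hη' : η = triv T
      · subst hη'; omega
      · by_cases hr' : D.Rel l η
        · have := (hs η hη').1 hr'; omega
        · have := (hs η hη').2 hr'; omega
    have h4 : a θ * r θ η ≤ ∑ θ' : IrrCharacter K, a θ' * r θ' η :=
      Finset.single_le_sum (f := fun θ' => a θ' * r θ' η) (fun θ' _ => Nat.zero_le _) (Finset.mem_univ θ)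
    have h5 : a θ ≤ a θ * r θ η := Nat.le_mul_of_pos_right _ (Nat.pos_of_ne_zero hη)
    omega
  have hlin : ∀ θ : IrrCharacter K, a θ * dg θ = a θ * a θ := by
    have hpt : ∀ θ ∈ (Finset.univ : Finset (IrrCharacter K)), a θ * a θ ≤ a θ * dg θ := fun θ _ => by
      refine Nat.mul_le_mul_left _ (le_trans (hle1 θ) ?_)
      refine Nat.one_le_iff_ne_zero.mpr fun h0 => irr_ne_zero θ.2 ?_
      rw [hdg, h0, Nat.cast_zero]
    have heq : ∑ θ : IrrCharacter K, a θ * a θ = ∑ θ : IrrCharacter K, a θ * dg θ :=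
      le_antisymm (Finset.sum_le_sum hpt) (by rw [hd, hsq]; exact hek)
    exact fun θ => ((Finset.sum_eq_sum_iff_of_le hpt).mp heq θ (Finset.mem_univ _)).symm
  have hxK : x ∈ K := Subgroup.commutator_le.mpr (fun g hg g' hg' => by
    rw [commutatorElement_def]
    exact K.mul_mem (K.mul_mem (K.mul_mem hg hg') (K.inv_mem hg)) (K.inv_mem hg')) hx
  have hxc : (⟨x, hxK⟩ : K) ∈ commutator K := by
    have h1 : (commutator K).map K.subtype = ⁅K, K⁆ := by
      rw [commutator_def, Subgroup.map_commutator, ← MonoidHom.range_eq_map, Subgroup.range_subtype]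
    rw [← h1] at hx
    obtain ⟨y, hy, hyx⟩ := hx
    exact (show y = ⟨x, hxK⟩ from Subtype.ext hyx) ▸ hy
  have h1 := congrFun hexp ⟨x, hxK⟩
  have h2 := congrFun hexp 1
  simp only [Subgroup.coe_one] at h2
  rw [h1, h2, Finset.sum_apply, Finset.sum_apply]
  refine Finset.sum_congr rfl fun θ _ => ?_
  by_cases h0 : a θ = 0
  · simp [h0]
  have hd1 : dg θ = 1 := by
    have h3 := hlin θ
    have h4 := hle1 θ
    have h5 : a θ = 1 := by omega
    rw [h5] at h3
    simpa using h3
  obtain ⟨φ, hφ⟩ := exists_hom_of_degree_one (isCharacter_of_irr θ.2) (by rw [hdg, hd1, Nat.cast_one])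
  simp only [Pi.smul_apply, hφ, map_one, Units.val_one]
  rw [MonoidHom.mem_ker.mp (Abelianization.commutator_subset_ker φ hxc), Units.val_one]

/-- A small character forces a normal subgroup `K ⊇ T` with derived subgroup meeting `T` trivially. -/
theorem CCData.exists_normal_of_small (D : CCData T w e) [Fintype T] (hbig : e * e + e + 1 < Nat.card T)
    {χ : G → ℂ} {l : Lam T} (h : D.Small χ l) :
    ∃ K : Subgroup G, K.Normal ∧ T ≤ K ∧ ⁅K, K⁆ ⊓ T = ⊥ := by
  classical
  refine ⟨Subgroup.normalClosure T, inferInstance, Subgroup.subset_normalClosure, ?_⟩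
  rw [Subgroup.eq_bot_iff_forall]
  rintro x ⟨hxK, hxT⟩
  by_contra hx1
  have hx1' : (⟨x, hxT⟩ : T) ≠ 1 := fun h => hx1 (congrArg Subtype.val h)
  obtain ⟨hχ, hl, hs, hm⟩ := h
  choose P hP using fun ν : {ν : Lam T // ν ≠ triv T} => D.exists_partner hχ hl (Or.inl rfl) hs ν.2
  have hsmall : ∀ ν, D.Small (P ν) ν.1 := fun ν =>
    ⟨(hP ν).1, ν.2, (hP ν).2.2.1, (hP ν).2.2.2.1.trans hm⟩
  have hval : ∀ ν : {ν : Lam T // ν ≠ triv T},
      ∑ i ∈ Finset.range e, (D.tw i ν.1 : T → ℂ) ⟨x, hxT⟩ = (e : ℂ) := by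
    intro ν
    have h1 : P ν x = (e : ℂ) := by
      rw [D.small_commutator hbig (hsmall ν) Subgroup.subset_normalClosure
        (fun N _ hTN => Subgroup.normalClosure_le_normal hTN) hxK, D.small_deg (hsmall ν)]
    rw [← h1, show P ν x = P ν ((⟨x, hxT⟩ : T) : G) from rfl, D.mu_apply (isCharacter_of_irr (hP ν).1)]
    have h2 : ∀ η : Lam T, (mu (P ν) η : ℂ) =
        ∑ i ∈ Finset.range e, (if D.tw i ν.1 = η then 1 else 0 : ℂ) := by
      intro η
      rw [D.sum_tw_eq ν.2]
      by_cases hη : η = triv T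
      · subst hη
        rw [(hsmall ν).2.2.2, if_neg fun hr => D.rel_ne_triv hr ν.2 rfl, Nat.cast_zero]
      · by_cases hr : D.Rel ν.1 η
        · have h3 := ((hsmall ν).2.2.1 η hη).1 hr
          rw [if_pos hr, show mu (P ν) η = 1 by omega, Nat.cast_one]
        · have h3 := ((hsmall ν).2.2.1 η hη).2 hr
          rw [if_neg hr, show mu (P ν) η = 0 by omega, Nat.cast_zero]
    simp only [h2, Finset.sum_mul]
    rw [Finset.sum_comm]
    exact Finset.sum_congr rfl fun i _ => by simp [Finset.sum_ite_eq]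
  have h1 := Finset.sum_congr rfl fun ν (_ : ν ∈ (Finset.univ : Finset {ν : Lam T // ν ≠ triv T})) => hval ν
  rw [Finset.sum_comm, Finset.sum_const, Finset.card_univ, Fintype.card_subtype_compl, D.card_lam,
    Fintype.card_subtype_eq] at h1
  have h2 : ∀ i, ∑ ν : {ν : Lam T // ν ≠ triv T}, (D.tw i ν.1 : T → ℂ) ⟨x, hxT⟩ = -1 := by
    intro i
    have hxi : D.act i ⟨x, hxT⟩ ≠ 1 := fun h => hx1' (D.act_injective i (h.trans (map_one _).symm))
    have h3 := D.sum_lam_apply hxi
    rw [← Finset.add_sum_erase _ _ (Finset.mem_univ (triv T))] at h3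
    rw [← eq_neg_of_add_eq_zero_right (show (1 : ℂ) + _ = 0 from h3)]
    exact (Finset.sum_subtype (p := fun ν : Lam T => ν ≠ triv T) _ (fun ν => by simp)
      (fun ν => (ν : T → ℂ) (D.act i ⟨x, hxT⟩))).symm
  rw [Finset.sum_congr rfl fun i _ => h2 i, Finset.sum_const, Finset.card_range, nsmul_eq_mul,
    nsmul_eq_mul] at h1
  have h4 := congrArg Complex.re h1
  simp only [Complex.mul_re, Complex.natCast_re, Complex.natCast_im, Complex.neg_re, Complex.one_re,
    Complex.neg_im, Complex.one_im, mul_zero, sub_zero] at h4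
  have h6 : (0 : ℝ) < e := Nat.cast_pos.mpr (lt_of_lt_of_le two_pos D.pos)
  have h5 : (0 : ℝ) ≤ ((Nat.card T - 1 : ℕ) : ℝ) * e := mul_nonneg (Nat.cast_nonneg _) h6.le
  linarith

end CfsgLib.SingerFive
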