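/-
Equidistribution gives transitivity on points and on lines.
-/
import Cfsg.Agent.Lib.SingerFive.Semi
import Cfsg.Agent.Lib.SingerFive.Incidence

set_option autoImplicit false
set_option linter.unusedSectionVars false
set_option linter.style.haveILetI false

namespace CfsgLib.SingerFive

open Module

variable {F L : Type*} [Field F] [Field L] [Algebra F L] [Finite L] {M : Subgroup (L ≃ₗ[F] L)}

theorem mulE_pt (u : Lˣ) (v : L) (hv : v ≠ 0) :
    (mulE u : L ≃ₗ[F] L) • (pt v hv : Sub F L 1) = pt ((u : L) * v) (mul_ne_zero u.ne_zero hv) := smul_pt _ v hv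

/-- The classes of norms modulo fifth powers are one or five. -/
theorem exists_index (hn : finrank F L = 5) :
    ∃ d, (d = 1 ∨ (d = 5 ∧ 5 ∣ Nat.card F - 1)) ∧ Nat.card (Fˣ ⧸ (powMonoidHom 5 : Fˣ →* Fˣ).range) = d := by
  haveI := finite_base F L
  haveI : Fintype F := Fintype.ofFinite F
  have h1 := (powMonoidHom 5 : Fˣ →* Fˣ).ker.card_mul_index
  rw [Subgroup.index_ker] at h1
  have h2 := (powMonoidHom 5 : Fˣ →* Fˣ).range.card_mul_index
  have h3 : Nat.card (Fˣ ⧸ (powMonoidHom 5 : Fˣ →* Fˣ).range) = Nat.card (powMonoidHom 5 : Fˣ →* Fˣ).ker := by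
    rw [← Subgroup.index_eq_card]
    exact Nat.eq_of_mul_eq_mul_left (Nat.card_pos (α := (powMonoidHom 5 : Fˣ →* Fˣ).range))
      (h2.trans (h1.symm.trans (mul_comm _ _)))
  have h4 : (powMonoidHom 5 : Fˣ →* Fˣ).ker = rootsOfUnity 5 F := Subgroup.ext fun c => by
    simp [MonoidHom.mem_ker, mem_rootsOfUnity]
  refine ⟨_, ?_, h3⟩
  rw [h4]
  have hle := card_rootsOfUnity F 5
  haveI : Fact (Nat.Prime 5) := ⟨by norm_num⟩
  obtain ⟨k, hk⟩ := IsPGroup.iff_card.mp (show IsPGroup 5 (rootsOfUnity 5 F) from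
    fun c => ⟨1, Subtype.ext (by rw [pow_one, SubmonoidClass.coe_pow]; exact c.2)⟩)
  rcases Nat.eq_zero_or_pos k with rfl | hk0
  · left; simpa using hk
  · right
    have h5 : Nat.card (rootsOfUnity 5 F) = 5 := le_antisymm hle (hk ▸ Nat.le_self_pow hk0.ne' 5)
    refine ⟨h5, ?_⟩
    rw [← Nat.card_units, ← h5]
    exact Subgroup.card_subgroup_dvd_card _

/-- Two vectors whose norms differ by a fifth power differ by the torus up to a scalar. -/
theorem exists_tor_of_norm (hn : finrank F L = 5) {x y : L} (hx : x ≠ 0) (hy : y ≠ 0)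
    (hxy : LinearIndependent F ![x, y]) (c : F) (hc : Algebra.norm F y = c ^ 5 * Algebra.norm F x) :
    ∃ t ∈ normOne F L, (t : L) ∉ Set.range (algebraMap F L) ∧ ∀ W : Submodule F L, y ∈ W → (t : L) * x ∈ W := by
  haveI : FiniteDimensional F L := finiteDim
  have hc0 : c ≠ 0 := fun h => by
    rw [h, zero_pow (by norm_num), zero_mul] at hc
    exact hy (Algebra.norm_eq_zero_iff.mp hc)
  have hcL : algebraMap F L c * x ≠ 0 := mul_ne_zero ((map_ne_zero _).mpr hc0) hx
  refine ⟨Units.mk0 (y / (algebraMap F L c * x)) (div_ne_zero hy hcL), ?_, ?_, ?_⟩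
  · rw [mem_normOne, Units.val_mk0]
    have h1 := congrArg (Algebra.norm F) (div_mul_cancel₀ y hcL)
    rw [map_mul, map_mul, norm_algebraMap' hn, hc] at h1
    exact mul_right_cancel₀ (mul_ne_zero (pow_ne_zero _ hc0) (Algebra.norm_ne_zero_iff.mpr hx)) (h1.trans (one_mul _).symm)
  · rintro ⟨a, ha⟩
    rw [Units.val_mk0, eq_div_iff hcL] at ha
    rw [LinearIndependent.pair_iff' hx] at hxy
    refine hxy (a * c) ?_
    rw [Algebra.smul_def, map_mul, mul_assoc]
    exact ha
  · intro W hW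
    rw [Units.val_mk0, show y / (algebraMap F L c * x) * x = c⁻¹ • y by
      rw [Algebra.smul_def, map_inv₀]
      field_simp]
    exact W.smul_mem _ hW

/-- Every line has two points differing by a non-trivial element of the torus. -/
theorem exists_pair (hn : finrank F L = 5) (W : Sub F L 2) :
    ∃ (x : L) (t : Lˣ), x ≠ 0 ∧ x ∈ W.1 ∧ t ∈ normOne F L ∧ (t : L) ∉ Set.range (algebraMap F L) ∧
      (t : L) * x ∈ W.1 := by
  classical
  haveI := finite_base F L
  haveI : FiniteDimensional F L := finiteDim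
  obtain ⟨d, hd, hcard⟩ := exists_index (F := F) (L := L) hn
  choose r hr hP using fun P : {P : Sub F L 1 // P.1 ≤ W.1} => exists_pt P.1
  let f : {P : Sub F L 1 // P.1 ≤ W.1} → Fˣ ⧸ (powMonoidHom 5 : Fˣ →* Fˣ).range := fun P =>
    (Units.mk0 (Algebra.norm F (r P)) (Algebra.norm_ne_zero_iff.mpr (hr P)) : Fˣ)
  have hlt : Nat.card (Fˣ ⧸ (powMonoidHom 5 : Fˣ →* Fˣ).range) < Nat.card {P : Sub F L 1 // P.1 ≤ W.1} := by
    rw [hcard, card_on_line]
    have h2 : 2 ≤ Nat.card F := Finite.one_lt_card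
    rcases hd with rfl | ⟨rfl, h5⟩
    · omega
    · have := Nat.le_of_dvd (by omega) h5
      omega
  obtain ⟨P, Q, hne, hPQ⟩ : ∃ P Q, P ≠ Q ∧ f P = f Q := by
    by_contra hc
    push Not at hc
    exact absurd (Nat.card_le_card_of_injective f fun P Q h => by_contra fun hne => hc P Q hne h) (by omega)
  obtain ⟨e, he⟩ := QuotientGroup.eq.mp hPQ
  have hxy : LinearIndependent F ![r P, r Q] := indep_of_ne (hr P) (hr Q) fun h => hne (Subtype.ext (by rw [hP P, hP Q, h]))
  obtain ⟨t, ht, htn, hmem⟩ := exists_tor_of_norm hn (hr P) (hr Q) hxy (e : F) (by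
    have he' : Units.mk0 (Algebra.norm F (r P)) (Algebra.norm_ne_zero_iff.mpr (hr P)) * e ^ 5 =
        Units.mk0 (Algebra.norm F (r Q)) (Algebra.norm_ne_zero_iff.mpr (hr Q)) := by
      rw [show e ^ 5 = powMonoidHom 5 e from rfl, he, mul_inv_cancel_left]
    have := congrArg Units.val he'
    simp only [Units.val_mul, Units.val_pow_eq_pow_val, Units.val_mk0] at this
    rw [← this, mul_comm])
  have hmemW : ∀ R, r R ∈ W.1 := fun R => by
    have h1 := R.2
    rw [hP R] at h1
    exact (pt_le_iff (hr R) W).mp h1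
  exact ⟨r P, t, hr P, hmemW P, ht, htn, hmem W.1 (hmemW Q)⟩

/-- In an equidistributed group an invariant predicate on lines holds equally often on every translate class. -/
theorem Over.count_const {O : Over M} (hE : Equidistributed O) (φ : Sub F L 2 → Prop)
    (hφ : ∀ g ∈ M, ∀ W, φ W → φ (g • W)) (W W' : Sub F L 2) :
    Nat.card {a : Lˣ // φ ((mulE a : L ≃ₗ[F] L) • W)} = Nat.card {a : Lˣ // φ ((mulE a : L ≃ₗ[F] L) • W')} := by
  let S : Sub F L 1 → Sub F L 1 → Prop := fun P Q => P ≠ Q ∧ ∃ U : Sub F L 2, P.1 ≤ U.1 ∧ Q.1 ≤ U.1 ∧ φ U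
  have hS : ∀ g ∈ M, ∀ P Q, S P Q → S (g • P) (g • Q) := by
    rintro g hg P Q ⟨hne, U, hP, hQ, hU⟩
    exact ⟨fun h => hne (MulAction.injective g h), g • U, Submodule.map_mono hP, Submodule.map_mono hQ, hφ g hg U hU⟩
  have key : ∀ (U : Sub F L 2) (x : L) (t : Lˣ) (hx : x ≠ 0), x ∈ U.1 → (t : L) ∉ Set.range (algebraMap F L) →
      (t : L) * x ∈ U.1 → Nat.card {a : Lˣ // φ ((mulE a : L ≃ₗ[F] L) • U)} =
        Nat.card {P : Sub F L 1 // S P ((mulE t : L ≃ₗ[F] L) • P)} * Nat.card Fˣ := by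
    intro U x t hx hxU ht htU
    rw [← card_units_filter fun P => S P ((mulE t : L ≃ₗ[F] L) • P)]
    refine Nat.card_congr (Equiv.subtypeEquiv (Equiv.mulRight (Units.mk0 x hx)) fun a => ?_)
    have ha : pt ((Equiv.mulRight (Units.mk0 x hx) a : Lˣ) : L) (Units.ne_zero _) =
        (pt ((a : L) * x) (mul_ne_zero a.ne_zero hx) : Sub F L 1) := rfl
    rw [ha]
    have hne : (pt ((a : L) * x) (mul_ne_zero a.ne_zero hx) : Sub F L 1) ≠
        (mulE t : L ≃ₗ[F] L) • pt ((a : L) * x) (mul_ne_zero a.ne_zero hx) :=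
      fun h => ht (mem_range_of_fix h.symm)
    have hin : ∀ {y : L} (hy : y ≠ 0), y ∈ U.1 →
        (pt ((a : L) * y) (mul_ne_zero a.ne_zero hy) : Sub F L 1).1 ≤ ((mulE a : L ≃ₗ[F] L) • U).1 :=
      fun hy hyU => (pt_le_iff _ _).mpr (mem_sub_smul (mulE a : L ≃ₗ[F] L) U hyU)
    have h2 : ((mulE t : L ≃ₗ[F] L) • pt ((a : L) * x) (mul_ne_zero a.ne_zero hx)).1 ≤
        ((mulE a : L ≃ₗ[F] L) • U).1 := by
      rw [mulE_pt]
      refine (pt_le_iff _ _).mpr ?_
      rw [mul_left_comm]
      exact mem_sub_smul (mulE a : L ≃ₗ[F] L) U htU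
    constructor
    · intro h
      exact ⟨hne, _, hin hx hxU, h2, h⟩
    · rintro ⟨-, U', hP, hQ, hU'⟩
      rwa [(existsUnique_line _ _ hne).unique ⟨hin hx hxU, h2⟩ ⟨hP, hQ⟩]
  obtain ⟨x, t, hx, hxW, ht, htn, htW⟩ := exists_pair O.finrank W
  obtain ⟨x', t', hx', hxW', ht', htn', htW'⟩ := exists_pair O.finrank W'
  rw [key W x t hx hxW htn htW, key W' x' t' hx' hxW' htn' htW', hE S hS t t' ht ht' htn htn']

/-- An invariant set of points meets the torus orbits wholly. -/
theorem Over.tor_dvd (O : Over M) (q : Sub F L 1 → Prop) (hq : ∀ g ∈ M, ∀ P, q P → q (g • P)) :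
    Nat.card O.tor ∣ Nat.card {P : Sub F L 1 // q P} := by
  letI : MulAction O.tor {P : Sub F L 1 // q P} :=
    { smul := fun t P => ⟨(t : (onPts M).range) • P.1, by
        obtain ⟨g, hg⟩ := (t : (onPts M).range).2
        show q (((t : (onPts M).range) : Equiv.Perm (Sub F L 1)) P.1)
        rw [← hg]
        exact hq g g.2 P.1 P.2⟩
      one_smul := fun P => Subtype.ext (one_smul _ P.1)
      mul_smul := fun s t P => Subtype.ext (mul_smul (s : (onPts M).range) t P.1) }
  have hst : ∀ P : {P : Sub F L 1 // q P}, MulAction.stabilizer O.tor P = ⊥ := fun P => by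
    rw [eq_bot_iff]
    intro t ht
    by_contra hne
    exact O.semiregular t t.2 (fun h => hne (Subgroup.mem_bot.mpr (Subtype.ext h))) P.1
      (congrArg Subtype.val (MulAction.mem_stabilizer_iff.mp ht))
  rw [Nat.card_congr (MulAction.selfEquivOrbitsQuotientProd hst), Nat.card_prod]
  exact dvd_mul_left _ _

/-- The sum over all translates. -/
theorem sum_translates [Fintype (Sub F L 2)] (f : Sub F L 2 → ℕ) [Fintype Lˣ] :
    ∑ W : Sub F L 2, ∑ a : Lˣ, f ((mulE a : L ≃ₗ[F] L) • W) = Fintype.card Lˣ * ∑ W : Sub F L 2, f W := by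
  rw [Finset.sum_comm]
  refine (Finset.sum_congr rfl fun a _ => Equiv.sum_comp (MulAction.toPerm (mulE a : L ≃ₗ[F] L)) f).trans ?_
  rw [Finset.sum_const, smul_eq_mul, Finset.card_univ]

theorem card_lines_mul (hn : finrank F L = 5) :
    Nat.card (Sub F L 2) * ((Nat.card F + 1) * Nat.card F) =
      Nat.card (Sub F L 1) * (Nat.card (Sub F L 1) - 1) := by
  classical
  haveI : Fintype (Sub F L 2) := Fintype.ofFinite _
  have h := sum_pairs (F := F) (V := L) fun _ => True
  simp only [and_true] at h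
  rw [Finset.sum_congr rfl fun W _ => by rw [card_on_line, Nat.add_sub_cancel], Finset.sum_const, smul_eq_mul,
    Finset.card_univ, ← Nat.card_eq_fintype_card, Nat.card_congr (Equiv.subtypeUnivEquiv fun _ => trivial)] at h
  exact h

theorem card_lines_eq (hn : finrank F L = 5) :
    Nat.card (Sub F L 2) = Nat.card (Sub F L 1) * (Nat.card F ^ 2 + 1) := by
  haveI := finite_base F L
  have h := card_lines_mul (F := F) (L := L) hn
  have h0 : 0 < (Nat.card F + 1) * Nat.card F := Nat.mul_pos (Nat.succ_pos _) Nat.card_pos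
  refine Nat.eq_of_mul_eq_mul_right h0 (h.trans ?_)
  rw [card_pts_eq hn, Nat.add_sub_cancel]
  ring

/-- An equidistributed group is transitive on points. -/
theorem Over.pts_transitive {O : Over M} (hE : Equidistributed O) (hq : 3 ≤ Nat.card F)
    (q : Sub F L 1 → Prop) (hinv : ∀ g ∈ M, ∀ P, q P → q (g • P)) {P₀ : Sub F L 1} (h₀ : q P₀) :
    ∀ P, q P := by
  classical
  haveI := finite_base F L
  haveI : Fintype (Sub F L 2) := Fintype.ofFinite _
  haveI : Fintype (Sub F L 1) := Fintype.ofFinite _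
  haveI : Fintype Lˣ := Fintype.ofFinite _
  obtain ⟨d, hd, hcard⟩ := O.exists_classes
  obtain ⟨k, hk⟩ := O.tor_dvd q hinv
  let c : Sub F L 2 → ℕ := fun W => Nat.card {P : Sub F L 1 // P.1 ≤ W.1 ∧ q P}
  have hinv' : ∀ g ∈ M, ∀ P, q (g • P) → q P := fun g hg P h => by simpa using hinv g⁻¹ (inv_mem hg) _ h
  have hc : ∀ g ∈ M, ∀ W, c (g • W) = c W := fun g hg W => by
    refine (Nat.card_congr (Equiv.subtypeEquiv (MulAction.toPerm g) fun P => ?_)).symm
    rw [MulAction.toPerm_apply]
    exact ⟨fun h => ⟨Submodule.map_mono h.1, hinv g hg P h.2⟩,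
      fun h => ⟨(Submodule.map_le_map_iff_of_injective (LinearEquiv.injective g) _ _).mp h.1, hinv' g hg P h.2⟩⟩
  have hconst : ∀ W W' : Sub F L 2, ∑ a : Lˣ, c ((mulE a : L ≃ₗ[F] L) • W) * (c ((mulE a : L ≃ₗ[F] L) • W) - 1) =
      ∑ a : Lˣ, c ((mulE a : L ≃ₗ[F] L) • W') * (c ((mulE a : L ≃ₗ[F] L) • W') - 1) := by
    intro W W'
    have hsum : ∀ U : Sub F L 2, ∑ a : Lˣ, c ((mulE a : L ≃ₗ[F] L) • U) * (c ((mulE a : L ≃ₗ[F] L) • U) - 1) =
        ∑ j ∈ Finset.range (Nat.card (Sub F L 1) + 1),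
          Nat.card {a : Lˣ // c ((mulE a : L ≃ₗ[F] L) • U) = j} * (j * (j - 1)) := by
      intro U
      rw [← Finset.sum_fiberwise_of_maps_to (g := fun a : Lˣ => c ((mulE a : L ≃ₗ[F] L) • U))
        (t := Finset.range (Nat.card (Sub F L 1) + 1))
        fun a _ => Finset.mem_range.mpr (Nat.lt_succ_of_le (Nat.card_le_card_of_injective Subtype.val Subtype.val_injective))]
      refine Finset.sum_congr rfl fun j _ => ?_
      rw [Finset.sum_congr rfl fun a ha => by rw [(Finset.mem_filter.mp ha).2], Finset.sum_const, smul_eq_mul,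
        Nat.card_eq_fintype_card, Fintype.card_subtype]
    rw [hsum W, hsum W']
    exact Finset.sum_congr rfl fun j _ => by
      rw [O.count_const hE (fun U => c U = j) (fun g hg U h => (hc g hg U).trans h) W W']
  -- the sum of one translate class is a multiple of the torus
  have hdiv : ∀ W : Sub F L 2, (Nat.card O.tor * Nat.card Fˣ) ∣
      ∑ a : Lˣ, c ((mulE a : L ≃ₗ[F] L) • W) * (c ((mulE a : L ≃ₗ[F] L) • W) - 1) := by
    intro W
    let f : Sub F L 1 → ℕ := fun P => c ((mulE (Units.mk0 (exists_pt P).choose (exists_pt P).choose_spec.choose) : L ≃ₗ[F] L) • W)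
    have hf : ∀ a : Lˣ, f (pt (a : L) a.ne_zero) = c ((mulE a : L ≃ₗ[F] L) • W) := by
      intro a
      obtain ⟨z, hz, he⟩ := pt_eq_pt a.ne_zero _ (exists_pt (pt (a : L) a.ne_zero : Sub F L 1)).choose_spec.choose_spec
      show c _ = _
      congr 1
      rw [show Units.mk0 _ (exists_pt (pt (a : L) a.ne_zero : Sub F L 1)).choose_spec.choose =
        Units.map (algebraMap F L : F →* L) (Units.mk0 z hz) * a from Units.ext (by rw [Units.val_mul]; simp [he, Algebra.smul_def]),
        map_mul, mul_smul]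
      refine Subtype.ext (le_antisymm ?_ ?_)
      · rintro _ ⟨x, hx, rfl⟩
        show algebraMap F L z * x ∈ _
        rw [← Algebra.smul_def]
        exact Submodule.smul_mem _ z hx
      · intro x hx
        exact ⟨z⁻¹ • x, Submodule.smul_mem _ _ hx, by
          show algebraMap F L z * (z⁻¹ • x) = x
          rw [← Algebra.smul_def, smul_smul, mul_inv_cancel₀ hz, one_smul]⟩
    have hfinv : ∀ (u : normOne F L) (P : Sub F L 1), f ((mulE (u : Lˣ) : L ≃ₗ[F] L) • P) = f P := by
      intro u P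
      obtain ⟨v, hv, rfl⟩ := exists_pt P
      rw [mulE_pt, show (pt ((((u : Lˣ) : L)) * v) _ : Sub F L 1) = pt (((u : Lˣ) * Units.mk0 v hv : Lˣ) : L) (Units.ne_zero _) from rfl,
        hf, show (pt v hv : Sub F L 1) = pt ((Units.mk0 v hv : Lˣ) : L) (Units.ne_zero _) from rfl, hf, map_mul, mul_smul]
      exact hc _ (O.mul _ (mem_normOne.mp u.2)) _
    rw [← Finset.sum_fiberwise_of_maps_to (g := fun a : Lˣ => c ((mulE a : L ≃ₗ[F] L) • W))
      (t := Finset.range (Nat.card (Sub F L 1) + 1))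
      fun a _ => Finset.mem_range.mpr (Nat.lt_succ_of_le (Nat.card_le_card_of_injective Subtype.val Subtype.val_injective))]
    refine Finset.dvd_sum fun j _ => ?_
    rw [Finset.sum_congr rfl fun a ha => by rw [(Finset.mem_filter.mp ha).2], Finset.sum_const, smul_eq_mul,
      ← Fintype.card_subtype, ← Nat.card_eq_fintype_card]
    refine Dvd.dvd.mul_right ?_ _
    rw [Nat.card_congr (Equiv.subtypeEquivRight fun a : Lˣ => show c ((mulE a : L ≃ₗ[F] L) • W) = j ↔
      f (pt (a : L) a.ne_zero) = j by rw [hf]), card_units_filter fun P => f P = j]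
    refine Nat.mul_dvd_mul_right ?_ _
    letI : MulAction O.tor {P : Sub F L 1 // f P = j} :=
      { smul := fun t P => ⟨(t : (onPts M).range) • P.1, by
          obtain ⟨u, hu⟩ := O.mem_tor.mp t.2
          show f (((t : (onPts M).range) : Equiv.Perm (Sub F L 1)) P.1) = j
          rw [hu, hfinv]
          exact P.2⟩
        one_smul := fun P => Subtype.ext (one_smul _ P.1)
        mul_smul := fun s t P => Subtype.ext (mul_smul (s : (onPts M).range) t P.1) }
    have hst : ∀ P : {P : Sub F L 1 // f P = j}, MulAction.stabilizer O.tor P = ⊥ := fun P => by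
      rw [eq_bot_iff]
      intro t ht
      by_contra hne
      exact O.semiregular t t.2 (fun h => hne (Subgroup.mem_bot.mpr (Subtype.ext h))) P.1
        (congrArg Subtype.val (MulAction.mem_stabilizer_iff.mp ht))
    rw [Nat.card_congr (MulAction.selfEquivOrbitsQuotientProd hst), Nat.card_prod]
    exact dvd_mul_left _ _
  obtain ⟨W₀⟩ : Nonempty (Sub F L 2) := Finite.card_pos_iff.mp (by
    rw [card_lines_eq O.finrank, card_pts_eq O.finrank]
    positivity)
  obtain ⟨C, hC⟩ := hdiv W₀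
  have hN : Nat.card (Sub F L 2) * (Nat.card O.tor * Nat.card Fˣ * C) =
      Nat.card Lˣ * (Nat.card {P : Sub F L 1 // q P} * (Nat.card {P : Sub F L 1 // q P} - 1)) := by
    have h := sum_translates fun W : Sub F L 2 => c W * (c W - 1)
    rw [show ∑ W : Sub F L 2, c W * (c W - 1) = _ from sum_pairs q,
      Finset.sum_congr rfl fun W _ => (hconst W W₀).trans hC, Finset.sum_const, smul_eq_mul, Finset.card_univ] at h
    rwa [Nat.card_eq_fintype_card (α := Sub F L 2), Nat.card_eq_fintype_card (α := Lˣ)]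
  rw [card_units_pts (F := F) (L := L), card_lines_eq O.finrank, hk] at hN
  have hF : 0 < Nat.card Fˣ := Nat.card_pos
  have hT : 0 < Nat.card O.tor := Nat.card_pos
  have hP : 0 < Nat.card (Sub F L 1) := by rw [card_pts_eq O.finrank]; positivity
  have hmain : (Nat.card F ^ 2 + 1) * C = k * (Nat.card O.tor * k - 1) := by
    refine Nat.eq_of_mul_eq_mul_left (Nat.mul_pos (Nat.mul_pos hP hF) hT) ?_
    calc Nat.card (Sub F L 1) * Nat.card Fˣ * Nat.card O.tor * ((Nat.card F ^ 2 + 1) * C)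
        = Nat.card (Sub F L 1) * (Nat.card F ^ 2 + 1) * (Nat.card O.tor * Nat.card Fˣ * C) := by ring
      _ = _ := hN
      _ = _ := by ring
  have hk1 : 1 ≤ k := by
    rcases Nat.eq_zero_or_pos k with rfl | h
    · rw [mul_zero] at hk
      haveI : IsEmpty {P : Sub F L 1 // q P} := (Nat.card_eq_zero.mp hk).resolve_right (not_infinite_iff_finite.mpr inferInstance)
      exact (IsEmpty.false (⟨P₀, h₀⟩ : {P : Sub F L 1 // q P})).elim
    · exact h
  have hkd : k ≤ d := by
    have h := Nat.card_le_card_of_injective (Subtype.val : {P : Sub F L 1 // q P} → Sub F L 1) Subtype.val_injective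
    rw [hk, hcard, mul_comm d] at h
    exact Nat.le_of_mul_le_mul_left h hT
  have hkd' : k = d := by
    rcases hd with rfl | ⟨rfl, h5⟩
    · omega
    · by_contra hne
      -- `5 k (k m - 1) = k (k - 5)` modulo `q ^ 2 + 1`
      obtain ⟨X, hX⟩ : ∃ X, Nat.card O.tor * k = X + 1 :=
        ⟨_, (Nat.succ_pred_eq_of_pos (Nat.mul_pos hT hk1)).symm⟩
      rw [hX, Nat.add_sub_cancel] at hmain
      have hpts := card_pts_eq (F := F) (L := L) O.finrank
      rw [hcard] at hpts
      set Q := Nat.card F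
      have e1 : ((Q : ℤ) ^ 2 + 1) * C = k * X := by exact_mod_cast hmain
      have e2 : (Nat.card O.tor : ℤ) * k = X + 1 := by exact_mod_cast hX
      have e3 : 5 * (Nat.card O.tor : ℤ) = (Q : ℤ) ^ 4 + Q ^ 3 + Q ^ 2 + Q + 1 := by exact_mod_cast hpts
      have hdvd : ((Q : ℤ) ^ 2 + 1) ∣ (k : ℤ) * (k - 5) :=
        ⟨5 * C - (k : ℤ) ^ 2 * ((Q : ℤ) ^ 2 + Q), by linear_combination (-(k : ℤ) ^ 2) * e3 + 5 * (k : ℤ) * e2 - 5 * e1⟩
      have h1 : 1 ≤ (k : ℤ) := by exact_mod_cast hk1
      have h2 : (k : ℤ) ≤ 4 := by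
        have : k ≤ 4 := by omega
        exact_mod_cast this
      have h3 : (36 : ℤ) ≤ (Q : ℤ) ^ 2 := by
        have : 6 ≤ Q := by have := Nat.le_of_dvd (by omega) h5; omega
        have : (6 : ℤ) ≤ Q := by exact_mod_cast this
        nlinarith
      have h4 : ((Q : ℤ) ^ 2 + 1) ∣ (k : ℤ) * (5 - k) := by
        have := hdvd.neg_right
        rwa [← mul_neg, neg_sub] at this
      have h5' := Int.le_of_dvd (Int.mul_pos (by omega) (by omega)) h4
      nlinarith
  intro P
  by_contra hP'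
  have hlt : Nat.card {P : Sub F L 1 // q P} < Nat.card (Sub F L 1) := Finite.card_subtype_lt hP'
  rw [hk, hcard, hkd', mul_comm] at hlt
  exact lt_irrefl _ hlt

/-- An equidistributed group is transitive on lines. -/
theorem Over.lines_transitive {O : Over M} (hE : Equidistributed O) (hq : 3 ≤ Nat.card F)
    (φ : Sub F L 2 → Prop) (hinv : ∀ g ∈ M, ∀ W, φ W → φ (g • W)) {W₀ : Sub F L 2} (h₀ : φ W₀) :
    ∀ W, φ W := by
  classical
  haveI := finite_base F L
  haveI : Fintype (Sub F L 2) := Fintype.ofFinite _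
  haveI : Fintype (Sub F L 1) := Fintype.ofFinite _
  haveI : Fintype Lˣ := Fintype.ofFinite _
  obtain ⟨d, hd, hcard⟩ := O.exists_classes
  have hinv' : ∀ g ∈ M, ∀ W, φ (g • W) → φ W := fun g hg W h => by simpa using hinv g⁻¹ (inv_mem hg) _ h
  let r : Sub F L 1 → ℕ := fun P => Nat.card {W : Sub F L 2 // P.1 ≤ W.1 ∧ φ W}
  have hr : ∀ g ∈ M, ∀ P, r (g • P) = r P := fun g hg P => by
    refine (Nat.card_congr (Equiv.subtypeEquiv (MulAction.toPerm g) fun W => ?_)).symm
    rw [MulAction.toPerm_apply]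
    exact ⟨fun h => ⟨Submodule.map_mono h.1, hinv g hg W h.2⟩,
      fun h => ⟨(Submodule.map_le_map_iff_of_injective (LinearEquiv.injective g) _ _).mp h.1, hinv' g hg W h.2⟩⟩
  obtain ⟨P₀⟩ : Nonempty (Sub F L 1) := ⟨pt 1 one_ne_zero⟩
  have hrc : ∀ P, r P = r P₀ :=
    O.pts_transitive hE hq (fun P => r P = r P₀) (fun g hg P h => (hr g hg P).trans h) (P₀ := P₀) rfl
  have hflag : Nat.card {W // φ W} * (Nat.card F + 1) = Nat.card (Sub F L 1) * r P₀ := by
    have h1 : Nat.card (Σ W : {W // φ W}, {P : Sub F L 1 // P.1 ≤ W.1.1}) =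
        Nat.card (Σ P : Sub F L 1, {W : Sub F L 2 // P.1 ≤ W.1 ∧ φ W}) :=
      Nat.card_congr
        { toFun := fun x => ⟨x.2.1, x.1.1, x.2.2, x.1.2⟩
          invFun := fun x => ⟨⟨x.2.1, x.2.2.2⟩, x.1, x.2.2.1⟩
          left_inv := fun _ => rfl
          right_inv := fun _ => rfl }
    rw [Nat.card_sigma, Nat.card_sigma, Finset.sum_congr rfl fun W _ => card_on_line W.1,
      Finset.sum_congr rfl fun P _ => hrc P, Finset.sum_const, Finset.sum_const, smul_eq_mul, smul_eq_mul,
      Finset.card_univ, Finset.card_univ] at h1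
    rwa [Nat.card_eq_fintype_card (α := {W // φ W}), Nat.card_eq_fintype_card (α := Sub F L 1)]
  have hν : Nat.card (Sub F L 2) * Nat.card {a : Lˣ // φ ((mulE a : L ≃ₗ[F] L) • W₀)} =
      Nat.card Lˣ * Nat.card {W // φ W} := by
    have h := sum_translates fun W : Sub F L 2 => if φ W then 1 else 0
    have e : ∀ W : Sub F L 2, ∑ a : Lˣ, (if φ ((mulE a : L ≃ₗ[F] L) • W) then 1 else 0 : ℕ) =
        Nat.card {a : Lˣ // φ ((mulE a : L ≃ₗ[F] L) • W₀)} := fun W => by
      rw [← O.count_const hE φ hinv W W₀, Finset.sum_boole, Nat.card_eq_fintype_card, Fintype.card_subtype]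
      rfl
    rw [Finset.sum_congr rfl fun W _ => e W, Finset.sum_const, smul_eq_mul, Finset.card_univ, Finset.sum_boole] at h
    simp only [Nat.card_eq_fintype_card, Fintype.card_subtype]
    simpa [Nat.card_eq_fintype_card, Fintype.card_subtype] using h
  have hfull : Nat.card {a : Lˣ // φ ((mulE a : L ≃ₗ[F] L) • W₀)} = Nat.card Lˣ := by
    let q : Sub F L 1 → Prop := fun P =>
      φ ((mulE (Units.mk0 (exists_pt P).choose (exists_pt P).choose_spec.choose) : L ≃ₗ[F] L) • W₀)
    have hqa : ∀ a : Lˣ, q (pt (a : L) a.ne_zero) ↔ φ ((mulE a : L ≃ₗ[F] L) • W₀) := by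
      intro a
      obtain ⟨z, hz, he⟩ := pt_eq_pt a.ne_zero _ (exists_pt (pt (a : L) a.ne_zero : Sub F L 1)).choose_spec.choose_spec
      show φ _ ↔ _
      rw [show Units.mk0 _ (exists_pt (pt (a : L) a.ne_zero : Sub F L 1)).choose_spec.choose =
        Units.map (algebraMap F L : F →* L) (Units.mk0 z hz) * a from Units.ext (by rw [Units.val_mul]; simp [he, Algebra.smul_def]),
        map_mul, mul_smul]
      refine iff_of_eq (congrArg φ (Subtype.ext (le_antisymm ?_ ?_)))
      · rintro _ ⟨x, hx, rfl⟩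
        show algebraMap F L z * x ∈ _
        rw [← Algebra.smul_def]
        exact Submodule.smul_mem _ z hx
      · intro x hx
        exact ⟨z⁻¹ • x, Submodule.smul_mem _ _ hx, by
          show algebraMap F L z * (z⁻¹ • x) = x
          rw [← Algebra.smul_def, smul_smul, mul_inv_cancel₀ hz, one_smul]⟩
    have hcnt : Nat.card {a : Lˣ // φ ((mulE a : L ≃ₗ[F] L) • W₀)} = Nat.card {P // q P} * Nat.card Fˣ := by
      rw [← card_units_filter q]
      exact Nat.card_congr (Equiv.subtypeEquivRight fun a => (hqa a).symm)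
    have hdvd : Nat.card O.tor ∣ Nat.card {P // q P} := by
      letI : MulAction O.tor {P : Sub F L 1 // q P} :=
        { smul := fun t P => ⟨(t : (onPts M).range) • P.1, by
            obtain ⟨u, hu⟩ := O.mem_tor.mp t.2
            obtain ⟨v, hv, hPv⟩ := exists_pt P.1
            have h := P.2
            rw [hPv, show (pt v hv : Sub F L 1) = pt ((Units.mk0 v hv : Lˣ) : L) (Units.ne_zero _) from rfl, hqa] at h
            show q (((t : (onPts M).range) : Equiv.Perm (Sub F L 1)) P.1)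
            rw [hu, hPv, mulE_pt, show (pt ((((u : Lˣ) : L)) * v) _ : Sub F L 1) =
              pt (((u : Lˣ) * Units.mk0 v hv : Lˣ) : L) (Units.ne_zero _) from rfl, hqa, map_mul, mul_smul]
            exact hinv _ (O.mul _ (mem_normOne.mp u.2)) _ h⟩
          one_smul := fun P => Subtype.ext (one_smul _ P.1)
          mul_smul := fun s t P => Subtype.ext (mul_smul (s : (onPts M).range) t P.1) }
      have hst : ∀ P : {P : Sub F L 1 // q P}, MulAction.stabilizer O.tor P = ⊥ := fun P => by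
        rw [eq_bot_iff]
        intro t ht
        by_contra hne
        exact O.semiregular t t.2 (fun h => hne (Subgroup.mem_bot.mpr (Subtype.ext h))) P.1
          (congrArg Subtype.val (MulAction.mem_stabilizer_iff.mp ht))
      rw [Nat.card_congr (MulAction.selfEquivOrbitsQuotientProd hst), Nat.card_prod]
      exact dvd_mul_left _ _
    obtain ⟨ν, hνd⟩ := hdvd
    have hT : 0 < Nat.card O.tor := Nat.card_pos
    have hF : 0 < Nat.card Fˣ := Nat.card_pos
    have hP : 0 < Nat.card (Sub F L 1) := by rw [card_pts_eq O.finrank]; positivity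
    have hνle : ν ≤ d := by
      have h := Nat.card_le_card_of_injective (Subtype.val : {P : Sub F L 1 // q P} → Sub F L 1) Subtype.val_injective
      rw [hνd, hcard, mul_comm d] at h
      exact Nat.le_of_mul_le_mul_left h hT
    rw [card_lines_eq O.finrank, hcnt, hνd, card_units_pts (F := F) (L := L)] at hν
    have h1 : (Nat.card F ^ 2 + 1) * (Nat.card O.tor * ν) = Nat.card {W // φ W} := by
      refine Nat.eq_of_mul_eq_mul_left (Nat.mul_pos hP hF) ?_
      calc _ = Nat.card (Sub F L 1) * (Nat.card F ^ 2 + 1) * (Nat.card O.tor * ν * Nat.card Fˣ) := by ring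
        _ = _ := hν
    rw [← h1, hcard] at hflag
    have h2 : (Nat.card F ^ 2 + 1) * (Nat.card F + 1) * ν = d * r P₀ := by
      refine Nat.eq_of_mul_eq_mul_left hT ?_
      calc _ = (Nat.card F ^ 2 + 1) * (Nat.card O.tor * ν) * (Nat.card F + 1) := by ring
        _ = _ := hflag
        _ = _ := by ring
    have hν1 : 1 ≤ ν := by
      rcases Nat.eq_zero_or_pos ν with rfl | h
      · rw [mul_zero, mul_zero] at h1
        have : Nat.card {W // φ W} ≠ 0 := Nat.card_ne_zero.mpr ⟨⟨⟨W₀, h₀⟩⟩, inferInstance⟩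
        omega
      · exact h
    have hνd' : ν = d := by
      rcases hd with rfl | ⟨rfl, h5⟩
      · omega
      · obtain ⟨s, hs⟩ := h5
        have hQ : Nat.card F = 5 * s + 1 := by omega
        rw [hQ] at h2
        have h3 : 5 ∣ 4 * ν := ⟨r P₀ - ν * (25 * s ^ 3 + 20 * s ^ 2 + 6 * s), by
          rw [Nat.mul_sub]
          refine (Nat.sub_eq_of_eq_add ?_).symm
          rw [← h2]; ring⟩
        omega
    rw [hcnt, hνd, hνd', card_units_pts (F := F) (L := L), hcard, mul_comm d]
  intro W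
  by_contra hW
  have h2 : Nat.card {a : Lˣ // φ ((mulE a : L ≃ₗ[F] L) • W)} < Nat.card Lˣ :=
    Finite.card_subtype_lt (x := (1 : Lˣ)) (by rwa [map_one, one_smul])
  rw [O.count_const hE φ hinv W W₀, hfull] at h2
  exact lt_irrefl _ h2

end CfsgLib.SingerFive
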