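/-
Groups on a projective line: the part of determinant one.
-/
import Cfsg.Agent.Lib.SingerFive.Incidence
import Cfsg.Agent.Lib.DicksonFull.Subgroups

set_option autoImplicit false
set_option linter.unusedSectionVars false
set_option linter.style.haveILetI false

namespace CfsgLib.SingerFive

open Module
open CfsgLib.PSL2 (mk)

variable {F : Type*} [Field F]

local notation "V2" => (Fin 2 → F)
local notation "SL" => Matrix.SpecialLinearGroup (Fin 2) F
local notation "PSL" => Matrix.ProjectiveSpecialLinearGroup (Fin 2) F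

/-- The scalar maps of the plane. -/
def scal : Fˣ →* (V2 ≃ₗ[F] V2) where
  toFun := LinearEquiv.smulOfUnit
  map_one' := LinearEquiv.ext fun x => one_smul F x
  map_mul' a b := LinearEquiv.ext fun x => mul_smul (a : F) (b : F) x

@[simp] theorem scal_apply (c : Fˣ) (x : V2) : scal c x = (c : F) • x := rfl

/-- The maps `(x, y) ↦ (x, ηy)`. -/
def sgm : Fˣ →* (V2 ≃ₗ[F] V2) where
  toFun η := LinearEquiv.piCongrRight fun i => LinearEquiv.smulOfUnit (![1, η] i : Fˣ)
  map_one' := LinearEquiv.ext fun x => funext fun i => by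
    fin_cases i <;> exact one_smul F _
  map_mul' a b := LinearEquiv.ext fun x => funext fun i => by
    fin_cases i
    · exact (one_smul F _).trans ((one_smul F _).symm.trans (one_smul F _).symm)
    · exact mul_smul (a : F) (b : F) _

theorem sgm_apply_zero (η : Fˣ) (x : V2) : sgm η x 0 = x 0 := one_smul F _

theorem sgm_apply_one (η : Fˣ) (x : V2) : sgm η x 1 = (η : F) * x 1 := rfl

theorem scal_comm (c : Fˣ) (a : V2 ≃ₗ[F] V2) : scal c * a = a * scal c :=
  LinearEquiv.ext fun x => (map_smul a (c : F) x).symm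

/-- The action on the points of the line. -/
def onLine : (V2 ≃ₗ[F] V2) →* Equiv.Perm (Sub F V2 1) := MulAction.toPermHom _ _

@[simp] theorem onLine_apply (a : V2 ≃ₗ[F] V2) (P : Sub F V2 1) : onLine a P = a • P := rfl

theorem scal_smul (c : Fˣ) (P : Sub F V2 1) : scal c • P = P := by
  obtain ⟨v, hv, rfl⟩ := exists_pt P
  rw [smul_pt]
  exact Subtype.ext (Submodule.span_singleton_smul_eq c.isUnit v)

theorem onLine_scal (c : Fˣ) : onLine (scal c : V2 ≃ₗ[F] V2) = 1 := Equiv.ext fun P => scal_smul c P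

/-- The linear map of a matrix of determinant one. -/
noncomputable abbrev tl : SL →* (V2 ≃ₗ[F] V2) := Matrix.SpecialLinearGroup.toLin'

theorem tl_injective : Function.Injective (tl : SL → (V2 ≃ₗ[F] V2)) := fun a b h =>
  Subtype.ext (Matrix.toLin'.injective (congrArg LinearEquiv.toLinearMap h))

theorem tl_center {s : SL} (hs : s ∈ Subgroup.center SL) : onLine (tl s) = 1 := by
  rcases DicksonFull.mk_eq_one (a := s) ((QuotientGroup.eq_one_iff s).mpr hs) with rfl | rfl
  · rw [map_one, map_one]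
  · rw [← onLine_scal (-1 : Fˣ)]
    congr 1
    refine LinearEquiv.ext fun x => ?_
    show Matrix.toLin' ((-1 : SL) : Matrix (Fin 2) (Fin 2) F) x = _
    rw [Matrix.toLin'_apply, Matrix.SpecialLinearGroup.coe_neg, Matrix.SpecialLinearGroup.coe_one, Matrix.neg_mulVec,
      Matrix.one_mulVec, scal_apply, Units.val_neg, Units.val_one, neg_one_smul]

/-- The action of `PSL₂` on points. -/
noncomputable def pslLine : PSL →* Equiv.Perm (Sub F V2 1) :=
  QuotientGroup.lift _ (onLine.comp tl) fun _ hs => tl_center hs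

theorem pslLine_mk (s : SL) : pslLine (mk s) = onLine (tl s) := rfl

/-- The elements of determinant one lying in `A` up to a scalar. -/
noncomputable def kerPart (A : Subgroup (V2 ≃ₗ[F] V2)) : Subgroup SL where
  carrier := {s | ∃ c : Fˣ, scal c * tl s ∈ A}
  one_mem' := ⟨1, by rw [map_one, map_one, one_mul]; exact one_mem A⟩
  mul_mem' := by
    rintro s t ⟨c, hc⟩ ⟨d, hd⟩
    refine ⟨c * d, ?_⟩
    have := mul_mem hc hd
    rwa [show scal c * tl s * (scal d * tl t) = scal (c * d) * tl (s * t) by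
      rw [mul_assoc, ← mul_assoc (tl s), ← scal_comm, mul_assoc, ← mul_assoc (scal c), ← map_mul, ← map_mul]] at this
  inv_mem' := by
    rintro s ⟨c, hc⟩
    refine ⟨c⁻¹, ?_⟩
    have := inv_mem hc
    rwa [mul_inv_rev, ← map_inv, ← map_inv, ← scal_comm] at this

theorem exists_kerPart {A : Subgroup (V2 ≃ₗ[F] V2)} {a : V2 ≃ₗ[F] V2} (ha : a ∈ A) (δ : Fˣ) (h : LinearEquiv.det a = δ * δ) :
    ∃ s ∈ kerPart A, tl s = scal δ⁻¹ * a := by
  set b := scal δ⁻¹ * a with hb
  have hdet : (LinearMap.toMatrix' (b : V2 →ₗ[F] V2)).det = 1 := by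
    rw [LinearMap.det_toMatrix', hb]
    have h' := congrArg Units.val h
    rw [LinearEquiv.coe_det, Units.val_mul] at h'
    have : ((scal δ⁻¹ * a : V2 ≃ₗ[F] V2) : V2 →ₗ[F] V2) = ((δ⁻¹ : Fˣ) : F) • (a : V2 →ₗ[F] V2) :=
      LinearMap.ext fun x => rfl
    rw [this, LinearMap.det_smul, h', Module.finrank_fin_fun, Units.val_inv_eq_inv_val]
    field_simp
  refine ⟨⟨_, hdet⟩, ⟨δ, ?_⟩, ?_⟩
  · have : tl (⟨_, hdet⟩ : SL) = b := LinearEquiv.toLinearMap_injective (Matrix.toLin'_toMatrix' _)
    rw [this, hb, ← mul_assoc, ← map_mul, mul_inv_cancel, map_one, one_mul]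
    exact ha
  · exact LinearEquiv.toLinearMap_injective (Matrix.toLin'_toMatrix' _)

theorem card_points [Finite F] : Nat.card (Sub F V2 1) = Nat.card F + 1 := by
  let W : Sub F V2 2 := ⟨⊤, by rw [finrank_top, Module.finrank_fin_fun]⟩
  rw [← card_on_line W]
  exact (Nat.card_congr (Equiv.subtypeUnivEquiv fun (P : Sub F V2 1) => (le_top : P.1 ≤ ⊤))).symm

/-- The group of permutations is at most twice the image of the determinant one part. -/
theorem card_map_dvd [Finite F] (A : Subgroup (V2 ≃ₗ[F] V2)) :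
    Nat.card (A.map onLine) ∣ 2 * Nat.card ((kerPart A).map (mk : SL →* PSL)) := by
  classical
  let sq : Subgroup Fˣ := (powMonoidHom 2).range
  have hsq : sq.index ∣ 2 := by
    rw [IsCyclic.index_powMonoidHom_range]
    exact Nat.gcd_dvd_right _ _
  let f : A →* (A.map onLine) := (onLine.comp A.subtype).codRestrict _ fun a => ⟨a, a.2, rfl⟩
  have hf : Function.Surjective f := by
    rintro ⟨_, a, ha, rfl⟩
    exact ⟨⟨a, ha⟩, rfl⟩
  let A' : Subgroup A := sq.comap (LinearEquiv.det.comp A.subtype)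
  have hidx : A'.index ∣ 2 := by
    refine dvd_trans ?_ hsq
    rw [Subgroup.index_comap]
    exact Subgroup.relIndex_dvd_index_of_normal _ _
  rw [← (A'.map f).card_mul_index, mul_comm]
  refine Nat.mul_dvd_mul ((Subgroup.index_map_dvd _ hf).trans hidx) ?_
  have hle : (A'.map f).map (A.map onLine).subtype ≤ ((kerPart A).map (mk : SL →* PSL)).map pslLine := by
    rintro _ ⟨_, ⟨a, ⟨δ, hδ⟩, rfl⟩, rfl⟩
    obtain ⟨s, hs, hts⟩ := exists_kerPart a.2 δ (hδ.symm.trans (pow_two δ))
    refine ⟨mk s, ⟨s, hs, rfl⟩, ?_⟩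
    rw [pslLine_mk, hts, map_mul, onLine_scal, one_mul]
    rfl
  have h1 : Nat.card ((A'.map f).map (A.map onLine).subtype) = Nat.card (A'.map f) :=
    (Nat.card_congr ((A'.map f).equivMapOfInjective _ (Subgroup.subtype_injective _)).toEquiv).symm
  rw [← h1]
  exact (Subgroup.card_dvd_of_le hle).trans (Subgroup.card_map_dvd _ _)

/-- A transitive group has order divisible by the number of points. -/
theorem points_dvd [Finite F] (A : Subgroup (V2 ≃ₗ[F] V2)) (P₀ : Sub F V2 1) (htrans : ∀ P : Sub F V2 1, ∃ a ∈ A, (a : V2 ≃ₗ[F] V2) • P₀ = P) :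
    Nat.card F + 1 ∣ Nat.card (A.map onLine) := by
  classical
  rw [← card_points]
  have horb : MulAction.orbit (A.map onLine) P₀ = Set.univ := Set.eq_univ_of_forall fun P => by
    obtain ⟨a, ha, h⟩ := htrans P
    exact ⟨⟨onLine a, a, ha, rfl⟩, h⟩
  rw [← Nat.card_congr (Equiv.Set.univ _), ← horb,
    Nat.card_congr (MulAction.orbitEquivQuotientStabilizer (A.map onLine) P₀)]
  exact Subgroup.card_quotient_dvd_card _

end CfsgLib.SingerFive
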