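/-
A transitive group of a line containing its part of determinant one is doubly transitive; the line of eleven points.
-/
import Cfsg.Agent.Lib.SingerFive.LineBasic

set_option autoImplicit false
set_option linter.unusedSectionVars false
set_option linter.style.haveILetI false

namespace CfsgLib.SingerFive

open Module
open CfsgLib.PSL2 (mk)

variable {F : Type*} [Field F]

local notation "V2" => (Fin 2 → F)
local notation "SL" => Matrix.SpecialLinearGroup (Fin 2) F
local notation "PSL" => Matrix.ProjectiveSpecialLinearGroup (Fin 2) F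

/-- The point `(1 : 0)`. -/
noncomputable def org : Sub F V2 1 := pt ![1, 0] fun h => one_ne_zero (congrFun h 0)

theorem mem_pt {v w : V2} (hv : v ≠ 0) (hw : w ≠ 0) {c : F} (h : w = c • v) : (pt w hw : Sub F V2 1) = pt v hv := by
  have hc : c ≠ 0 := fun hc => hw (by rw [h, hc, zero_smul])
  refine Subtype.ext ?_
  show F ∙ w = F ∙ v
  rw [h, Submodule.span_singleton_smul_eq hc.isUnit]

/-- If the part of determinant one is everything, the group is doubly transitive. -/
theorem two_trans_of_top (A : Subgroup (V2 ≃ₗ[F] V2)) (h : (kerPart A).map (mk : SL →* PSL) = ⊤)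
    (P Q P' Q' : Sub F V2 1) (hne : P ≠ Q) (hne' : P' ≠ Q') :
    ∃ a ∈ A, (a : V2 ≃ₗ[F] V2) • P = P' ∧ (a : V2 ≃ₗ[F] V2) • Q = Q' := by
  obtain ⟨v, hv, rfl⟩ := exists_pt P
  obtain ⟨w, hw, rfl⟩ := exists_pt Q
  obtain ⟨v', hv', rfl⟩ := exists_pt P'
  obtain ⟨w', hw', rfl⟩ := exists_pt Q'
  have hdet : ∀ {x y : V2} (hx : x ≠ 0) (hy : y ≠ 0), (pt x hx : Sub F V2 1) ≠ pt y hy →
      x 0 * y 1 - x 1 * y 0 ≠ 0 := fun {x y} hx hy hne h0 => by
    apply hne
    by_cases hx0 : x 0 = 0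
    · have hx1 : x 1 ≠ 0 := fun h1 => hx (funext fun i => by fin_cases i <;> assumption)
      have hy0 : y 0 = 0 := by
        rw [hx0, zero_mul, zero_sub, neg_eq_zero] at h0
        exact (mul_eq_zero.mp h0).resolve_left hx1
      refine (mem_pt hx hy (c := y 1 / x 1) (funext fun i => ?_)).symm
      fin_cases i
      · simp [hx0, hy0]
      · simp [hx1]
    · refine (mem_pt hx hy (c := y 0 / x 0) (funext fun i => ?_)).symm
      fin_cases i
      · simp [hx0]
      · show y 1 = y 0 / x 0 * x 1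
        field_simp
        first
        | linear_combination h0
        | linear_combination -h0
  have hP := hdet hv hw hne
  have hP' := hdet hv' hw' hne'
  set D := v 0 * w 1 - v 1 * w 0 with hD
  set D' := v' 0 * w' 1 - v' 1 * w' 0 with hD'
  let c := D / D'
  let m : Matrix (Fin 2) (Fin 2) F :=
    !![(c * v' 0 * w 1 - w' 0 * v 1) / D, (-c * v' 0 * w 0 + w' 0 * v 0) / D;
       (c * v' 1 * w 1 - w' 1 * v 1) / D, (-c * v' 1 * w 0 + w' 1 * v 0) / D]
  have hm : m.det = 1 := by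
    simp only [m, c, Matrix.det_fin_two_of]
    field_simp
    rw [hD, hD']
    ring
  have hmv : Matrix.mulVec m v = c • v' := funext fun i => by
    fin_cases i <;> simp [m, c, Matrix.mulVec, dotProduct, Fin.sum_univ_two] <;> field_simp <;> rw [hD] <;> ring
  have hmw : Matrix.mulVec m w = w' := funext fun i => by
    fin_cases i <;> simp [m, c, Matrix.mulVec, dotProduct, Fin.sum_univ_two] <;> field_simp <;> rw [hD] <;> ring
  let s : SL := ⟨m, hm⟩
  obtain ⟨k, ⟨d, hd⟩, hk⟩ : mk s ∈ (kerPart A).map (mk : SL →* PSL) := h ▸ Subgroup.mem_top _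
  refine ⟨_, hd, ?_, ?_⟩
  all_goals
    rw [← onLine_apply, map_mul, onLine_scal, one_mul, ← pslLine_mk, hk, pslLine_mk, onLine_apply, smul_pt]
  · exact mem_pt hv' _ (c := c) ((Matrix.toLin'_apply m v).trans hmv)
  · exact Subtype.ext (congrArg (fun x => F ∙ x) ((Matrix.toLin'_apply m w).trans hmw))

/-- The matrix of a linear map of the plane. -/
noncomputable def mx : (V2 ≃ₗ[F] V2) →* Matrix (Fin 2) (Fin 2) F where
  toFun a := LinearMap.toMatrix' (a : V2 →ₗ[F] V2)
  map_one' := LinearMap.toMatrix'_id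
  map_mul' a b := LinearMap.toMatrix'_comp _ _

theorem mx_apply (a : V2 ≃ₗ[F] V2) (x : V2) : a x = (mx a).mulVec x := by
  show _ = (LinearMap.toMatrix' (a : V2 →ₗ[F] V2)).mulVec x
  rw [LinearMap.toMatrix'_mulVec]
  rfl

theorem mx_scal (c : Fˣ) : mx (scal c : V2 ≃ₗ[F] V2) = (c : F) • 1 :=
  Matrix.toLin'.injective (LinearMap.ext fun x => by
    rw [Matrix.toLin'_apply, ← mx_apply, Matrix.toLin'_apply, Matrix.smul_mulVec, Matrix.one_mulVec, scal_apply])

theorem mx_sgm (η : Fˣ) : mx (sgm η : V2 ≃ₗ[F] V2) = !![1, 0; 0, (η : F)] :=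
  Matrix.toLin'.injective (LinearMap.ext fun x => by
    rw [Matrix.toLin'_apply, ← mx_apply, Matrix.toLin'_apply]
    funext i
    fin_cases i
    · simp [sgm_apply_zero, Matrix.mulVec, dotProduct, Fin.sum_univ_two]
    · simp [sgm_apply_one, Matrix.mulVec, dotProduct, Fin.sum_univ_two])

theorem mx_det (a : V2 ≃ₗ[F] V2) : (mx a).det ≠ 0 := by
  show (LinearMap.toMatrix' (a : V2 →ₗ[F] V2)).det ≠ 0
  rw [LinearMap.det_toMatrix', ← LinearEquiv.coe_det]
  exact Units.ne_zero _

theorem smul_org {a : V2 ≃ₗ[F] V2} {v : V2} {hv : v ≠ 0} (h : a • (org : Sub F V2 1) = pt v hv) :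
    ∃ c : F, c ≠ 0 ∧ mx a 0 0 = c * v 0 ∧ mx a 1 0 = c * v 1 := by
  rw [org, smul_pt] at h
  obtain ⟨c, hc, he⟩ := pt_eq_pt hv (a.map_ne_zero_iff.mpr fun h => one_ne_zero (congrFun h 0)) h.symm
  rw [mx_apply] at he
  refine ⟨c, hc, ?_, ?_⟩
  · simpa [Matrix.mulVec, dotProduct, Fin.sum_univ_two, eq_comm] using congrFun he 0
  · simpa [Matrix.mulVec, dotProduct, Fin.sum_univ_two, eq_comm] using congrFun he 1

/-- In characteristic `p` a non-scalar map with a double eigenvalue has order `p` on the points. -/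
theorem p_dvd_of_double {p : ℕ} [Fact p.Prime] [CharP F p] (h2 : (2 : F) ≠ 0) [Finite F] (A : Subgroup (V2 ≃ₗ[F] V2))
    {a : V2 ≃ₗ[F] V2} (ha : a ∈ A)
    (ht : (mx a 0 0 + mx a 1 1) ^ 2 = 4 * (mx a 0 0 * mx a 1 1 - mx a 0 1 * mx a 1 0))
    (hns : mx a 0 1 ≠ 0 ∨ mx a 1 0 ≠ 0) : p ∣ Nat.card (A.map onLine) := by
  set μ := (mx a 0 0 + mx a 1 1) / 2 with hμ
  set N := mx a - μ • (1 : Matrix (Fin 2) (Fin 2) F) with hN
  have hN2 : N * N = 0 := by
    ext i j
    fin_cases i <;> fin_cases j <;>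
      simp [hN, hμ, Matrix.mul_apply, Fin.sum_univ_two] <;> field_simp <;>
      first
      | linear_combination ht
      | ring
  have hNp : N ^ p = 0 := pow_eq_zero_of_le (Fact.out : p.Prime).two_le (by rw [pow_two, hN2])
  have hpow : mx (a ^ p) = μ ^ p • 1 := by
    rw [map_pow, show mx a = μ • 1 + N by rw [hN, add_sub_cancel],
      add_pow_char_of_commute p (Commute.smul_left (Commute.one_left N) μ), smul_pow, one_pow,
      hNp, add_zero]
  have h1 : onLine a ^ p = 1 := by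
    rw [← map_pow]
    refine Equiv.ext fun P => ?_
    obtain ⟨v, hv, rfl⟩ := exists_pt P
    rw [onLine_apply, smul_pt]
    exact mem_pt hv _ (c := μ ^ p) (by rw [mx_apply, hpow, Matrix.smul_mulVec, Matrix.one_mulVec])
  have h2' : onLine a ≠ 1 := fun h => by
    obtain ⟨c, hc⟩ := exists_scalar_of_fix a fun P => congrArg (fun e : Equiv.Perm (Sub F V2 1) => e P) h
    rcases hns with h' | h'
    · have := congrFun ((mx_apply a ![0, 1]).symm.trans (hc ![0, 1])) 0
      simp [Matrix.mulVec, dotProduct, Fin.sum_univ_two] at this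
      exact h' this
    · have := congrFun ((mx_apply a ![1, 0]).symm.trans (hc ![1, 0])) 1
      simp [Matrix.mulVec, dotProduct, Fin.sum_univ_two] at this
      exact h' this
  rw [← orderOf_eq_prime h1 h2']
  exact Subgroup.orderOf_dvd_natCard _ ⟨a, ha, rfl⟩

theorem table_eleven_line : ∀ r : ZMod 11, r ≠ 1 → ∃ a b : ZMod 11,
    a ≠ 0 ∧ b ≠ 0 ∧ a ≠ 1 ∧ (b * (a - r) + (1 - a * r)) ^ 2 = 4 * a * b * (1 - r) ^ 2 := by
  decide +kernel

/-- On the line with twelve points a transitive group with an element of order five and a reflection has order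
divisible by eleven. -/
theorem eleven_dvd [Finite F] (hq : Nat.card F = 11) (A : Subgroup (V2 ≃ₗ[F] V2))
    (htrans : ∀ P : Sub F V2 1, ∃ a ∈ A, (a : V2 ≃ₗ[F] V2) • org = P) (ζ : Fˣ) (hζ : orderOf ζ = 5)
    (hσ : sgm ζ ∈ A) {i : V2 ≃ₗ[F] V2} (hi : i ∈ A) (hii : i * i = 1) (hi1 : i ≠ 1) (hi2 : i ≠ scal (-1))
    {P : Sub F V2 1} (hiP : i • P = P) : 11 ∣ Nat.card (A.map onLine) := by
  classical
  haveI : Fintype F := Fintype.ofFinite F
  haveI : Fact (Nat.Prime 11) := ⟨by norm_num⟩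
  rw [Nat.card_eq_fintype_card] at hq
  haveI : CharP F 11 := charP_of_card_eq_prime hq
  have h2 : (2 : F) ≠ 0 := fun h => by
    have h' : ((2 : ℕ) : F) = 0 := by exact_mod_cast h
    exact absurd ((CharP.cast_eq_zero_iff F 11 2).mp h') (by norm_num)
  by_contra hno
  have hnd : ∀ {a : V2 ≃ₗ[F] V2}, a ∈ A →
      (mx a 0 0 + mx a 1 1) ^ 2 = 4 * (mx a 0 0 * mx a 1 1 - mx a 0 1 * mx a 1 0) →
      mx a 0 1 = 0 ∧ mx a 1 0 = 0 := fun {a} ha ht => by
    by_contra hc
    exact hno (p_dvd_of_double h2 A ha ht (not_and_or.mp hc))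
  obtain ⟨b, hb, hbP⟩ := htrans P
  set h := b⁻¹ * i * b with hh
  have hhA : h ∈ A := mul_mem (mul_mem (inv_mem hb) hi) hb
  have hhh : h * h = 1 := by
    rw [hh, show b⁻¹ * i * b * (b⁻¹ * i * b) = b⁻¹ * (i * i) * b by group, hii, mul_one, inv_mul_cancel]
  have hh1 : h ≠ 1 := fun e => hi1 (by
    rw [show i = b * h * b⁻¹ by rw [hh]; group, e, mul_one, mul_inv_cancel])
  have hh2 : h ≠ scal (-1) := fun e => hi2 (by
    rw [show i = b * h * b⁻¹ by rw [hh]; group, e, ← scal_comm, mul_assoc, mul_inv_cancel, mul_one])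
  have hho : h • (org : Sub F V2 1) = org := by rw [hh, mul_smul, mul_smul, hbP, hiP, ← hbP, inv_smul_smul]
  obtain ⟨c, -, -, h10⟩ := smul_org (v := ![1, 0]) hho
  replace h10 : mx h 1 0 = 0 := h10.trans (by simp)
  set u := mx h 0 0
  set v := mx h 0 1
  set w := mx h 1 1
  have hm2 : mx h * mx h = 1 := by rw [← map_mul, hhh, map_one]
  have e00 : u * u = 1 := by
    have := congrFun (congrFun hm2 0) 0
    simpa [Matrix.mul_apply, Fin.sum_univ_two, h10] using this
  have e11 : w * w = 1 := by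
    have := congrFun (congrFun hm2 1) 1
    simpa [Matrix.mul_apply, Fin.sum_univ_two, h10] using this
  have e01 : u * v + v * w = 0 := by
    have := congrFun (congrFun hm2 0) 1
    simpa [Matrix.mul_apply, Fin.sum_univ_two] using this
  have hu : u ≠ 0 := fun e => by simp [e] at e00
  have hmh : mx h = !![u, v; 0, w] := by rw [Matrix.eta_fin_two (mx h), h10]
  have hw : w = -u := by
    rcases mul_self_eq_mul_self_iff.mp (e00.trans e11.symm) with e | e
    · exfalso
      rw [← e] at e01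
      have hv : v = 0 := by
        refine (mul_eq_zero.mp (show (2 * u) * v = 0 by linear_combination e01)).resolve_left ?_
        exact mul_ne_zero h2 hu
      rcases mul_self_eq_mul_self_iff.mp (e00.trans (mul_one 1).symm) with e1 | e1
      · refine hh1 (LinearEquiv.ext fun x => funext fun j => ?_)
        rw [mx_apply]
        fin_cases j <;> simp [hmh, Matrix.mulVec, dotProduct, Fin.sum_univ_two, ← e, hv, e1]
      · refine hh2 (LinearEquiv.ext fun x => funext fun j => ?_)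
        rw [mx_apply]
        fin_cases j <;> simp [hmh, Matrix.mulVec, dotProduct, Fin.sum_univ_two, ← e, hv, e1]
    · linear_combination e
  have hζ1 : (ζ : F) ≠ 1 := fun e => by
    rw [show ζ = 1 from Units.ext e, orderOf_one] at hζ
    norm_num at hζ
  have hv : v = 0 := by
    have hcA : h * sgm ζ * h * (sgm ζ)⁻¹ ∈ A := mul_mem (mul_mem (mul_mem hhA hσ) hhA) (inv_mem hσ)
    have hmc : mx (h * sgm ζ * h * (sgm ζ)⁻¹) = !![1, u * v * (1 - (ζ : F)) * (ζ : F)⁻¹; 0, 1] := by
      rw [← map_inv, map_mul, map_mul, map_mul, mx_sgm, mx_sgm, Units.val_inv_eq_inv_val, hmh]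
      have hz : (ζ : F) * (ζ : F)⁻¹ = 1 := mul_inv_cancel₀ ζ.ne_zero
      ext i j
      fin_cases i <;> fin_cases j <;> simp [Matrix.mul_apply, Fin.sum_univ_two]
      · exact e00
      · linear_combination (v * (ζ : F)) * hw
      · linear_combination ((ζ : F) * (ζ : F)⁻¹) * e11 + hz
    have := (hnd hcA (by rw [hmc]; norm_num)).1
    rw [hmc] at this
    simpa [hu, sub_eq_zero, Ne.symm hζ1] using this
  have hneg : sgm (-1 : Fˣ) = scal (Units.mk0 u hu) * h := LinearEquiv.ext fun x => funext fun j => by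
    show _ = u * h x j
    rw [mx_apply, mx_apply, hmh, mx_sgm]
    fin_cases j
    · simp [Matrix.mulVec, dotProduct, Fin.sum_univ_two, hv]
      linear_combination -(x 0) * e00
    · simp [Matrix.mulVec, dotProduct, Fin.sum_univ_two]
      linear_combination -(u * x 1) * hw + x 1 * e00
  let D : Subgroup Fˣ :=
    { carrier := {η | ∃ c, scal c * sgm η ∈ A}
      one_mem' := ⟨1, by rw [map_one, map_one, one_mul]; exact one_mem A⟩
      mul_mem' := by
        rintro s t ⟨c, hc⟩ ⟨d, hd⟩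
        refine ⟨c * d, ?_⟩
        have := mul_mem hc hd
        rwa [show scal c * sgm s * (scal d * sgm t) = scal (c * d) * sgm (s * t) by
          rw [mul_assoc, ← mul_assoc (sgm s), ← scal_comm, mul_assoc, ← mul_assoc (scal c), ← map_mul, ← map_mul]] at this
      inv_mem' := by
        rintro s ⟨c, hc⟩
        refine ⟨c⁻¹, ?_⟩
        have := inv_mem hc
        rwa [mul_inv_rev, ← map_inv, ← map_inv, ← scal_comm] at this }
  have hD : ∀ η : Fˣ, η ∈ D := by
    intro η
    have hζD : ζ ∈ D := ⟨1, by rw [map_one, one_mul]; exact hσ⟩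
    have hnD : (-1 : Fˣ) ∈ D := ⟨(Units.mk0 u hu)⁻¹, by
      rw [hneg, ← mul_assoc, ← map_mul, inv_mul_cancel, map_one, one_mul]; exact hhA⟩
    have ho2 : orderOf (-1 : Fˣ) = 2 := by
      rw [← orderOf_units, Units.val_neg, Units.val_one, orderOf_neg_one, ringChar.eq F 11]
      norm_num
    have ho : orderOf (ζ * -1) = 10 := by
      rw [(Commute.all ζ (-1)).orderOf_mul_eq_mul_orderOf_of_coprime (by rw [hζ, ho2]; norm_num), hζ, ho2]
    have hcard : Nat.card (Subgroup.zpowers (ζ * -1)) = Nat.card Fˣ := by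
      rw [Nat.card_zpowers, ho, Nat.card_units, Nat.card_eq_fintype_card, hq]
    exact (Subgroup.zpowers_le.mpr (mul_mem hζD hnD)) (Subgroup.eq_top_of_card_eq _ hcard ▸ Subgroup.mem_top η)
  have hdiag : ∀ a b : F, a ≠ 0 → b ≠ 0 → ∃ t ∈ A, ∃ c : F, c ≠ 0 ∧ mx t = c • !![a, 0; 0, b] := by
    intro a b ha hb
    obtain ⟨d, hd⟩ := hD (Units.mk0 (b / a) (div_ne_zero hb ha))
    refine ⟨_, hd, (d : F) / a, div_ne_zero d.ne_zero ha, ?_⟩
    rw [map_mul, mx_scal, mx_sgm, Matrix.smul_mul, Matrix.one_mul]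
    ext i j
    fin_cases i <;> fin_cases j <;> simp [Units.val_mk0] <;> field_simp
  obtain ⟨g, hg, hgo⟩ := htrans (pt ![1, 1] fun h => one_ne_zero (congrFun h 0))
  obtain ⟨x, hx, hx0, hx1⟩ := smul_org hgo
  replace hx0 : mx g 0 0 = x := hx0.trans (by simp)
  replace hx1 : mx g 1 0 = x := hx1.trans (by simp)
  set y := mx g 0 1
  set z := mx g 1 1
  have hdet : x * z - y * x ≠ 0 := by
    have := mx_det g
    rwa [Matrix.det_fin_two, hx0, hx1] at this
  have hginv : mx g⁻¹ = (x * z - y * x)⁻¹ • !![z, -y; -x, x] := by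
    have hl : mx g⁻¹ * mx g = 1 := by rw [← map_mul, inv_mul_cancel, map_one]
    rw [← Matrix.inv_eq_left_inv hl, Matrix.inv_def, Matrix.det_fin_two, hx0, hx1, Ring.inverse_eq_inv,
      Matrix.adjugate_fin_two, hx0, hx1]
  obtain ⟨a, b, ha, hb, ha1, hkey⟩ : ∃ a b : F, a ≠ 0 ∧ b ≠ 0 ∧ a ≠ 1 ∧
      (b * (a * z - y) + (z - a * y)) ^ 2 = 4 * a * b * (z - y) ^ 2 := by
    by_cases hz : z = 0
    · refine ⟨2, 2, h2, h2, fun e => one_ne_zero (by linear_combination e), ?_⟩
      rw [hz]; ring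
    · let e : ZMod 11 ≃+* F := RingEquiv.ofBijective (ZMod.castHom (dvd_refl 11) F)
        ((Fintype.bijective_iff_injective_and_card _).mpr
          ⟨(ZMod.castHom (dvd_refl 11) F).injective, by rw [ZMod.card, hq]⟩)
      obtain ⟨r, hr⟩ := e.surjective (y / z)
      have hr1 : r ≠ 1 := fun h1 => hdet (by
        rw [h1, map_one, eq_div_iff hz, one_mul] at hr
        rw [hr]; ring)
      obtain ⟨a, b, ha, hb, ha1, h⟩ := table_eleven_line r hr1
      refine ⟨e a, e b, (map_ne_zero_iff _ e.injective).mpr ha, (map_ne_zero_iff _ e.injective).mpr hb,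
        fun h1 => ha1 (e.injective (h1.trans (map_one e).symm)), ?_⟩
      have h' := congrArg e h
      simp only [map_pow, map_mul, map_add, map_sub, map_one, map_ofNat, hr] at h'
      field_simp at h'
      linear_combination h'
  obtain ⟨t₁, ht₁, c₁, hc₁, hm₁⟩ := hdiag a 1 ha one_ne_zero
  obtain ⟨t₂, ht₂, c₂, hc₂, hm₂⟩ := hdiag b 1 hb one_ne_zero
  set k := c₁ * c₂ * (x * z - y * x)⁻¹ with hk
  have hk0 : k ≠ 0 := mul_ne_zero (mul_ne_zero hc₁ hc₂) (inv_ne_zero hdet)
  have hmg : mx g = !![x, y; x, z] := by rw [Matrix.eta_fin_two (mx g), hx0, hx1]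
  have hme : mx (g * t₁ * g⁻¹ * t₂) =
      k • !![b * x * (a * z - y), x * y * (1 - a); b * x * z * (a - 1), x * (z - a * y)] := by
    rw [map_mul, map_mul, map_mul, hm₁, hm₂, hginv, hmg, hk]
    ext i j
    fin_cases i <;> fin_cases j <;> simp [Matrix.mul_apply, Fin.sum_univ_two] <;> ring
  obtain ⟨n01, n10⟩ := hnd (mul_mem (mul_mem (mul_mem hg ht₁) (inv_mem hg)) ht₂) (by
    rw [hme]
    simp [Matrix.smul_apply]
    linear_combination (k * x) ^ 2 * hkey)
  rw [hme] at n01 n10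
  simp [Matrix.smul_apply, hk0, hx, hb, sub_eq_zero, ha1, Ne.symm ha1] at n01 n10
  exact hdet (by rw [n01, n10]; ring)

end CfsgLib.SingerFive
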