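/-
A transitive group of the line with a torus element of order five is doubly transitive.
-/
import Cfsg.Agent.Lib.SingerFive.LineSpread

set_option autoImplicit false
set_option linter.unusedSectionVars false
set_option linter.style.haveILetI false

namespace CfsgLib.SingerFive

open Module
open CfsgLib.PSL2 (mk)

variable {F : Type*} [Field F] [Finite F]

local notation "V2" => (Fin 2 → F)
local notation "SL" => Matrix.SpecialLinearGroup (Fin 2) F
local notation "PSL" => Matrix.ProjectiveSpecialLinearGroup (Fin 2) F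

/-- A point fixed by a non-trivial diagonal map is a coordinate point. -/
theorem fixed_sgm {η : Fˣ} (hη : η ≠ 1) {v : V2} {hv : v ≠ 0}
    (h : (sgm η : V2 ≃ₗ[F] V2) • (pt v hv : Sub F V2 1) = pt v hv) : v 0 = 0 ∨ v 1 = 0 := by
  rw [smul_pt] at h
  obtain ⟨c, hc, he⟩ := pt_eq_pt hv ((sgm η).map_ne_zero_iff.mpr hv) h.symm
  have h0 := congrFun he 0
  have h1 := congrFun he 1
  rw [Pi.smul_apply, smul_eq_mul] at h0 h1
  rw [sgm_apply_zero] at h0
  rw [sgm_apply_one] at h1
  by_contra hne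
  push Not at hne
  have hc1 : c = 1 := mul_right_cancel₀ hne.1 ((by linear_combination -h0 : c * v 0 = 1 * v 0))
  rw [hc1] at h1
  exact hη (Units.ext (mul_right_cancel₀ hne.2 (by rw [Units.val_one]; exact h1)))

/-- Five-elements of a dihedral group. -/
theorem dihedral_five {k : ℕ} (x y : DihedralGroup k) (hy : orderOf y = 5) (hx : x ^ 5 = 1) :
    x ∈ Subgroup.zpowers y := by
  have hrot : ∀ z : DihedralGroup k, z ^ 5 = 1 → ∃ i, z = DihedralGroup.r i := by
    rintro (i | i) hz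
    · exact ⟨i, rfl⟩
    · exfalso
      rw [pow_succ, show (4 : ℕ) = 2 * 2 from rfl, pow_mul, pow_two (DihedralGroup.sr i), DihedralGroup.sr_mul_self,
        one_pow, one_mul] at hz
      rw [DihedralGroup.one_def] at hz
      cases hz
  obtain ⟨i, rfl⟩ := hrot y (hy ▸ pow_orderOf_eq_one y)
  obtain ⟨j, rfl⟩ := hrot x hx
  let R : Subgroup (DihedralGroup k) := Subgroup.zpowers (DihedralGroup.r 1)
  have hR : ∀ l : ZMod k, DihedralGroup.r l ∈ R := fun l => by
    obtain ⟨z, rfl⟩ := ZMod.intCast_surjective l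
    exact ⟨z, DihedralGroup.r_one_zpow z⟩
  obtain ⟨z, hz⟩ := Subgroup.mem_zpowers_iff.mp (hR i)
  obtain ⟨w, hw⟩ := Subgroup.mem_zpowers_iff.mp (hR j)
  have hk : 5 ∣ orderOf (DihedralGroup.r (1 : ZMod k)) := by
    rw [← hy, ← hz]
    exact orderOf_dvd_of_pow_eq_one (by rw [← zpow_natCast, ← zpow_mul, mul_comm, zpow_mul, zpow_natCast, pow_orderOf_eq_one, one_zpow])
  obtain ⟨m, hm⟩ := hk
  have hw5 : ((5 * m : ℕ) : ℤ) ∣ w * 5 := by
    rw [← hm, orderOf_dvd_iff_zpow_eq_one, zpow_mul, hw]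
    exact_mod_cast hx
  have hz5 : ((5 * m : ℕ) : ℤ) ∣ z * 5 := by
    rw [← hm, orderOf_dvd_iff_zpow_eq_one, zpow_mul, hz]
    exact_mod_cast (hy ▸ pow_orderOf_eq_one (DihedralGroup.r i) : DihedralGroup.r i ^ 5 = 1)
  push_cast at hw5 hz5
  rw [mul_comm (5 : ℤ)] at hw5 hz5
  obtain ⟨w', rfl⟩ := Int.dvd_of_mul_dvd_mul_right (by norm_num) hw5
  obtain ⟨z', rfl⟩ := Int.dvd_of_mul_dvd_mul_right (by norm_num) hz5
  have hz' : ¬ (5 : ℤ) ∣ z' := fun ⟨t, ht⟩ => by
    have : DihedralGroup.r i = 1 := by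
      rw [← hz, ht, show (m : ℤ) * (5 * t) = ((5 * m : ℕ) : ℤ) * t by push_cast; ring, ← hm, zpow_mul, zpow_natCast,
        pow_orderOf_eq_one, one_zpow]
    rw [this, orderOf_one] at hy
    norm_num at hy
  obtain ⟨a, b, hab⟩ := Int.isCoprime_iff_nat_coprime.mpr (Nat.Coprime.symm
    ((Nat.prime_five.coprime_iff_not_dvd).mpr fun h => hz' (Int.natCast_dvd.mpr h)) : Int.natAbs z' |>.Coprime (Int.natAbs 5))
  refine ⟨w' * a, ?_⟩
  show DihedralGroup.r i ^ (w' * a) = DihedralGroup.r j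
  rw [← hz, ← hw, ← zpow_mul, show (m : ℤ) * z' * (w' * a) = (m : ℤ) * w' + ((5 * m : ℕ) : ℤ) * (-(w' * b)) by
    push_cast
    linear_combination ((m : ℤ) * w') * hab, zpow_add, zpow_mul _ ((5 * m : ℕ) : ℤ), zpow_natCast, ← hm,
    pow_orderOf_eq_one, one_zpow, mul_one]

/-- A transitive group containing a torus element of order five is doubly transitive. -/
theorem two_trans (A : Subgroup (V2 ≃ₗ[F] V2))
    (htrans : ∀ P : Sub F V2 1, ∃ a ∈ A, (a : V2 ≃ₗ[F] V2) • org = P)
    (ζ : Fˣ) (hζ : orderOf ζ = 5) (hσ : sgm ζ ∈ A)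
    (hinv : Nat.card F = 11 →
      ∃ i ∈ A, i * i = 1 ∧ i ≠ 1 ∧ i ≠ scal (-1) ∧ ∃ P : Sub F V2 1, (i : V2 ≃ₗ[F] V2) • P = P)
    (P Q P' Q' : Sub F V2 1) (hne : P ≠ Q) (hne' : P' ≠ Q') :
    ∃ a ∈ A, (a : V2 ≃ₗ[F] V2) • P = P' ∧ (a : V2 ≃ₗ[F] V2) • Q = Q' := by
  classical
  haveI : Fintype F := Fintype.ofFinite F
  obtain ⟨p, hp⟩ := CharP.exists F
  haveI : Fact p.Prime := ⟨CharP.char_is_prime F p⟩
  refine two_trans_of_top A ?_ P Q P' Q' hne hne'
  set H := (kerPart A).map (mk : SL →* PSL) with hH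
  by_contra htop
  have hq5 : 5 ∣ Nat.card F - 1 := by
    rw [← Nat.card_units, ← hζ]; exact orderOf_dvd_natCard ζ
  have hq2 : 2 ≤ Nat.card F := Finite.one_lt_card
  have hq6 : 6 ≤ Nat.card F := by
    obtain ⟨k, hk⟩ := hq5
    omega
  have hdvd : Nat.card F + 1 ∣ 2 * Nat.card H := (points_dvd A org htrans).trans (card_map_dvd A)
  -- the torus element in the part of determinant one
  have hdet : ∀ {a}, a ∈ A → LinearEquiv.det (a * sgm ζ * a⁻¹) = (ζ ^ 3 : Fˣ) * ζ ^ 3 := fun {a} _ => by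
    rw [map_mul, map_mul, map_inv, mul_right_comm, mul_inv_cancel, one_mul, ← pow_add]
    have h1 : LinearEquiv.det (sgm ζ : V2 ≃ₗ[F] V2) = ζ := by
      refine Units.ext ?_
      rw [LinearEquiv.coe_det, ← LinearMap.det_toMatrix']
      show (mx (sgm ζ)).det = _
      rw [mx_sgm, Matrix.det_fin_two_of]
      ring
    rw [h1, show (3 + 3 : ℕ) = 5 + 1 from rfl, pow_succ, ← hζ, pow_orderOf_eq_one, one_mul]
  have hmake : ∀ {a}, a ∈ A → ∃ x ∈ H, x ^ 5 = 1 ∧ pslLine x = onLine a * onLine (sgm ζ) * (onLine a)⁻¹ := by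
    intro a ha
    obtain ⟨s, hs, hts⟩ := exists_kerPart (mul_mem (mul_mem ha hσ) (inv_mem ha)) (ζ ^ 3) (hdet ha)
    refine ⟨mk s, ⟨s, hs, rfl⟩, ?_, by rw [pslLine_mk, hts, map_mul, onLine_scal, one_mul, map_mul, map_mul, map_inv]⟩
    rw [← map_pow, show s ^ 5 = 1 from tl_injective (by
      rw [map_pow, hts, (show Commute (scal (ζ ^ 3)⁻¹) (a * sgm ζ * a⁻¹) from scal_comm _ _).mul_pow, conj_pow,
        ← map_pow, ← map_pow, show ζ ^ 5 = 1 from hζ ▸ pow_orderOf_eq_one ζ, map_one, mul_one, mul_inv_cancel, mul_one,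
        inv_pow, ← pow_mul, show (3 * 5 : ℕ) = 5 * 3 from rfl, pow_mul, show ζ ^ 5 = 1 from hζ ▸ pow_orderOf_eq_one ζ,
        one_pow, inv_one, map_one, map_one]), map_one]
  obtain ⟨y, hyH, hy5, hy⟩ := hmake (one_mem A)
  rw [map_one, one_mul, inv_one, mul_one] at hy
  have hσP : ∀ j : ℕ, ¬ 5 ∣ j → ∀ {R : Sub F V2 1}, (onLine (sgm ζ) ^ j : Equiv.Perm (Sub F V2 1)) R = R →
      R = org ∨ R = pt ![0, 1] (fun h => one_ne_zero (congrFun h 1)) := fun j hj R hR => by
    rw [← map_pow, ← map_pow, onLine_apply] at hR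
    obtain ⟨v, hv, rfl⟩ := exists_pt R
    have hne : ζ ^ j ≠ 1 := fun h => hj (hζ ▸ orderOf_dvd_of_pow_eq_one h)
    rcases fixed_sgm hne hR with h | h
    · exact Or.inr (mem_pt _ hv (c := v 1) (funext fun i => by fin_cases i <;> simp [h]))
    · exact Or.inl (mem_pt _ hv (c := v 0) (funext fun i => by fin_cases i <;> simp [h]))
  have hy1 : y ≠ 1 := fun h => by
    rw [h, map_one] at hy
    have h11 : (![1, 1] : V2) ≠ 0 := fun h => one_ne_zero (congrFun h 0)
    rcases hσP 1 (by norm_num) (R := pt ![1, 1] h11) (by rw [pow_one, ← hy]; rfl) with e | e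
    all_goals
      obtain ⟨c, hc, he⟩ := pt_eq_pt _ h11 e.symm
      have e0 := congrFun he 0
      have e1 := congrFun he 1
      simp at e0 e1
  haveI : Fact (Nat.Prime 5) := ⟨Nat.prime_five⟩
  have hoy : orderOf y = 5 := orderOf_eq_prime hy5 hy1
  -- all five-elements are powers of the torus element
  have hcyc : ((∀ x ∈ H, x ^ 5 = 1 → x ∈ Subgroup.zpowers y)) → False := by
    intro hall
    have hpair : ∀ a ∈ A, (a : V2 ≃ₗ[F] V2) • (org : Sub F V2 1) = org ∨
        (a : V2 ≃ₗ[F] V2) • (org : Sub F V2 1) = pt ![0, 1] (fun h => one_ne_zero (congrFun h 1)) := by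
      intro a ha
      obtain ⟨x, hxH, hx5, hx⟩ := hmake ha
      obtain ⟨j, hj⟩ := Subgroup.mem_zpowers_iff.mp (hall x hxH hx5)
      obtain ⟨j, rfl⟩ : ∃ j' : ℕ, y ^ j' = x := (mem_powers_iff_mem_zpowers).mpr (hall x hxH hx5)
      rw [map_pow, hy] at hx
      refine hσP j (fun ⟨t, ht⟩ => ?_) ?_
      · rw [ht, pow_mul, ← hy, ← map_pow, hy5, map_one, one_pow] at hx
        have : onLine (sgm ζ : V2 ≃ₗ[F] V2) = 1 := by
          rw [eq_comm, mul_inv_eq_one] at hx
          rw [hy] at hx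
          exact mul_eq_left.mp hx
        refine hy1 ?_
        have h11 : (![1, 1] : V2) ≠ 0 := fun h => one_ne_zero (congrFun h 0)
        rcases hσP 1 (by norm_num) (R := pt ![1, 1] h11) (by rw [pow_one, this]; rfl) with e | e
        all_goals
          obtain ⟨c, hc, he⟩ := pt_eq_pt _ h11 e.symm
          have e0 := congrFun he 0
          have e1 := congrFun he 1
          simp at e0 e1
      · rw [hx, Equiv.Perm.mul_apply, Equiv.Perm.mul_apply, ← map_inv, onLine_apply a⁻¹, inv_smul_smul, onLine_apply,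
          onLine_apply]
        congr 1
        rw [org, smul_pt]
        exact mem_pt _ _ (c := 1) (funext fun i => by
          fin_cases i
          · simp [sgm_apply_zero]
          · simp [sgm_apply_one])
    have hle : Nat.card (Sub F V2 1) ≤ 2 := by
      have : Fintype (Sub F V2 1) := Fintype.ofFinite _
      rw [Nat.card_eq_fintype_card]
      refine le_trans ?_ (Finset.card_le_two (a := (org : Sub F V2 1)) (b := pt ![0, 1] (fun h => one_ne_zero (congrFun h 1))))
      rw [← Finset.card_univ]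
      refine Finset.card_le_card fun R _ => ?_
      obtain ⟨a, ha, rfl⟩ := htrans R
      simpa using hpair a ha
    rw [card_points] at hle
    omega
  -- Dickson
  have hcard_psl : ∀ {G : Type} [Group G] [Finite G] (_ : H ≃* G), Nat.card H = Nat.card G :=
    fun e => Nat.card_congr e.toEquiv
  rcases DicksonFull.proper_cases p htop with ⟨k, -, ⟨hc, -⟩ | ⟨⟨e⟩⟩⟩ | ⟨⟨e⟩⟩ | ⟨⟨e⟩⟩ | ⟨⟨e⟩⟩ | ⟨u, hu, hle⟩ |
      ⟨Q, m, K, hK, hK', hKQ, hQ3, hm, hQm, -, -, hiso⟩
  · -- cyclic
    refine hcyc fun x hx hx5 => ?_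
    obtain ⟨g, hg⟩ := hc.exists_generator
    haveI : Fintype H := Fintype.ofFinite H
    have hle := IsCyclic.card_pow_eq_one_le (α := H) (n := 5) (by norm_num)
    let f : Fin 6 → H := fun i => if h : (i : ℕ) < 5 then ⟨y, hyH⟩ ^ (i : ℕ) else ⟨x, hx⟩
    by_contra hnot
    have hinj : Function.Injective f := by
      intro i j hij
      simp only [f] at hij
      split_ifs at hij with hi hj hj
      · have := congrArg Subtype.val hij
        simp only [SubmonoidClass.coe_pow] at this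
        exact Fin.ext (pow_injOn_Iio_orderOf (by rw [hoy]; exact hi) (by rw [hoy]; exact hj) this)
      · have := congrArg Subtype.val hij
        simp only [SubmonoidClass.coe_pow] at this
        exact absurd (this ▸ pow_mem (Subgroup.mem_zpowers y) _) hnot
      · have := congrArg Subtype.val hij
        simp only [SubmonoidClass.coe_pow] at this
        exact absurd (this.symm ▸ pow_mem (Subgroup.mem_zpowers y) _) hnot
      · exact Fin.ext (by omega)
    have h6 := Finset.card_le_card (s := Finset.univ.image f) (t := Finset.univ.filter fun a : H => a ^ 5 = 1) (by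
      intro a ha
      obtain ⟨i, -, rfl⟩ := Finset.mem_image.mp ha
      simp only [Finset.mem_filter, Finset.mem_univ, true_and, f]
      split_ifs
      · refine Subtype.ext ?_
        rw [SubmonoidClass.coe_pow, SubmonoidClass.coe_pow, ← pow_mul, mul_comm, pow_mul, hy5, one_pow, OneMemClass.coe_one]
      · exact Subtype.ext (by simpa using hx5))
    rw [Finset.card_image_of_injective _ hinj, Finset.card_univ, Fintype.card_fin] at h6
    omega
  · -- dihedral
    refine hcyc fun x hx hx5 => ?_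
    obtain ⟨j, hj⟩ := dihedral_five (e ⟨x, hx⟩) (e ⟨y, hyH⟩) (by rw [MulEquiv.orderOf_eq, ← Subgroup.orderOf_coe, hoy])
      (by rw [← map_pow, show (⟨x, hx⟩ : H) ^ 5 = 1 from Subtype.ext hx5, map_one])
    replace hj : e ⟨y, hyH⟩ ^ j = e ⟨x, hx⟩ := hj
    rw [← map_zpow] at hj
    exact ⟨j, congrArg Subtype.val (e.injective hj)⟩
  · rcases DicksonFull.a4_orders (e ⟨y, hyH⟩) with h | h
    all_goals
      have := orderOf_dvd_of_pow_eq_one h
      rw [MulEquiv.orderOf_eq, ← Subgroup.orderOf_coe, hoy] at this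
      norm_num at this
  · rcases DicksonFull.s4_orders (e ⟨y, hyH⟩) with h | h
    all_goals
      have := orderOf_dvd_of_pow_eq_one h
      rw [MulEquiv.orderOf_eq, ← Subgroup.orderOf_coe, hoy] at this
      norm_num at this
  · -- the alternating group of degree five
    have hc : Nat.card H = 60 := by rw [hcard_psl e, Nat.card_eq_fintype_card]; rfl
    rw [hc] at hdvd
    have hF : Nat.card F = 11 := by
      have hle := Nat.le_of_dvd (by norm_num) hdvd
      obtain ⟨k, hk⟩ := hq5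
      obtain ⟨t, ht⟩ := hdvd
      have hk' : k ≤ 23 := by omega
      rw [show Nat.card F + 1 = 5 * k + 2 by omega] at ht
      interval_cases k <;> omega
    obtain ⟨i, hi, hii, hi1, hi2, R, hR⟩ := hinv hF
    have h11 := (eleven_dvd hF A htrans ζ hζ hσ hi hii hi1 hi2 hR).trans (card_map_dvd A)
    rw [← hH, hc] at h11
    norm_num at h11
  · -- Borel
    have h1 : Nat.card H ∣ Nat.card (DicksonFull.bor u : Subgroup PSL) := Subgroup.card_dvd_of_le hle
    have h2 : Nat.card F + 1 ∣ 2 * (Nat.card F * (Nat.card F - 1)) := by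
      refine hdvd.trans (Nat.mul_dvd_mul_left 2 (h1.trans ⟨Nat.gcd 2 (Fintype.card F - 1), ?_⟩))
      rw [Nat.card_eq_fintype_card (α := F), ← DicksonFull.card_bor p hu, mul_comm]
    obtain ⟨r, hr⟩ : ∃ r, Nat.card F = r + 1 := ⟨Nat.card F - 1, by omega⟩
    rw [hr, Nat.add_sub_cancel] at h2
    have h3 : r + 1 + 1 ∣ 4 := by
      have h4 : r + 1 + 1 ∣ 2 * ((r + 1) * r) + 6 * (r + 2) := dvd_add h2 (dvd_mul_of_dvd_right dvd_rfl _)
      have h5 : r + 1 + 1 ∣ 2 * (r + 2) * (r + 2) := dvd_mul_left _ _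
      rw [show 2 * ((r + 1) * r) + 6 * (r + 2) = 2 * (r + 2) * (r + 2) + 4 by ring] at h4
      exact (Nat.dvd_add_right h5).mp h4
    have := Nat.le_of_dvd (by norm_num) h3
    omega
  · -- subfield
    have hH' : Nat.card H ∣ Q * (Q ^ 2 - 1) := by
      rcases hiso with ⟨⟨e⟩⟩ | ⟨⟨e⟩⟩
      · rw [Nat.card_congr e.toEquiv, ← hKQ, ← SLCard.card_SL_two (F := K), ← SLCard.gcd_mul_card_PSL (F := K) (n := 2) (by norm_num)]
        exact dvd_mul_left _ _
      · rw [Nat.card_congr e.toEquiv, SLCard.card_PGL, SLCard.card_SL_two, hKQ]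
    rw [← Nat.card_eq_fintype_card] at hQm
    rw [← hQm] at hdvd
    have hcop : Nat.Coprime (Q ^ m + 1) Q := by
      obtain ⟨j, rfl⟩ : ∃ j, m = j + 1 := ⟨m - 1, by omega⟩
      rw [pow_succ, mul_comm]
      exact (Nat.coprime_mul_left_add_left _ _ _).mpr (Nat.coprime_one_left Q)
    have h2 : Q ^ m + 1 ∣ 2 * (Q ^ 2 - 1) := by
      have := hdvd.trans (Nat.mul_dvd_mul_left 2 hH')
      rw [show 2 * (Q * (Q ^ 2 - 1)) = Q * (2 * (Q ^ 2 - 1)) by ring] at this
      exact hcop.dvd_of_dvd_mul_left this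
    have hQ9 : 9 ≤ Q ^ 2 := by nlinarith
    have hle := Nat.le_of_dvd (by omega) h2
    rcases (show m = 2 ∨ 3 ≤ m by omega) with rfl | hm3
    · have h4 : Q ^ 2 + 1 ∣ 4 := by
        have h5 : Q ^ 2 + 1 ∣ 2 * (Q ^ 2 - 1) + 4 := ⟨2, by omega⟩
        exact (Nat.dvd_add_right h2).mp h5
      have := Nat.le_of_dvd (by norm_num) h4
      omega
    · have h3 : Q ^ 3 ≤ Q ^ m := Nat.pow_le_pow_right (by omega) hm3
      have h4 : 3 * Q ^ 2 ≤ Q ^ 3 := by rw [pow_succ Q 2, mul_comm 3]; exact Nat.mul_le_mul_left _ hQ3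
      omega

end CfsgLib.SingerFive
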