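/-
Every finite field has a mated line.
-/
import Cfsg.Agent.Lib.SingerFive.Classes

set_option autoImplicit false
set_option linter.unusedSectionVars false
set_option linter.style.haveILetI false

namespace CfsgLib.SingerFive

open Module Polynomial

variable {F L : Type*} [Field F] [Field L] [Algebra F L] [Finite L]

theorem exists_other_point (W : Sub F L 2) (P : Sub F L 1) : ∃ Q : Sub F L 1, Q.1 ≤ W.1 ∧ Q ≠ P := by
  haveI := finite_base F L
  by_contra h
  push Not at h
  have h1 : Nat.card {Q : Sub F L 1 // Q.1 ≤ W.1} ≤ 1 :=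
    Finite.card_le_one_iff_subsingleton.mpr ⟨fun a b => Subtype.ext ((h a.1 a.2).trans (h b.1 b.2).symm)⟩
  rw [card_on_line] at h1
  have := Nat.card_pos (α := F)
  omega

/-- With one class every line is mated. -/
theorem mated_of_subsingleton (h : Nat.card (Cls F) = 1) (W : Sub F L 2) : Mated W := fun P _ => by
  obtain ⟨Q, hQ, hne⟩ := exists_other_point W P
  haveI := finite_base F L
  haveI : Subsingleton (Cls F) := (Nat.card_eq_one_iff_unique.mp h).1
  exact ⟨Q, hQ, hne, Subsingleton.elim _ _⟩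

/-- A class of points has one fifth of the points. -/
theorem card_class (hn : finrank F L = 5) (j : Cls F) :
    Nat.card {P : Sub F L 1 // pcls P = j} * Nat.card (Cls F) = Nat.card (Sub F L 1) := by
  haveI := finite_base F L
  have h1 : Nat.card {a : Lˣ // ncls a = j} = Nat.card (ncls : Lˣ →* Cls F).ker := by
    obtain ⟨b, rfl⟩ := ncls_surjective (L := L) j
    exact Nat.card_congr
      { toFun := fun a => ⟨b⁻¹ * a.1, by rw [MonoidHom.mem_ker, map_mul, map_inv, a.2, inv_mul_cancel]⟩
        invFun := fun k => ⟨b * k.1, by rw [map_mul, MonoidHom.mem_ker.mp k.2, mul_one]⟩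
        left_inv := fun a => Subtype.ext (mul_inv_cancel_left b a.1)
        right_inv := fun k => Subtype.ext (inv_mul_cancel_left b k.1) }
  have h2 : Nat.card {P : Sub F L 1 // pcls P = j} * Nat.card Fˣ = Nat.card {a : Lˣ // ncls a = j} := by
    rw [← card_units_filter fun P => pcls P = j]
    exact Nat.card_congr (Equiv.subtypeEquivRight fun a => by rw [pcls_pt hn])
  have h3 := (ncls : Lˣ →* Cls F).ker.card_mul_index
  rw [Subgroup.index_ker, MonoidHom.range_eq_top.mpr ncls_surjective, Subgroup.card_top, ← h1, ← h2,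
    card_units_pts (F := F) (L := L)] at h3
  refine Nat.eq_of_mul_eq_mul_right (Nat.card_pos (α := Fˣ)) ?_
  rw [← h3]
  ring

/-- A large field has a mated line by counting pairs. -/
theorem exists_mated_of_large (hn : finrank F L = 5) (hd : Nat.card (Cls F) = 5) (hq : 25 ≤ Nat.card F) :
    ∃ W : Sub F L 2, Mated W := by
  classical
  haveI := finite_base F L
  haveI : Fintype (Sub F L 2) := Fintype.ofFinite _
  haveI : Fintype (Sub F L 1) := Fintype.ofFinite _
  haveI : Fintype (Cls F) := Fintype.ofFinite _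
  by_contra hno
  push Not at hno
  have hpair : ∀ W : Sub F L 2, Nat.card F ^ 2 ≤
      4 * ∑ j : Cls F, Nat.card {P : Sub F L 1 // P.1 ≤ W.1 ∧ pcls P = j} * (Nat.card {P : Sub F L 1 // P.1 ≤ W.1 ∧ pcls P = j} - 1) +
        4 * Nat.card F := by
    intro W
    have hW := hno W
    simp only [Mated] at hW
    push Not at hW
    obtain ⟨P, hP, hsingle⟩ := hW
    let c : Cls F → ℕ := fun j => Nat.card {Q : Sub F L 1 // Q.1 ≤ W.1 ∧ pcls Q = j}
    have hone : c (pcls P) = 1 := by
      refine Nat.card_eq_one_iff_unique.mpr ⟨⟨fun a b => Subtype.ext ?_⟩, ⟨⟨P, hP, rfl⟩⟩⟩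
      have key : ∀ x : {Q : Sub F L 1 // Q.1 ≤ W.1 ∧ pcls Q = pcls P}, x.1 = P := fun x =>
        by_contra fun h => hsingle x.1 x.2.1 h x.2.2
      rw [key a, key b]
    have hsum : ∑ j, c j = Nat.card F + 1 := by
      rw [← card_on_line W, ← Nat.card_sigma]
      exact Nat.card_congr
        { toFun := fun x => ⟨x.2.1, x.2.2.1⟩
          invFun := fun Q => ⟨pcls Q.1, Q.1, Q.2, rfl⟩
          left_inv := fun ⟨j, Q, hQ, hj⟩ => by subst hj; rfl
          right_inv := fun Q => rfl }
    have hcs : (∑ j ∈ Finset.univ.erase (pcls P), c j) ^ 2 ≤ 4 * ∑ j ∈ Finset.univ.erase (pcls P), c j ^ 2 := by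
      have h := sq_sum_le_card_mul_sum_sq (s := Finset.univ.erase (pcls P)) (f := c)
      rwa [Finset.card_erase_of_mem (Finset.mem_univ _), Finset.card_univ, ← Nat.card_eq_fintype_card, hd] at h
    rw [← Finset.add_sum_erase _ _ (Finset.mem_univ (pcls P)), hone] at hsum
    have hrest : ∑ j ∈ Finset.univ.erase (pcls P), c j = Nat.card F := by omega
    rw [hrest] at hcs
    have hsq : ∑ j, c j ^ 2 = ∑ j, c j * (c j - 1) + ∑ j, c j := by
      rw [← Finset.sum_add_distrib]
      refine Finset.sum_congr rfl fun j _ => ?_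
      rcases c j with _ | n
      · rfl
      · rw [Nat.add_sub_cancel]; ring
    rw [← Finset.add_sum_erase _ _ (Finset.mem_univ (pcls P)), hone,
      ← Finset.add_sum_erase Finset.univ c (Finset.mem_univ (pcls P)), hone, hrest] at hsq
    show _ ≤ 4 * ∑ j, c j * (c j - 1) + _
    omega
  have htot : ∑ W : Sub F L 2, ∑ j : Cls F,
      Nat.card {P : Sub F L 1 // P.1 ≤ W.1 ∧ pcls P = j} * (Nat.card {P : Sub F L 1 // P.1 ≤ W.1 ∧ pcls P = j} - 1) =
      ∑ j : Cls F, Nat.card {P : Sub F L 1 // pcls P = j} * (Nat.card {P : Sub F L 1 // pcls P = j} - 1) := by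
    rw [Finset.sum_comm]
    exact Finset.sum_congr rfl fun j _ => sum_pairs fun P => pcls P = j
  have hN : ∀ j : Cls F, Nat.card {P : Sub F L 1 // pcls P = j} * 5 = Nat.card (Sub F L 1) := fun j =>
    hd ▸ card_class hn j
  obtain ⟨N, hN'⟩ : ∃ N, ∀ j : Cls F, Nat.card {P : Sub F L 1 // pcls P = j} = N :=
    ⟨_, fun j => Nat.eq_of_mul_eq_mul_right (by norm_num) ((hN j).trans (hN 1).symm)⟩
  have hle := Finset.sum_le_sum fun W (_ : W ∈ (Finset.univ : Finset (Sub F L 2))) => hpair W
  rw [Finset.sum_const, Finset.sum_add_distrib, ← Finset.mul_sum, htot, Finset.sum_congr rfl fun j _ => by rw [hN' j],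
    Finset.sum_const, Finset.sum_const, smul_eq_mul, smul_eq_mul, smul_eq_mul, Finset.card_univ,
    Finset.card_univ, ← Nat.card_eq_fintype_card, ← Nat.card_eq_fintype_card, hd, card_lines_eq hn] at hle
  have h5N := (hN 1)
  rw [hN' 1] at h5N
  rw [← h5N] at hle
  have hpts := card_pts_eq (F := F) (L := L) hn
  rw [← h5N] at hpts
  obtain ⟨q, hq'⟩ : ∃ q, Nat.card F = q + 25 := ⟨Nat.card F - 25, by omega⟩
  rw [hq'] at hle hpts
  have hNpos : 0 < N := by nlinarith
  have h1 : ((q + 25) ^ 2 + 1) * (q + 25) ^ 2 ≤ 4 * (N - 1) + ((q + 25) ^ 2 + 1) * (4 * (q + 25)) := by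
    refine Nat.le_of_mul_le_mul_left ?_ (show 0 < N * 5 by omega)
    calc _ = N * 5 * ((q + 25) ^ 2 + 1) * (q + 25) ^ 2 := by ring
      _ ≤ _ := hle
      _ = _ := by ring
  obtain ⟨K, rfl⟩ : ∃ K, N = K + 1 := ⟨N - 1, by omega⟩
  rw [Nat.add_sub_cancel] at h1
  nlinarith [Nat.zero_le (q ^ 4), Nat.zero_le (q ^ 3), Nat.zero_le (q ^ 2), Nat.zero_le q]

variable (hn : finrank F L = 5)

theorem minpoly_natDegree_five {x : L} (hn : finrank F L = 5) (hx : x ∉ Set.range (algebraMap F L)) :
    (minpoly F x).natDegree = 5 := by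
  haveI : FiniteDimensional F L := finiteDim
  have h := minpoly.degree_dvd (IsIntegral.of_finite F x)
  rw [hn] at h
  refine ((Nat.dvd_prime (by norm_num)).mp h).resolve_left fun h1 => hx ?_
  exact minpoly.mem_range_of_degree_eq_one F x (by
    rw [degree_eq_natDegree (minpoly.ne_zero (IsIntegral.of_finite F x)), h1]; rfl)

/-- The norm of `a - x` is the value at `a` of the monic quintic killing `x`. -/
theorem norm_sub_eq (hn : finrank F L = 5) {x : L} (hx : x ∉ Set.range (algebraMap F L)) {f : F[X]}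
    (hf : f.Monic) (hdeg : f.natDegree = 5) (hfx : aeval x f = 0) (a : F) :
    Algebra.norm F (algebraMap F L a - x) = f.eval a := by
  haveI : FiniteDimensional F L := finiteDim
  have hint := IsIntegral.of_finite F x
  have hmin : minpoly F x = f := by
    refine (Polynomial.eq_of_monic_of_dvd_of_natDegree_le (minpoly.monic hint) hf (minpoly.dvd F x hfx) ?_).symm
    rw [hdeg, minpoly_natDegree_five hn hx]
  have hchar : (Algebra.lmul F L x).charpoly = f := by
    rw [← hmin]
    refine Polynomial.eq_of_monic_of_dvd_of_natDegree_le (minpoly.monic hint) (LinearMap.charpoly_monic _) ?_ ?_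
    · refine minpoly.dvd F x ?_
      have h1 := LinearMap.aeval_self_charpoly (Algebra.lmul F L x)
      rw [Polynomial.aeval_algHom_apply] at h1
      have := LinearMap.congr_fun h1 1
      simpa using this
    · rw [LinearMap.charpoly_natDegree, hn, minpoly_natDegree_five hn hx]
  rw [Algebra.norm_apply, ← hchar, LinearMap.eval_charpoly]
  congr 1
  refine LinearMap.ext fun y => ?_
  simp [Algebra.smul_def, sub_mul]

/-- The line through one and a root of a quintic is mated when the classes of the values are. -/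
theorem mated_of_table (hn : finrank F L = 5) {x : L} {f : F[X]} (hf : f.Monic) (hdeg : f.natDegree = 5)
    (hfx : aeval x f = 0) (hroot : ∀ a, f.eval a ≠ 0) (h1 : ∃ a c, f.eval a = c ^ 5)
    (htab : ∀ a, (∃ c, f.eval a = c ^ 5) ∨ ∃ b c, b ≠ a ∧ f.eval b = c ^ 5 * f.eval a) :
    ∃ W : Sub F L 2, Mated W := by
  classical
  have hx : x ∉ Set.range (algebraMap F L) := by
    rintro ⟨a, rfl⟩
    rw [Polynomial.aeval_algebraMap_apply_eq_algebraMap_eval, map_eq_zero] at hfx
    exact hroot a hfx
  have hli : LinearIndependent F ![(1 : L), x] := by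
    rw [LinearIndependent.pair_iff' one_ne_zero]
    intro a ha
    exact hx ⟨a, by rw [← ha, Algebra.smul_def, mul_one]⟩
  have hne : ∀ a : F, algebraMap F L a - x ≠ 0 := fun a h => hx ⟨a, sub_eq_zero.mp h⟩
  have hnorm := norm_sub_eq hn hx hf hdeg hfx
  let nu : F → Fˣ := fun a => Units.mk0 (f.eval a) (hroot a)
  have hcls : ∀ a : F, pcls (pt (algebraMap F L a - x) (hne a) : Sub F L 1) = (QuotientGroup.mk (nu a) : Cls F) := by
    intro a
    rw [show (pt (algebraMap F L a - x) (hne a) : Sub F L 1) =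
      pt ((Units.mk0 _ (hne a) : Lˣ) : L) (Units.ne_zero _) from rfl, pcls_pt hn]
    exact congrArg QuotientGroup.mk (Units.ext (hnorm a))
  have hcone : pcls (pt (1 : L) one_ne_zero : Sub F L 1) = (1 : Cls F) := by
    rw [show (pt (1 : L) one_ne_zero : Sub F L 1) = pt ((1 : Lˣ) : L) (Units.ne_zero _) from rfl, pcls_pt hn, map_one]
  have hmem : ∀ a : F, (pt (algebraMap F L a - x) (hne a) : Sub F L 1).1 ≤ (line2 hli).1 := fun a =>
    (pt_le_iff _ _).mpr (Submodule.mem_span_pair.mpr ⟨a, -1, by rw [Algebra.smul_def, mul_one, neg_one_smul, sub_eq_add_neg]⟩)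
  have hone : (pt (1 : L) one_ne_zero : Sub F L 1).1 ≤ (line2 hli).1 :=
    (pt_le_iff _ _).mpr (Submodule.subset_span (by simp))
  have hne1 : ∀ a : F, (pt (algebraMap F L a - x) (hne a) : Sub F L 1) ≠ pt 1 one_ne_zero := fun a h => by
    obtain ⟨c, -, hc⟩ := pt_eq_pt one_ne_zero (hne a) h.symm
    rw [Algebra.smul_def, mul_one] at hc
    exact hx ⟨a - c, by rw [map_sub, ← hc]; abel⟩
  have hfifth : ∀ (a : F) (c : F), f.eval a = c ^ 5 → (QuotientGroup.mk (nu a) : Cls F) = 1 := fun a c hc => by
    have hc0 : c ≠ 0 := fun h => hroot a (by rw [hc, h, zero_pow (by norm_num)])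
    refine (QuotientGroup.eq_one_iff _).mpr ⟨Units.mk0 c hc0, Units.ext ?_⟩
    simpa [nu] using hc.symm
  refine ⟨line2 hli, fun P hP => ?_⟩
  obtain ⟨z, hz, rfl⟩ := exists_pt P
  obtain ⟨s, t, hst⟩ := Submodule.mem_span_pair.mp ((pt_le_iff hz _).mp hP)
  by_cases ht : t = 0
  · -- the point of one
    have hs : s ≠ 0 := fun h => hz (by rw [← hst, h, ht]; simp)
    have hP1 : (pt z hz : Sub F L 1) = pt 1 one_ne_zero :=
      Subtype.ext (by
        show F ∙ z = F ∙ (1 : L)
        rw [← hst, ht, zero_smul, add_zero, Submodule.span_singleton_smul_eq hs.isUnit])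
    obtain ⟨a, c, hac⟩ := h1
    exact ⟨_, hmem a, hP1 ▸ hne1 a, by rw [hP1, hcone, hcls, hfifth a c hac]⟩
  · set a := -(s / t) with ha
    have hP1 : (pt z hz : Sub F L 1) = pt (algebraMap F L a - x) (hne a) :=
      Subtype.ext (by
        show F ∙ z = F ∙ (algebraMap F L a - x)
        rw [show z = (-t) • (algebraMap F L a - x) by
          rw [← hst, ha, smul_sub, Algebra.smul_def (-t), ← map_mul, neg_mul_neg, mul_div_cancel₀ s ht,
            Algebra.smul_def s, mul_one, neg_smul, sub_neg_eq_add],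
          Submodule.span_singleton_smul_eq (neg_ne_zero.mpr ht).isUnit])
    rcases htab a with ⟨c, hc⟩ | ⟨b, c, hb, hbc⟩
    · exact ⟨_, hone, hP1 ▸ (hne1 a).symm, by rw [hP1, hcone, hcls, hfifth a c hc]⟩
    · refine ⟨_, hmem b, fun h => ?_, ?_⟩
      · rw [hP1] at h
        obtain ⟨e, -, he⟩ := pt_eq_pt (hne b) (hne a) h
        have h2 : (1 - e) • x = (algebraMap F L a - e • algebraMap F L b) := by
          rw [sub_smul, one_smul]
          rw [smul_sub] at he
          linear_combination (-1 : L) * he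
        by_cases he1 : e = 1
        · subst he1
          rw [sub_self, zero_smul, one_smul, eq_comm, sub_eq_zero] at h2
          exact hb ((algebraMap F L).injective h2).symm
        · refine hx ⟨(1 - e)⁻¹ * (a - e * b), ?_⟩
          have h1e : (1 - e) ≠ 0 := sub_ne_zero.mpr (Ne.symm he1)
          rw [map_mul, map_sub, map_mul, ← Algebra.smul_def e, ← h2, Algebra.smul_def, ← mul_assoc, ← map_mul,
            inv_mul_cancel₀ h1e, map_one, one_mul]
      · rw [hP1, hcls, hcls]
        refine QuotientGroup.eq.mpr ?_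
        have hc0 : c ≠ 0 := fun h => hroot b (by rw [hbc, h, zero_pow (by norm_num), zero_mul])
        refine ⟨Units.mk0 c⁻¹ (inv_ne_zero hc0), Units.ext ?_⟩
        simp only [powMonoidHom_apply, Units.val_pow_eq_pow_val, Units.val_mk0, Units.val_mul, Units.val_inv_eq_inv_val, nu]
        rw [hbc, inv_pow]
        have := hroot a
        field_simp

end CfsgLib.SingerFive
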