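/-
The fields with eleven and sixteen elements.
-/
import Cfsg.Agent.Lib.SingerFive.Mates

set_option autoImplicit false
set_option linter.unusedSectionVars false
set_option linter.style.haveILetI false
set_option linter.unusedSimpArgs false

namespace CfsgLib.SingerFive

open Module Polynomial

/-- The sparse quintic. -/
noncomputable def quint {R : Type*} [CommRing R] (a2 a1 a0 : R) : R[X] :=
  X ^ 5 + C a2 * X ^ 2 + C a1 * X + C a0

theorem quint_monic {R : Type*} [CommRing R] [Nontrivial R] (a2 a1 a0 : R) : (quint a2 a1 a0).Monic := by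
  unfold quint; monicity!

theorem quint_natDegree {R : Type*} [CommRing R] [Nontrivial R] (a2 a1 a0 : R) :
    (quint a2 a1 a0).natDegree = 5 := by
  unfold quint; compute_degree!

theorem quint_eval {R : Type*} [CommRing R] (a2 a1 a0 a : R) :
    (quint a2 a1 a0).eval a = a ^ 5 + a2 * a ^ 2 + a1 * a + a0 := by
  simp [quint]

/-- A sparse quintic without linear or quadratic factor is irreducible. -/
theorem quint_irreducible {K : Type*} [Field K] (a2 a1 a0 : K) (h1 : ∀ a, a ^ 5 + a2 * a ^ 2 + a1 * a + a0 ≠ 0)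
    (h2 : ∀ b c, a1 - b * (a2 - b ^ 3 + 2 * b * c) - c * (b ^ 2 - c) ≠ 0 ∨ a0 - c * (a2 - b ^ 3 + 2 * b * c) ≠ 0) :
    Irreducible (quint a2 a1 a0) := by
  have hne : quint a2 a1 a0 ≠ 1 := fun h => by
    have := congrArg natDegree h
    rw [quint_natDegree, natDegree_one] at this
    omega
  refine ((quint_monic a2 a1 a0).irreducible_iff_lt_natDegree_lt hne).mpr fun g hg hdeg hdvd => ?_
  rw [quint_natDegree, Finset.mem_Ioc] at hdeg
  rcases (show g.natDegree = 1 ∨ g.natDegree = 2 by omega) with hd | hd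
  · rw [hg.eq_X_add_C hd] at hdvd
    rw [show g.coeff 0 = -(-g.coeff 0) by ring, map_neg, ← sub_eq_add_neg, dvd_iff_isRoot, IsRoot, quint_eval] at hdvd
    exact h1 _ hdvd
  · have hgq : g = X ^ 2 + C (g.coeff 1) * X + C (g.coeff 0) := by
      conv_lhs => rw [g.as_sum_range_C_mul_X_pow, hd]
      simp only [Finset.sum_range_succ, Finset.sum_range_zero, zero_add, pow_zero, mul_one, pow_one]
      rw [show g.coeff 2 = 1 from hd ▸ hg.coeff_natDegree, map_one, one_mul]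
      ring
    set b := g.coeff 1 with hb
    set c := g.coeff 0 with hc
    set R : K[X] := C (a1 - b * (a2 - b ^ 3 + 2 * b * c) - c * (b ^ 2 - c)) * X + C (a0 - c * (a2 - b ^ 3 + 2 * b * c)) with hR
    have hid : quint a2 a1 a0 =
        g * (X ^ 3 - C b * X ^ 2 + C (b ^ 2 - c) * X + C (a2 - b ^ 3 + 2 * b * c)) + R := by
      rw [hgq, hR]
      simp only [quint, map_add, map_sub, map_mul, map_pow, map_ofNat]
      ring
    rw [hid, dvd_add_right (dvd_mul_right _ _)] at hdvd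
    have hR0 : R = 0 := by
      by_contra hne0
      have h := natDegree_le_of_dvd hdvd hne0
      have h' : R.natDegree ≤ 1 := natDegree_linear_le
      omega
    rcases h2 b c with h | h
    · exact h (by
        have := congrArg (fun P => P.coeff 1) hR0
        simp only [hR, coeff_add, coeff_C_mul, coeff_X_one, coeff_C_succ, coeff_zero, mul_one, add_zero] at this
        exact this)
    · exact h (by
        have := congrArg (fun P => P.coeff 0) hR0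
        simp only [hR, coeff_add, coeff_C_mul, coeff_X_zero, coeff_C_zero, coeff_zero, mul_zero, zero_add] at this
        exact this)

variable {F L : Type*} [Field F] [Field L] [Algebra F L] [Finite L]

/-- A quintic irreducible over the prime field has a root in `L`. -/
theorem exists_root (hn : finrank F L = 5) (p : ℕ) [Fact p.Prime] [CharP F p] (g : (ZMod p)[X])
    (hg : Irreducible g) (hdeg : g.natDegree = 5) :
    ∃ x : L, aeval x (g.map (ZMod.castHom (dvd_refl p) F)) = 0 := by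
  haveI := finite_base F L
  haveI : CharP L p := (algebraMap F L).charP_iff_charP p |>.mp ‹_›
  letI : Algebra (ZMod p) F := ZMod.algebra F p
  letI : Algebra (ZMod p) L := ZMod.algebra L p
  haveI : IsScalarTower (ZMod p) F L := IsScalarTower.of_algebraMap_eq fun a =>
    RingHom.congr_fun (Subsingleton.elim (algebraMap (ZMod p) L) ((algebraMap F L).comp (algebraMap (ZMod p) F))) a
  haveI := Fact.mk hg
  have hK : finrank (ZMod p) (AdjoinRoot g) = 5 := by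
    rw [(AdjoinRoot.powerBasis hg.ne_zero).finrank, AdjoinRoot.powerBasis_dim, hdeg]
  have hdvd : finrank (ZMod p) (AdjoinRoot g) ∣ finrank (ZMod p) L := by
    rw [hK, ← Module.finrank_mul_finrank (ZMod p) F L, hn]
    exact dvd_mul_left _ _
  obtain ⟨φ⟩ := FiniteField.nonempty_algHom_of_finrank_dvd hdvd
  refine ⟨φ (AdjoinRoot.root g), ?_⟩
  rw [show ZMod.castHom (dvd_refl p) F = algebraMap (ZMod p) F from Subsingleton.elim _ _, aeval_map_algebraMap,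
    aeval_algHom_apply, AdjoinRoot.aeval_eq, AdjoinRoot.mk_self, map_zero]

theorem table_two : (∀ a : ZMod 2, a ^ 5 + 1 * a ^ 2 + 0 * a + 1 ≠ 0) ∧
    (∀ b c : ZMod 2, 0 - b * (1 - b ^ 3 + 2 * b * c) - c * (b ^ 2 - c) ≠ 0 ∨ 1 - c * (1 - b ^ 3 + 2 * b * c) ≠ 0) := by
  decide +kernel

theorem table_eleven : (∀ a : ZMod 11, a ^ 5 + 1 * a ^ 2 + 6 * a + 8 ≠ 0) ∧
    (∀ b c : ZMod 11, 6 - b * (1 - b ^ 3 + 2 * b * c) - c * (b ^ 2 - c) ≠ 0 ∨ 8 - c * (1 - b ^ 3 + 2 * b * c) ≠ 0) ∧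
    (∃ a c : ZMod 11, a ^ 5 + 1 * a ^ 2 + 6 * a + 8 = c ^ 5) ∧
    (∀ a : ZMod 11, (∃ c, a ^ 5 + 1 * a ^ 2 + 6 * a + 8 = c ^ 5) ∨
      ∃ b c, b ≠ a ∧ b ^ 5 + 1 * b ^ 2 + 6 * b + 8 = c ^ 5 * (a ^ 5 + 1 * a ^ 2 + 6 * a + 8)) := by
  decide +kernel

theorem exists_mated_eleven (hn : finrank F L = 5) (hF : Nat.card F = 11) : ∃ W : Sub F L 2, Mated W := by
  haveI := finite_base F L
  haveI : Fintype F := Fintype.ofFinite F
  haveI : Fact (Nat.Prime 11) := ⟨by norm_num⟩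
  rw [Nat.card_eq_fintype_card] at hF
  haveI : CharP F 11 := charP_of_card_eq_prime hF
  let e : ZMod 11 ≃+* F := RingEquiv.ofBijective (ZMod.castHom (dvd_refl 11) F) ((Fintype.bijective_iff_injective_and_card _).mpr
    ⟨(ZMod.castHom (dvd_refl 11) F).injective, by rw [ZMod.card, hF]⟩)
  obtain ⟨t1, t2, t3, t4⟩ := table_eleven
  obtain ⟨x, hx⟩ := exists_root (L := L) hn 11 (quint 1 6 8) (quint_irreducible _ _ _ t1 t2) (quint_natDegree _ _ _)
  set f := (quint (1 : ZMod 11) 6 8).map (ZMod.castHom (dvd_refl 11) F) with hf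
  have hev : ∀ a, f.eval (e a) = e (a ^ 5 + 1 * a ^ 2 + 6 * a + 8) := fun a => by
    rw [hf, Polynomial.eval_map, show e a = ZMod.castHom (dvd_refl 11) F a from rfl, Polynomial.eval₂_at_apply, quint_eval]
    rfl
  refine mated_of_table hn ((quint_monic _ _ _).map _) ?_ hx (fun a => ?_) ?_ (fun a => ?_)
  · rw [Polynomial.natDegree_map, quint_natDegree]
  · obtain ⟨a, rfl⟩ := e.surjective a
    rw [hev, Ne, map_eq_zero_iff _ e.injective]
    exact t1 a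
  · obtain ⟨a, c, h⟩ := t3
    exact ⟨e a, e c, by rw [hev, h, map_pow]⟩
  · obtain ⟨a, rfl⟩ := e.surjective a
    rcases t4 a with ⟨c, h⟩ | ⟨b, c, hb, h⟩
    · exact Or.inl ⟨e c, by rw [hev, h, map_pow]⟩
    · exact Or.inr ⟨e b, e c, fun he => hb (e.injective he), by rw [hev, hev, h, map_mul, map_pow]⟩

theorem exists_mated_sixteen (hn : finrank F L = 5) (hF : Nat.card F = 16) : ∃ W : Sub F L 2, Mated W := by
  classical
  haveI := finite_base F L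
  haveI : Fintype F := Fintype.ofFinite F
  haveI : Fact (Nat.Prime 2) := ⟨Nat.prime_two⟩
  rw [Nat.card_eq_fintype_card] at hF
  haveI : CharP F 2 := charP_of_card_eq_prime_pow (f := 4) hF
  have h2 : (2 : F) = 0 := by exact_mod_cast CharP.cast_eq_zero F 2
  obtain ⟨g, hg⟩ := IsCyclic.exists_generator (α := Fˣ)
  have hog : orderOf g = 15 := by
    rw [orderOf_eq_card_of_forall_mem_zpowers hg, Nat.card_units, Nat.card_eq_fintype_card, hF]
  have hord : ∀ k, 0 < k → k < 15 → (g : F) ^ k ≠ 1 := fun k hk hk' h => by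
    have := Nat.le_of_dvd hk (hog ▸ orderOf_dvd_of_pow_eq_one (Units.ext (by simpa using h) : g ^ k = 1))
    omega
  obtain ⟨w, hw, hw15, hwne⟩ : ∃ w : F, w ^ 4 + w + 1 = 0 ∧ w ^ 15 = 1 ∧ ∀ k, 0 < k → k < 15 → w ^ k ≠ 1 := by
    set u := (g : F)
    have h15 : u ^ 15 = 1 := by rw [← Units.val_pow_eq_pow_val, ← hog, pow_orderOf_eq_one, Units.val_one]
    have hfac : (u ^ 4 + u + 1) * (u ^ 4 + u ^ 3 + 1) * ((u ^ 4 + u ^ 3 + u ^ 2 + u + 1) * (u ^ 2 + u + 1) * (u - 1)) = 0 := by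
      linear_combination h15 + ((-1) * u + (-1) * u ^ 2 + (-1) * u ^ 3 + (-2) * u ^ 4 + (-2) * u ^ 5 + (-1) * u ^ 6 + u ^ 9 + (2) * u ^ 10 + (2) * u ^ 11 + u ^ 12 + u ^ 13 + u ^ 14) * h2
    rcases mul_eq_zero.mp hfac with h | h
    · rcases mul_eq_zero.mp h with h | h
      · exact ⟨u, h, h15, hord⟩
      · refine ⟨u⁻¹, ?_, by rw [inv_pow, h15, inv_one], fun k hk hk' => ?_⟩
        · have hu : u ≠ 0 := g.ne_zero
          field_simp
          linear_combination h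
        · rw [inv_pow, Ne, inv_eq_one]
          exact hord k hk hk'
    · exfalso
      rcases mul_eq_zero.mp h with h | h
      · rcases mul_eq_zero.mp h with h | h
        · exact hord 5 (by norm_num) (by norm_num) (by linear_combination (u - 1) * h)
        · exact hord 3 (by norm_num) (by norm_num) (by linear_combination (u - 1) * h)
      · exact hord 1 (by norm_num) (by norm_num) (by linear_combination h)
  obtain ⟨x, hx⟩ := exists_root (F := F) (L := L) hn 2 (quint 1 0 1) (quint_irreducible _ _ _ table_two.1 table_two.2) (quint_natDegree _ _ _)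
  set f := (quint (1 : ZMod 2) 0 1).map (ZMod.castHom (dvd_refl 2) F) with hf
  have hev : ∀ a : F, f.eval a = a ^ 5 + a ^ 2 + 1 := fun a => by
    rw [hf, Polynomial.eval_map, quint]
    simp [Polynomial.eval₂_add, Polynomial.eval₂_mul, Polynomial.eval₂_pow]
  have hw0 : w ≠ 0 := fun h => by rw [h, zero_pow (by norm_num)] at hw15; exact zero_ne_one hw15
  have hval : ∀ k : Fin 15, f.eval (w ^ (k : ℕ)) = w ^ ([0, 4, 8, 6, 1, 0, 12, 11, 2, 3, 0, 13, 9, 14, 7].getD k 0) := by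
    intro k
    rw [hev]
    fin_cases k <;> simp only [List.getD_cons_succ, List.getD_cons_zero, Nat.reduceAdd, Fin.isValue]
    · linear_combination (0) * hw + (1) * h2
    · linear_combination ((-1) + w) * hw + (1) * h2
    · linear_combination ((3) + w + (-1) * w ^ 2 + (-1) * w ^ 3 + (-1) * w ^ 4 + w ^ 6) * hw + ((-1) + (-2) * w + w ^ 3) * h2
    · linear_combination ((-3) + (-3) * w + (-1) * w ^ 2 + w ^ 3 + (2) * w ^ 4 + w ^ 5 + (-1) * w ^ 7 + (-1) * w ^ 8 + w ^ 11) * hw + ((2) + (3) * w + (2) * w ^ 2) * h2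
    · linear_combination ((-5) + (2) * w + (6) * w ^ 2 + (4) * w ^ 3 + w ^ 4 + (-3) * w ^ 5 + (-3) * w ^ 6 + (-1) * w ^ 7 + w ^ 8 + (2) * w ^ 9 + w ^ 10 + (-1) * w ^ 12 + (-1) * w ^ 13 + w ^ 16) * hw + ((3) + w + (-4) * w ^ 2 + (-5) * w ^ 3) * h2
    · linear_combination ((20) + (14) * w + (-10) * w ^ 3 + (-10) * w ^ 4 + (-4) * w ^ 5 + (4) * w ^ 6 + (6) * w ^ 7 + (4) * w ^ 8 + (-3) * w ^ 10 + (-3) * w ^ 11 + (-1) * w ^ 12 + w ^ 13 + (2) * w ^ 14 + w ^ 15 + (-1) * w ^ 17 + (-1) * w ^ 18 + w ^ 21) * hw + ((-10) + (-17) * w + (-7) * w ^ 2 + (5) * w ^ 3) * h2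
    · linear_combination ((7) + (-27) * w + (-33) * w ^ 2 + (-15) * w ^ 3 + (8) * w ^ 4 + (19) * w ^ 5 + (14) * w ^ 6 + w ^ 7 + (-9) * w ^ 8 + (-10) * w ^ 9 + (-4) * w ^ 10 + (3) * w ^ 11 + (6) * w ^ 12 + (4) * w ^ 13 + (-3) * w ^ 15 + (-3) * w ^ 16 + (-1) * w ^ 17 + w ^ 18 + (2) * w ^ 19 + w ^ 20 + (-1) * w ^ 22 + (-1) * w ^ 23 + w ^ 26) * hw + ((-3) + (10) * w + (30) * w ^ 2 + (24) * w ^ 3) * h2
    · linear_combination ((-113) + (-57) * w + (21) * w ^ 2 + (63) * w ^ 3 + (50) * w ^ 4 + (7) * w ^ 5 + (-28) * w ^ 6 + (-35) * w ^ 7 + (-15) * w ^ 8 + (8) * w ^ 9 + (20) * w ^ 10 + (14) * w ^ 11 + w ^ 12 + (-9) * w ^ 13 + (-10) * w ^ 14 + (-4) * w ^ 15 + (3) * w ^ 16 + (6) * w ^ 17 + (4) * w ^ 18 + (-3) * w ^ 20 + (-3) * w ^ 21 + (-1) * w ^ 22 + w ^ 23 + (2) * w ^ 24 + w ^ 25 + (-1) * w ^ 27 + (-1) * w ^ 28 + w ^ 31) * hw + ((57) + (85) * w + (18) * w ^ 2 + (-42) * w ^ 3) * h2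
    · linear_combination ((45) + (185) * w + (160) * w ^ 2 + (34) * w ^ 3 + (-79) * w ^ 4 + (-106) * w ^ 5 + (-54) * w ^ 6 + (20) * w ^ 7 + (59) * w ^ 8 + (47) * w ^ 9 + (7) * w ^ 10 + (-27) * w ^ 11 + (-32) * w ^ 12 + (-15) * w ^ 13 + (8) * w ^ 14 + (19) * w ^ 15 + (14) * w ^ 16 + w ^ 17 + (-9) * w ^ 18 + (-10) * w ^ 19 + (-4) * w ^ 20 + (3) * w ^ 21 + (6) * w ^ 22 + (4) * w ^ 23 + (-3) * w ^ 25 + (-3) * w ^ 26 + (-1) * w ^ 27 + w ^ 28 + (2) * w ^ 29 + w ^ 30 + (-1) * w ^ 32 + (-1) * w ^ 33 + w ^ 36) * hw + ((-22) + (-115) * w + (-173) * w ^ 2 + (-97) * w ^ 3) * h2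
    · linear_combination ((555) + (157) * w + (-233) * w ^ 2 + (-354) * w ^ 3 + (-201) * w ^ 4 + (44) * w ^ 5 + (189) * w ^ 6 + (165) * w ^ 7 + (36) * w ^ 8 + (-80) * w ^ 9 + (-109) * w ^ 10 + (-56) * w ^ 11 + (20) * w ^ 12 + (60) * w ^ 13 + (49) * w ^ 14 + (7) * w ^ 15 + (-27) * w ^ 16 + (-33) * w ^ 17 + (-15) * w ^ 18 + (8) * w ^ 19 + (19) * w ^ 20 + (14) * w ^ 21 + w ^ 22 + (-9) * w ^ 23 + (-10) * w ^ 24 + (-4) * w ^ 25 + (3) * w ^ 26 + (6) * w ^ 27 + (4) * w ^ 28 + (-3) * w ^ 30 + (-3) * w ^ 31 + (-1) * w ^ 32 + w ^ 33 + (2) * w ^ 34 + w ^ 35 + (-1) * w ^ 37 + (-1) * w ^ 38 + w ^ 41) * hw + ((-277) + (-356) * w + (38) * w ^ 2 + (293) * w ^ 3) * h2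
    · linear_combination ((-668) + (-1130) * w + (-696) * w ^ 2 + (84) * w ^ 3 + (584) * w ^ 4 + (546) * w ^ 5 + (150) * w ^ 6 + (-234) * w ^ 7 + (-350) * w ^ 8 + (-196) * w ^ 9 + (46) * w ^ 10 + (188) * w ^ 11 + (162) * w ^ 12 + (34) * w ^ 13 + (-80) * w ^ 14 + (-108) * w ^ 15 + (-54) * w ^ 16 + (20) * w ^ 17 + (60) * w ^ 18 + (48) * w ^ 19 + (7) * w ^ 20 + (-27) * w ^ 21 + (-33) * w ^ 22 + (-15) * w ^ 23 + (8) * w ^ 24 + (19) * w ^ 25 + (14) * w ^ 26 + w ^ 27 + (-9) * w ^ 28 + (-10) * w ^ 29 + (-4) * w ^ 30 + (3) * w ^ 31 + (6) * w ^ 32 + (4) * w ^ 33 + (-3) * w ^ 35 + (-3) * w ^ 36 + (-1) * w ^ 37 + w ^ 38 + (2) * w ^ 39 + w ^ 40 + (-1) * w ^ 42 + (-1) * w ^ 43 + w ^ 46) * hw + ((334) + (899) * w + (913) * w ^ 2 + (306) * w ^ 3) * h2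
    · linear_combination ((-2465) + (31) * w + (1791) * w ^ 2 + (1837) * w ^ 3 + (628) * w ^ 4 + (-659) * w ^ 5 + (-1132) * w ^ 6 + (-705) * w ^ 7 + (77) * w ^ 8 + (582) * w ^ 9 + (550) * w ^ 10 + (155) * w ^ 11 + (-232) * w ^ 12 + (-351) * w ^ 13 + (-199) * w ^ 14 + (44) * w ^ 15 + (188) * w ^ 16 + (163) * w ^ 17 + (36) * w ^ 18 + (-80) * w ^ 19 + (-108) * w ^ 20 + (-55) * w ^ 21 + (20) * w ^ 22 + (60) * w ^ 23 + (48) * w ^ 24 + (7) * w ^ 25 + (-27) * w ^ 26 + (-33) * w ^ 27 + (-15) * w ^ 28 + (8) * w ^ 29 + (19) * w ^ 30 + (14) * w ^ 31 + w ^ 32 + (-9) * w ^ 33 + (-10) * w ^ 34 + (-4) * w ^ 35 + (3) * w ^ 36 + (6) * w ^ 37 + (4) * w ^ 38 + (-3) * w ^ 40 + (-3) * w ^ 41 + (-1) * w ^ 42 + w ^ 43 + (2) * w ^ 44 + w ^ 45 + (-1) * w ^ 47 + (-1) * w ^ 48 + w ^ 51) * hw + ((1233) + (1217) * w + (-911) * w ^ 2 + (-1814) * w ^ 3) * h2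
    · linear_combination ((5485) + (6091) * w + (2407) * w ^ 2 + (-1849) * w ^ 3 + (-3636) * w ^ 4 + (-2455) * w ^ 5 + (48) * w ^ 6 + (1801) * w ^ 7 + (1835) * w ^ 8 + (619) * w ^ 9 + (-667) * w ^ 10 + (-1134) * w ^ 11 + (-701) * w ^ 12 + (82) * w ^ 13 + (585) * w ^ 14 + (549) * w ^ 15 + (152) * w ^ 16 + (-234) * w ^ 17 + (-351) * w ^ 18 + (-198) * w ^ 19 + (46) * w ^ 20 + (188) * w ^ 21 + (163) * w ^ 22 + (35) * w ^ 23 + (-80) * w ^ 24 + (-108) * w ^ 25 + (-55) * w ^ 26 + (20) * w ^ 27 + (60) * w ^ 28 + (48) * w ^ 29 + (7) * w ^ 30 + (-27) * w ^ 31 + (-33) * w ^ 32 + (-15) * w ^ 33 + (8) * w ^ 34 + (19) * w ^ 35 + (14) * w ^ 36 + w ^ 37 + (-9) * w ^ 38 + (-10) * w ^ 39 + (-4) * w ^ 40 + (3) * w ^ 41 + (6) * w ^ 42 + (4) * w ^ 43 + (-3) * w ^ 45 + (-3) * w ^ 46 + (-1) * w ^ 47 + w ^ 48 + (2) * w ^ 49 + w ^ 50 + (-1) * w ^ 52 + (-1) * w ^ 53 + w ^ 56) * hw + ((-2742) + (-5788) * w + (-4249)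 * w ^ 2 + (-279) * w ^ 3) * h2
    · linear_combination ((9091) + (-4875) * w + (-11547) * w ^ 2 + (-8505) * w ^ 3 + (-586) * w ^ 4 + (5461) * w ^ 5 + (6086) * w ^ 6 + (2419) * w ^ 7 + (-1833) * w ^ 8 + (-3628) * w ^ 9 + (-2458) * w ^ 10 + (39) * w ^ 11 + (1794) * w ^ 12 + (1834) * w ^ 13 + (623) * w ^ 14 + (-662) * w ^ 15 + (-1132) * w ^ 16 + (-702) * w ^ 17 + (79) * w ^ 18 + (583) * w ^ 19 + (549) * w ^ 20 + (153) * w ^ 21 + (-232) * w ^ 22 + (-351) * w ^ 23 + (-198) * w ^ 24 + (45) * w ^ 25 + (188) * w ^ 26 + (163) * w ^ 27 + (35) * w ^ 28 + (-80) * w ^ 29 + (-108) * w ^ 30 + (-55) * w ^ 31 + (20) * w ^ 32 + (60) * w ^ 33 + (48) * w ^ 34 + (7) * w ^ 35 + (-27) * w ^ 36 + (-33) * w ^ 37 + (-15) * w ^ 38 + (8) * w ^ 39 + (19) * w ^ 40 + (14) * w ^ 41 + w ^ 42 + (-9) * w ^ 43 + (-10) * w ^ 44 + (-4) * w ^ 45 + (3) * w ^ 46 + (6) * w ^ 47 + (4) * w ^ 48 + (-3) * w ^ 50 + (-3) * w ^ 51 +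 (-1) * w ^ 52 + w ^ 53 + (2) * w ^ 54 + w ^ 55 + (-1) * w ^ 57 + (-1) * w ^ 58 + w ^ 61) * hw + ((-4545) + (-2108) * w + (8211) * w ^ 2 + (10026) * w ^ 3) * h2
    · linear_combination ((-36551) + (-29159) * w + (-4177) * w ^ 2 + (16473) * w ^ 3 + (20078) * w ^ 4 + (9081) * w ^ 5 + (-4904) * w ^ 6 + (-11570) * w ^ 7 + (-8508) * w ^ 8 + (-573) * w ^ 9 + (5477) * w ^ 10 + (6093) * w ^ 11 + (2415) * w ^ 12 + (-1842) * w ^ 13 + (-3635) * w ^ 14 + (-2458) * w ^ 15 + (43) * w ^ 16 + (1799) * w ^ 17 + (1836) * w ^ 18 + (622) * w ^ 19 + (-665) * w ^ 20 + (-1134) * w ^ 21 + (-702) * w ^ 22 + (80) * w ^ 23 + (585) * w ^ 24 + (549) * w ^ 25 + (153) * w ^ 26 + (-233) * w ^ 27 + (-351) * w ^ 28 + (-198) * w ^ 29 + (45) * w ^ 30 + (188) * w ^ 31 + (163) * w ^ 32 + (35) * w ^ 33 + (-80) * w ^ 34 + (-108) * w ^ 35 + (-55) * w ^ 36 + (20) * w ^ 37 + (60) * w ^ 38 + (48) * w ^ 39 + (7) * w ^ 40 + (-27) *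 w ^ 41 + (-33) * w ^ 42 + (-15) * w ^ 43 + (8) * w ^ 44 + (19) * w ^ 45 + (14) * w ^ 46 + w ^ 47 + (-9) * w ^ 48 + (-10) * w ^ 49 + (-4) * w ^ 50 + (3) * w ^ 51 + (6) * w ^ 52 + (4) * w ^ 53 + (-3) * w ^ 55 + (-3) * w ^ 56 + (-1) * w ^ 57 + w ^ 58 + (2) * w ^ 59 + w ^ 60 + (-1) * w ^ 62 + (-1) * w ^ 63 + w ^ 66) * hw + ((18276) + (32855) * w + (16668) * w ^ 2 + (-6148) * w ^ 3) * h2
  have hsurj : ∀ a : F, a = 0 ∨ ∃ k : Fin 15, a = w ^ (k : ℕ) := by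
    intro a
    by_cases ha : a = 0
    · exact Or.inl ha
    · right
      have hinj : Function.Injective fun k : Fin 15 => (Units.mk0 w hw0) ^ (k : ℕ) := by
        intro i j h
        have h' : w ^ (i : ℕ) = w ^ (j : ℕ) := by simpa using congrArg Units.val h
        by_contra hne
        rcases Nat.lt_or_gt_of_ne (fun e : (i : ℕ) = j => hne (Fin.ext e)) with hlt | hlt
        · refine hwne ((j : ℕ) - i) (by omega) (by omega) ?_
          rw [← mul_right_inj' (pow_ne_zero i hw0), ← pow_add, Nat.add_sub_cancel' hlt.le, mul_one, h']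
        · refine hwne ((i : ℕ) - j) (by omega) (by omega) ?_
          rw [← mul_right_inj' (pow_ne_zero j hw0), ← pow_add, Nat.add_sub_cancel' hlt.le, mul_one, h']
      obtain ⟨k, hk⟩ := ((Fintype.bijective_iff_injective_and_card _).mpr ⟨hinj, by
        rw [Fintype.card_fin, Fintype.card_units, hF]⟩).2 (Units.mk0 a ha)
      exact ⟨k, by simpa using (congrArg Units.val hk).symm⟩
  have hdist : ∀ i j : Fin 15, i ≠ j → w ^ (i : ℕ) ≠ w ^ (j : ℕ) := by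
    intro i j hne h'
    rcases Nat.lt_or_gt_of_ne (fun e : (i : ℕ) = j => hne (Fin.ext e)) with hlt | hlt
    · refine hwne ((j : ℕ) - i) (by omega) (by omega) ?_
      rw [← mul_right_inj' (pow_ne_zero i hw0), ← pow_add, Nat.add_sub_cancel' hlt.le, mul_one, h']
    · refine hwne ((i : ℕ) - j) (by omega) (by omega) ?_
      rw [← mul_right_inj' (pow_ne_zero j hw0), ← pow_add, Nat.add_sub_cancel' hlt.le, mul_one, h']
  have hper : ∀ k, w ^ k = w ^ (k % 15) := fun k => by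
    conv_lhs => rw [← Nat.mod_add_div k 15, pow_add, pow_mul, hw15, one_pow, mul_one]
  have hzero : f.eval 0 = 1 := by rw [hev]; ring
  refine mated_of_table hn ((quint_monic _ _ _).map _) ?_ hx (fun a => ?_) ⟨0, 1, by rw [hzero, one_pow]⟩ (fun a => ?_)
  · rw [Polynomial.natDegree_map, quint_natDegree]
  · rcases hsurj a with rfl | ⟨k, rfl⟩
    · rw [hzero]; exact one_ne_zero
    · rw [hval]; exact pow_ne_zero _ hw0
  · rcases hsurj a with rfl | ⟨k, rfl⟩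
    · exact Or.inl ⟨1, by rw [hzero, one_pow]⟩
    · obtain ⟨j, i, hj⟩ : ∃ (j : Fin 15) (i : Fin 3),
          ([0, 4, 8, 6, 1, 0, 12, 11, 2, 3, 0, 13, 9, 14, 7].getD k 0 % 5 = 0) ∨
          (j ≠ k ∧ [0, 4, 8, 6, 1, 0, 12, 11, 2, 3, 0, 13, 9, 14, 7].getD j 0 % 15 =
            ((i : ℕ) * 5 + [0, 4, 8, 6, 1, 0, 12, 11, 2, 3, 0, 13, 9, 14, 7].getD k 0) % 15) := by
        revert k; decide +kernel
      rcases hj with h | ⟨hne, h⟩
      · refine Or.inl ⟨w ^ ([0, 4, 8, 6, 1, 0, 12, 11, 2, 3, 0, 13, 9, 14, 7].getD k 0 / 5), ?_⟩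
        rw [hval, ← pow_mul, Nat.div_mul_cancel (Nat.dvd_of_mod_eq_zero h)]
      · refine Or.inr ⟨w ^ (j : ℕ), w ^ (i : ℕ), hdist j k hne, ?_⟩
        rw [hval, hval, ← pow_mul, ← pow_add, hper, h, ← hper]

end CfsgLib.SingerFive
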