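/-
An equidistributed group is doubly transitive on points.
-/
import Cfsg.Agent.Lib.SingerFive.Flags
import Cfsg.Agent.Lib.SingerFive.SmallFields
import Cfsg.Agent.Lib.SingerFive.LineTwo

set_option autoImplicit false
set_option linter.unusedSectionVars false
set_option linter.style.haveILetI false

namespace CfsgLib.SingerFive

open Module Polynomial

variable {F L : Type*} [Field F] [Field L] [Algebra F L] [Finite L] {M : Subgroup (L ≃ₗ[F] L)}

theorem one_app {R V : Type*} [Semiring R] [AddCommMonoid V] [Module R V] (x : V) : (1 : V ≃ₗ[R] V) x = x := rfl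

/-- There is a line. -/
theorem exists_line (hn : finrank F L = 5) : Nonempty (Sub F L 2) := by
  haveI : FiniteDimensional F L := finiteDim
  let b := Module.finBasisOfFinrankEq F L hn
  refine ⟨line2 (v := b 0) (w := b 1) ?_⟩
  have := b.linearIndependent.comp ![(0 : Fin 5), 1] (by decide)
  rwa [show (![b 0, b 1] : Fin 2 → L) = ⇑b ∘ ![(0 : Fin 5), 1] from funext fun i => by fin_cases i <;> rfl]

/-- Every field has a line without singleton class. -/
theorem exists_mated (hn : finrank F L = 5) : ∃ W : Sub F L 2, Mated W := by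
  haveI := finite_base F L
  haveI : Fintype F := Fintype.ofFinite F
  haveI : FiniteDimensional F L := finiteDim
  obtain ⟨d, hd, hcard⟩ := exists_index (F := F) (L := L) hn
  rcases hd with rfl | ⟨rfl, h5⟩
  · obtain ⟨W⟩ := exists_line (F := F) (L := L) hn
    exact ⟨W, mated_of_subsingleton hcard W⟩
  · by_cases hq : 25 ≤ Nat.card F
    · exact exists_mated_of_large hn hcard hq
    · obtain ⟨p, n, hp, hn0, hpn⟩ := (isPrimePow_nat_iff _).mp (FiniteField.isPrimePow_card F)
      have h2 : 2 ≤ Nat.card F := Finite.one_lt_card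
      rw [← Nat.card_eq_fintype_card] at hpn
      obtain ⟨k, hk⟩ := h5
      have hk4 : k ≤ 4 := by omega
      interval_cases k
      · omega
      · exfalso
        have h6 : p ^ n = 6 := by omega
        have h2' : 2 ∣ p ^ n := by rw [h6]; norm_num
        have h3' : 3 ∣ p ^ n := by rw [h6]; norm_num
        have e2 := (Nat.prime_dvd_prime_iff_eq Nat.prime_two hp).mp (Nat.prime_two.dvd_of_dvd_pow h2')
        have e3 := (Nat.prime_dvd_prime_iff_eq Nat.prime_three hp).mp (Nat.prime_three.dvd_of_dvd_pow h3')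
        omega
      · exact exists_mated_eleven hn (by omega)
      · exact exists_mated_sixteen hn (by omega)
      · exfalso
        have h21 : p ^ n = 21 := by omega
        have h3' : 3 ∣ p ^ n := by rw [h21]; norm_num
        have h7' : 7 ∣ p ^ n := by rw [h21]; norm_num
        have e3 := (Nat.prime_dvd_prime_iff_eq Nat.prime_three hp).mp (Nat.prime_three.dvd_of_dvd_pow h3')
        have h7 : Nat.Prime 7 := by norm_num
        have e7 := (Nat.prime_dvd_prime_iff_eq h7 hp).mp (h7.dvd_of_dvd_pow h7')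
        omega

/-- A root of `X⁵ = c` is an eigenvector of the Frobenius. -/
theorem exists_eigen (hn : finrank F L = 5) (hd : Nat.card (Cls F) = 5) :
    ∃ (β : L) (τ : L ≃ₐ[F] L) (ζ : Fˣ), orderOf ζ = 5 ∧ τ β = (ζ : F) • β ∧ LinearIndependent F ![(1 : L), β] := by
  classical
  haveI := finite_base F L
  haveI : Fintype F := Fintype.ofFinite F
  haveI : Fact (Nat.Prime 5) := ⟨Nat.prime_five⟩
  haveI : FiniteDimensional F L := finiteDim
  obtain ⟨c, hc⟩ : ∃ c : Fˣ, c ∉ (powMonoidHom 5 : Fˣ →* Fˣ).range := by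
    by_contra h
    push Not at h
    have htop : (powMonoidHom 5 : Fˣ →* Fˣ).range = ⊤ := eq_top_iff.mpr fun x _ => h x
    rw [← Subgroup.index_eq_card, htop, Subgroup.index_top] at hd
    norm_num at hd
  have hc' : ∀ b : F, b ^ 5 ≠ c := fun b hb => by
    have hb0 : b ≠ 0 := fun h => c.ne_zero (by rw [← hb, h, zero_pow (by norm_num)])
    exact hc ⟨Units.mk0 b hb0, Units.ext (by simpa using hb)⟩
  have hirr := X_pow_sub_C_irreducible_of_prime Nat.prime_five hc'
  haveI := Fact.mk hirr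
  haveI : FiniteDimensional F (AdjoinRoot (X ^ 5 - C (c : F))) := (AdjoinRoot.powerBasis hirr.ne_zero).finite
  have hK : finrank F (AdjoinRoot (X ^ 5 - C (c : F))) = 5 := by
    rw [(AdjoinRoot.powerBasis hirr.ne_zero).finrank, AdjoinRoot.powerBasis_dim, natDegree_X_pow_sub_C]
  obtain ⟨φ⟩ := FiniteField.nonempty_algHom_of_finrank_dvd (F := F) (K := AdjoinRoot (X ^ 5 - C (c : F))) (L := L)
    (by rw [hK, hn])
  set β := φ (AdjoinRoot.root _) with hβ
  have hβ5 : β ^ 5 = algebraMap F L c := by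
    have h0 : aeval (AdjoinRoot.root (X ^ 5 - C (c : F))) (X ^ 5 - C (c : F)) = 0 := by
      rw [AdjoinRoot.aeval_eq, AdjoinRoot.mk_self]
    have := congrArg φ h0
    rw [← Polynomial.aeval_algHom_apply, map_zero, ← hβ, map_sub, map_pow, aeval_X, aeval_C] at this
    exact sub_eq_zero.mp this
  have hβ0 : β ≠ 0 := fun h => by
    rw [h, zero_pow (by norm_num)] at hβ5
    exact c.ne_zero ((map_eq_zero _).mp hβ5.symm)
  have hβr : β ∉ Set.range (algebraMap F L) := fun ⟨b, hb⟩ =>
    hc' b ((algebraMap F L).injective (by rw [map_pow, hb, hβ5]))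
  obtain ⟨τ, hτ⟩ := exists_aut_ne_one (F := F) (L := L) hn
  have hne : τ β ≠ β := fun h => hβr (IsGalois.mem_range_algebraMap_iff_fixed β |>.mpr fun σ => by
    obtain ⟨i, -, rfl⟩ := aut_eq_pow hn hτ σ
    induction i with
    | zero => rfl
    | succ i ih => rw [pow_succ, AlgEquiv.mul_apply, h, ih])
  -- all fifth roots of unity lie in the base field
  have hroots : Nat.card (rootsOfUnity 5 F) = 5 := by
    have h1 := (powMonoidHom 5 : Fˣ →* Fˣ).ker.card_mul_index
    rw [Subgroup.index_ker, ← (powMonoidHom 5 : Fˣ →* Fˣ).range.card_mul_index, Subgroup.index_eq_card, hd,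
      mul_comm (Nat.card (powMonoidHom 5 : Fˣ →* Fˣ).range)] at h1
    have h2 : (powMonoidHom 5 : Fˣ →* Fˣ).ker = rootsOfUnity 5 F := Subgroup.ext fun c => by
      simp [MonoidHom.mem_ker, mem_rootsOfUnity]
    rw [h2] at h1
    exact Nat.eq_of_mul_eq_mul_right Nat.card_pos h1
  have hinj : Function.Injective (fun e : rootsOfUnity 5 F => (⟨Units.map (algebraMap F L : F →* L) e, by
      rw [mem_rootsOfUnity, ← map_pow, (mem_rootsOfUnity _ _).mp e.2, map_one]⟩ : rootsOfUnity 5 L)) := fun a b h =>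
    Subtype.ext (Units.ext ((algebraMap F L).injective (congrArg (fun x : rootsOfUnity 5 L => ((x : Lˣ) : L)) h)))
  have hsurj := (Nat.bijective_iff_injective_and_card _).mpr ⟨hinj, le_antisymm (Nat.card_le_card_of_injective _ hinj)
    (by rw [hroots]; exact card_rootsOfUnity L 5)⟩
  obtain ⟨⟨e, he⟩, he'⟩ := hsurj.2 ⟨Units.mk0 (τ β / β) (div_ne_zero (τ.map_ne_zero_iff.mpr hβ0) hβ0), by
    rw [mem_rootsOfUnity]
    refine Units.ext ?_
    rw [Units.val_pow_eq_pow_val, Units.val_mk0, Units.val_one, div_pow, ← map_pow, hβ5, AlgEquiv.commutes,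
      div_self ((_root_.map_ne_zero _).mpr c.ne_zero)]⟩
  have he'' : algebraMap F L (e : F) = τ β / β := congrArg (fun x : rootsOfUnity 5 L => ((x : Lˣ) : L)) he'
  refine ⟨β, τ, e, orderOf_eq_prime ((mem_rootsOfUnity _ _).mp he) (fun h1 => hne ?_), ?_, ?_⟩
  · rw [h1, Units.val_one, map_one, eq_div_iff hβ0, one_mul] at he''
    exact he''.symm
  · rw [Algebra.smul_def, he'', div_mul_cancel₀ _ hβ0]
  · rw [LinearIndependent.pair_iff' one_ne_zero]
    exact fun a ha => hβr ⟨a, by rw [Algebra.algebraMap_eq_smul_one]; exact ha⟩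

/-- The number of lines divides the order. -/
theorem Over.card_lines_dvd {O : Over M} (hE : Equidistributed O) (hq : 3 ≤ Nat.card F) :
    Nat.card (Sub F L 2) ∣ Nat.card M := by
  obtain ⟨W₀, -⟩ := exists_mated (F := F) (L := L) O.finrank
  have horb : MulAction.orbit M W₀ = Set.univ := Set.eq_univ_of_forall fun W => by
    obtain ⟨g, hg, h⟩ := O.lines_transitive hE hq (fun W => ∃ g ∈ M, (g : L ≃ₗ[F] L) • W₀ = W)
      (fun g hg W ⟨h, hh, e⟩ => ⟨g * h, mul_mem hg hh, by rw [mul_smul, e]⟩) (W₀ := W₀) ⟨1, one_mem M, one_smul _ _⟩ W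
    exact ⟨⟨g, hg⟩, h⟩
  rw [← Nat.card_congr (Equiv.Set.univ _), ← horb, Nat.card_congr (MulAction.orbitEquivQuotientStabilizer M W₀)]
  exact Subgroup.card_quotient_dvd_card _

/-- An equidistributed group is doubly transitive on points. -/
theorem Over.pairs_transitive {O : Over M} (hE : Equidistributed O) (hq : 3 ≤ Nat.card F)
    (P Q P' Q' : Sub F L 1) (hne : P ≠ Q) (hne' : P' ≠ Q') :
    ∃ g ∈ M, (g : L ≃ₗ[F] L) • P = P' ∧ (g : L ≃ₗ[F] L) • Q = Q' := by
  classical
  haveI := finite_base F L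
  have hn := O.finrank
  obtain ⟨d, hd, hcls⟩ := exists_index (F := F) (L := L) hn
  rcases hd with rfl | ⟨rfl, -⟩
  · -- one class
    haveI : Subsingleton (Cls F) := (Nat.card_eq_one_iff_unique.mp hcls).1
    have htr : ∀ A B : Sub F L 1, A ≠ B → ∃ t ∈ normOne F L, (t : L) ∉ Set.range (algebraMap F L) ∧
        (mulE t : L ≃ₗ[F] L) • A = B := by
      intro A B hAB
      obtain ⟨x, hx, rfl⟩ := exists_pt A
      obtain ⟨y, hy, rfl⟩ := exists_pt B
      obtain ⟨t, ht, htn, hmem⟩ := exists_tor_of_ncls hn (x := Units.mk0 x hx) (y := Units.mk0 y hy)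
        (indep_of_ne hx hy hAB) (Subsingleton.elim _ _)
      refine ⟨t, ht, htn, ?_⟩
      rw [mulE_pt]
      refine Subtype.ext (Submodule.eq_of_le_of_finrank_le ?_ (by rw [(pt y hy : Sub F L 1).2, (pt _ _ : Sub F L 1).2]))
      exact (pt_le_iff _ _).mpr (hmem (F ∙ y) (Submodule.mem_span_singleton_self y))
    let S : Sub F L 1 → Sub F L 1 → Prop := fun A B => ∃ g ∈ M, (g : L ≃ₗ[F] L) • P = A ∧ (g : L ≃ₗ[F] L) • Q = B
    have hS : ∀ g ∈ M, ∀ A B, S A B → S (g • A) (g • B) := fun g hg A B ⟨h, hh, e1, e2⟩ =>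
      ⟨g * h, mul_mem hg hh, by rw [mul_smul, e1], by rw [mul_smul, e2]⟩
    obtain ⟨t, ht, htn, hPQ⟩ := htr P Q hne
    obtain ⟨t', ht', htn', hPQ'⟩ := htr P' Q' hne'
    have hcount := hE S hS t t' ht ht' htn htn'
    have hpos : 0 < Nat.card {A : Sub F L 1 // S A ((mulE t : L ≃ₗ[F] L) • A)} :=
      Nat.card_pos_iff.mpr ⟨⟨⟨P, 1, one_mem M, one_smul _ _, by rw [one_smul, hPQ]⟩⟩, inferInstance⟩
    rw [hcount] at hpos
    obtain ⟨A, hA⟩ := (Nat.card_pos_iff.mp hpos).1.some
    by_cases hAP : A = P'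
    · obtain ⟨g, hg, e1, e2⟩ := hA
      exact ⟨g, hg, e1.trans hAP, by rw [e2, hAP, hPQ']⟩
    · obtain ⟨u, hu, -, hAu⟩ := htr A P' hAP
      obtain ⟨g, hg, e1, e2⟩ := hS _ (O.mul u (mem_normOne.mp hu)) _ _ hA
      refine ⟨g, hg, e1.trans hAu, e2.trans ?_⟩
      rw [← hPQ', ← hAu, ← mul_smul, ← mul_smul, ← map_mul, ← map_mul, mul_comm]
  · -- five classes: reduce to one line
    obtain ⟨W₀, hW₀⟩ := exists_mated (F := F) (L := L) hn
    obtain ⟨β, τ, ζ, hζ, hτβ, hli⟩ := exists_eigen hn hcls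
    set W := line2 hli with hW
    let l : (Fin 2 → F) →ₗ[F] L := Fintype.linearCombination F ![(1 : L), β]
    have hl : ∀ v, l v = v 0 • (1 : L) + v 1 • β := fun v => by
      simp [l, Fintype.linearCombination_apply, Fin.sum_univ_two]
    have hlinj : Function.Injective l := by
      rw [← LinearMap.ker_eq_bot, LinearMap.ker_eq_bot']
      intro v hv
      rw [hl] at hv
      obtain ⟨h0, h1⟩ := LinearIndependent.pair_iff.mp hli _ _ hv
      exact funext fun i => by fin_cases i <;> assumption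
    have hlmem : ∀ v, l v ∈ W.1 := fun v => by
      rw [hl]
      exact W.1.add_mem (W.1.smul_mem _ (Submodule.subset_span (by simp))) (W.1.smul_mem _ (Submodule.subset_span (by simp)))
    have hlsurj : ∀ x ∈ W.1, ∃ v, l v = x := fun x hx => by
      obtain ⟨a, b, rfl⟩ := Submodule.mem_span_pair.mp hx
      exact ⟨![a, b], by simp [hl]⟩
    let A : Subgroup ((Fin 2 → F) ≃ₗ[F] (Fin 2 → F)) :=
      { carrier := {a | ∃ g ∈ M, ∀ v, g (l v) = l (a v)}
        one_mem' := ⟨1, one_mem M, fun v => rfl⟩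
        mul_mem' := by
          rintro a b ⟨g, hg, hga⟩ ⟨h, hh, hhb⟩
          exact ⟨g * h, mul_mem hg hh, fun v => by rw [LinearEquiv.mul_apply, hhb, hga]; rfl⟩
        inv_mem' := by
          rintro a ⟨g, hg, hga⟩
          refine ⟨g⁻¹, inv_mem hg, fun v => ?_⟩
          have := hga (a⁻¹ v)
          rw [← LinearEquiv.mul_apply a, mul_inv_cancel, one_app] at this
          rw [← this, ← LinearEquiv.mul_apply, inv_mul_cancel, one_app] }
    -- points of the line
    let ι : Sub F (Fin 2 → F) 1 → Sub F L 1 := fun R =>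
      ⟨R.1.map l, (Submodule.equivMapOfInjective l hlinj R.1).finrank_eq.symm.trans R.2⟩
    have hιW : ∀ R, (ι R).1 ≤ W.1 := fun R x hx => by
      obtain ⟨v, -, rfl⟩ := hx
      exact hlmem v
    have hιinj : Function.Injective ι := fun R R' h =>
      Subtype.ext (Submodule.map_injective_of_injective hlinj (congrArg Subtype.val h))
    have hιsurj : ∀ B : Sub F L 1, B.1 ≤ W.1 → ∃ R, ι R = B := fun B hB => by
      obtain ⟨x, hx, rfl⟩ := exists_pt B
      obtain ⟨v, rfl⟩ := hlsurj x ((pt_le_iff hx W).mp hB)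
      refine ⟨pt v (fun h => hx (by rw [h, map_zero])), Subtype.ext ?_⟩
      exact (Submodule.map_span l {v}).trans (by rw [Set.image_singleton]; rfl)
    have hmove : ∀ (g : L ≃ₗ[F] L) (a : (Fin 2 → F) ≃ₗ[F] (Fin 2 → F)), (∀ v, g (l v) = l (a v)) →
        ∀ R, g • ι R = ι (a • R) := by
      intro g a hga R
      refine Subtype.ext ?_
      show (R.1.map l).map (g : L →ₗ[F] L) = (R.1.map (a : _ →ₗ[F] _)).map l
      rw [← Submodule.map_comp, ← Submodule.map_comp]
      exact congrArg (fun k => R.1.map k) (LinearMap.ext fun v => hga v)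
    have hstab : ∀ g ∈ M, (g : L ≃ₗ[F] L) • W = W → ∃ a ∈ A, ∀ v, (g : L ≃ₗ[F] L) (l v) = l (a v) := by
      intro g hg hgW
      have hgmem : ∀ v, ∃ w, l w = g (l v) := fun v => hlsurj _ (by
        have := mem_sub_smul g W (hlmem v)
        rwa [hgW] at this)
      choose f hf using hgmem
      let fl : (Fin 2 → F) →ₗ[F] (Fin 2 → F) :=
        { toFun := f
          map_add' := fun a b => hlinj (by rw [map_add, hf, hf, hf, map_add, map_add])
          map_smul' := fun c a => hlinj (by rw [RingHom.id_apply, map_smul, hf, hf, map_smul, map_smul]) }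
      have hfi : Function.Injective fl := fun a b h => hlinj (g.injective (by
        rw [← hf, ← hf]; exact congrArg l h))
      exact ⟨LinearEquiv.ofInjectiveEndo fl hfi, ⟨g, hg, fun v => (hf v).symm⟩, fun v => (hf v).symm⟩
    have hline : ∀ U : Sub F L 2, ∃ g ∈ M, (g : L ≃ₗ[F] L) • U = W :=
      O.lines_transitive hE hq (fun U => ∃ g ∈ M, (g : L ≃ₗ[F] L) • U = W)
        (fun h hh U ⟨g, hg, e⟩ => ⟨g * h⁻¹, mul_mem hg (inv_mem hh), by rw [mul_smul, inv_smul_smul, e]⟩)
        (W₀ := W) ⟨1, one_mem M, one_smul _ _⟩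
    have htrans : ∀ R : Sub F (Fin 2 → F) 1, ∃ a ∈ A, (a : (Fin 2 → F) ≃ₗ[F] (Fin 2 → F)) • org = R := by
      intro R
      obtain ⟨g, hg, e1, e2⟩ := O.flags_transitive hE hq hW₀
        (fun B U => ∃ g ∈ M, (g : L ≃ₗ[F] L) • U = W ∧ (g : L ≃ₗ[F] L) • B = ι R)
        (fun h hh B U ⟨g, hg, e1, e2⟩ => ⟨g * h⁻¹, mul_mem hg (inv_mem hh), by rw [mul_smul, inv_smul_smul, e1],
          by rw [mul_smul, inv_smul_smul, e2]⟩)
        (hιW R) ⟨1, one_mem M, one_smul _ _, one_smul _ _⟩ (ι org) W (hιW org)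
      obtain ⟨a, ha, hga⟩ := hstab g hg e1
      exact ⟨a, ha, hιinj (by rw [← hmove _ _ hga, e2])⟩
    have hσ : sgm ζ ∈ A := ⟨autE τ, O.aut τ, fun v => by
      rw [autE_apply, hl, hl, map_add, map_smul, map_smul, map_one, hτβ, sgm_apply_zero, sgm_apply_one, smul_smul, mul_comm]⟩
    have hinv : Nat.card F = 11 → ∃ i ∈ A, i * i = 1 ∧ i ≠ 1 ∧ i ≠ scal (-1) ∧
        ∃ R : Sub F (Fin 2 → F) 1, (i : (Fin 2 → F) ≃ₗ[F] (Fin 2 → F)) • R = R := by
      intro hF
      have h2dvd : 2 ∣ Nat.card M := by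
        refine dvd_trans ?_ (O.card_lines_dvd hE hq)
        rw [card_lines_eq hn, hF]
        exact dvd_mul_of_dvd_right (by norm_num) _
      haveI : Fact (Nat.Prime 2) := ⟨Nat.prime_two⟩
      obtain ⟨g, hg⟩ := exists_prime_orderOf_dvd_card' 2 h2dvd
      have hgg : ∀ x, (g : L ≃ₗ[F] L) ((g : L ≃ₗ[F] L) x) = x := fun x => by
        rw [← LinearEquiv.mul_apply, ← pow_two, ← SubmonoidClass.coe_pow, ← hg, pow_orderOf_eq_one]
        rfl
      have h2 : (2 : F) ≠ 0 := by
        haveI : Fintype F := Fintype.ofFinite F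
        haveI : Fact (Nat.Prime 11) := ⟨by norm_num⟩
        haveI : CharP F 11 := charP_of_card_eq_prime (by rw [← Nat.card_eq_fintype_card]; exact hF)
        intro h
        have h' : ((2 : ℕ) : F) = 0 := by exact_mod_cast h
        exact absurd ((CharP.cast_eq_zero_iff F 11 2).mp h') (by norm_num)
      obtain ⟨u, hu⟩ : ∃ x, x + (g : L ≃ₗ[F] L) x ≠ 0 := by
        by_contra hall
        push Not at hall
        have hm : (g : L ≃ₗ[F] L).toLinearMap = (-1 : F) • LinearMap.id := LinearMap.ext fun x => by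
          rw [LinearMap.smul_apply, LinearMap.id_apply, neg_one_smul]
          exact eq_neg_of_add_eq_zero_right (hall x)
        have hdet := O.det g g.2
        rw [hm, LinearMap.det_smul, LinearMap.det_id, hn, mul_one] at hdet
        exact h2 (by linear_combination -hdet)
      obtain ⟨w, hw⟩ : ∃ x, x - (g : L ≃ₗ[F] L) x ≠ 0 := by
        by_contra hall
        push Not at hall
        have : g = 1 := Subtype.ext (LinearEquiv.ext fun x => (sub_eq_zero.mp (hall x)).symm)
        rw [this, orderOf_one] at hg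
        norm_num at hg
      set u' := u + (g : L ≃ₗ[F] L) u with hu'
      set w' := w - (g : L ≃ₗ[F] L) w with hw'
      have gu : (g : L ≃ₗ[F] L) u' = u' := by rw [hu', map_add, hgg, add_comm]
      have gw : (g : L ≃ₗ[F] L) w' = -w' := by rw [hw', map_sub, hgg, neg_sub]
      have huw : (pt u' hu : Sub F L 1) ≠ pt w' hw := fun h => by
        obtain ⟨c, hc, he⟩ := pt_eq_pt hu hw h
        have h' := congrArg (g : L ≃ₗ[F] L) he
        rw [map_smul, gu, gw, ← he, neg_eq_iff_add_eq_zero, ← two_smul F, smul_eq_zero] at h'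
        exact h'.elim h2 hw
      obtain ⟨k, hk, hkU⟩ := hline (line2 (indep_of_ne hu hw huw))
      have hkmem : ∀ x ∈ (line2 (indep_of_ne hu hw huw)).1, k x ∈ W.1 := fun x hx => by
        have := mem_sub_smul k _ hx
        rwa [hkU] at this
      obtain ⟨v₁, hv₁⟩ := hlsurj _ (hkmem u' (Submodule.subset_span (by simp)))
      obtain ⟨v₂, hv₂⟩ := hlsurj _ (hkmem w' (Submodule.subset_span (by simp)))
      have hfix : (k * g * k⁻¹ : L ≃ₗ[F] L) • W = W := by
        rw [mul_smul, mul_smul, ← hkU, inv_smul_smul]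
        congr 1
        refine Subtype.ext (le_antisymm ?_ ?_)
        · rw [sub_smul_val]
          refine Submodule.map_le_iff_le_comap.mpr (Submodule.span_le.mpr ?_)
          rintro x (rfl | rfl)
          · rw [SetLike.mem_coe, Submodule.mem_comap]
            show (g : L ≃ₗ[F] L) u' ∈ _
            rw [gu]
            exact Submodule.subset_span (by simp)
          · rw [SetLike.mem_coe, Submodule.mem_comap]
            show (g : L ≃ₗ[F] L) w' ∈ _
            rw [gw]
            exact Submodule.neg_mem _ (Submodule.subset_span (by simp))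
        · rintro x hx
          refine ⟨(g : L ≃ₗ[F] L) x, ?_, hgg x⟩
          obtain ⟨a, b, rfl⟩ := Submodule.mem_span_pair.mp hx
          rw [map_add, map_smul, map_smul, gu, gw]
          exact Submodule.add_mem _ (Submodule.smul_mem _ _ (Submodule.subset_span (by simp)))
            (Submodule.smul_mem _ _ (Submodule.neg_mem _ (Submodule.subset_span (by simp))))
      obtain ⟨a, haA, hga⟩ := hstab _ (mul_mem (mul_mem hk g.2) (inv_mem hk)) hfix
      have hcl : ∀ v, l (a v) = k ((g : L ≃ₗ[F] L) (k⁻¹ (l v))) := fun v => (hga v).symm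
      have ha1 : a v₁ = v₁ := hlinj (by
        rw [hcl, hv₁, ← LinearEquiv.mul_apply k⁻¹, inv_mul_cancel, one_app, gu])
      have ha2 : a v₂ = -v₂ := hlinj (by
        rw [hcl, map_neg, hv₂, ← LinearEquiv.mul_apply k⁻¹, inv_mul_cancel, one_app, gw, map_neg])
      have hv₁0 : v₁ ≠ 0 := fun h => hu (k.map_eq_zero_iff.mp (by rw [← hv₁, h, map_zero]))
      have hv₂0 : v₂ ≠ 0 := fun h => hw (k.map_eq_zero_iff.mp (by rw [← hv₂, h, map_zero]))
      refine ⟨a, haA, ?_, ?_, ?_, pt v₁ hv₁0, ?_⟩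
      · refine LinearEquiv.ext fun v => hlinj ?_
        rw [LinearEquiv.mul_apply, hcl, hcl, ← LinearEquiv.mul_apply k⁻¹, inv_mul_cancel, one_app, hgg,
          ← LinearEquiv.mul_apply k, mul_inv_cancel, one_app]
        rfl
      · intro h
        rw [h, one_app, eq_neg_iff_add_eq_zero, ← two_smul F, smul_eq_zero] at ha2
        exact ha2.elim h2 hv₂0
      · intro h
        rw [h, scal_apply, Units.val_neg, Units.val_one, neg_one_smul, neg_eq_iff_add_eq_zero, ← two_smul F, smul_eq_zero] at ha1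
        exact ha1.elim h2 hv₁0
      · rw [smul_pt]
        exact mem_pt _ _ (c := 1) (by rw [one_smul]; exact ha1)
    have h2t := two_trans A htrans ζ hζ hσ hinv
    -- pairs on the line
    have hpairW : ∀ B C : Sub F L 1, B ≠ C → ∃ g ∈ M, ∃ R R', R ≠ R' ∧ (g : L ≃ₗ[F] L) • B = ι R ∧ (g : L ≃ₗ[F] L) • C = ι R' := by
      intro B C hBC
      obtain ⟨U, ⟨hB, hC⟩, -⟩ := existsUnique_line B C hBC
      obtain ⟨g, hg, hgU⟩ := hline U
      obtain ⟨R, hR⟩ := hιsurj (g • B) (hgU ▸ Submodule.map_mono hB)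
      obtain ⟨R', hR'⟩ := hιsurj (g • C) (hgU ▸ Submodule.map_mono hC)
      refine ⟨g, hg, R, R', fun h => hBC (MulAction.injective g ?_), hR.symm, hR'.symm⟩
      show g • B = g • C
      rw [← hR, ← hR', h]
    obtain ⟨g₁, hg₁, R₁, R₁', hR₁, e1, e1'⟩ := hpairW P Q hne
    obtain ⟨g₂, hg₂, R₂, R₂', hR₂, e2, e2'⟩ := hpairW P' Q' hne'
    obtain ⟨a, ha, f1, f2⟩ := h2t R₁ R₁' R₂ R₂' hR₁ hR₂
    obtain ⟨g, hg, hga'⟩ := ha
    have hga := hmove g a hga'
    refine ⟨g₂⁻¹ * g * g₁, mul_mem (mul_mem (inv_mem hg₂) hg) hg₁, ?_, ?_⟩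
    · rw [mul_smul, mul_smul, e1, hga, f1, ← e2, inv_smul_smul]
    · rw [mul_smul, mul_smul, e1', hga, f2, ← e2', inv_smul_smul]

end CfsgLib.SingerFive
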