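/-
Overgroups of the Singer normaliser in dimension five.
-/
import Cfsg.Agent.Lib.SingerFive.Pairs
import Cfsg.Agent.Lib.SingerFive.AllTransv
import Cfsg.Agent.Lib.SingerFive.Exist
import Cfsg.Agent.Lib.Perm.PrimeDegree

set_option autoImplicit false
set_option linter.unusedSectionVars false
set_option linter.style.haveILetI false

namespace CfsgLib.SingerFive

open Module
open CfsgLib.MaxSub.ExtLin (TIn)

variable {F L : Type*} [Field F] [Field L] [Algebra F L] [Finite L] {M : Subgroup (L ≃ₗ[F] L)}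

/-- The binary case by Burnside's theorem. -/
theorem Over.semi_or_pairs_two (O : Over M) (hq : Nat.card F = 2) : (∀ g ∈ M, IsSemi g) ∨ PairTrans M := by
  classical
  haveI := finite_base F L
  haveI : Fintype F := Fintype.ofFinite F
  haveI : Fact (Nat.Prime 31) := ⟨by norm_num⟩
  have hone : ∀ c : F, c ≠ 0 → c = 1 := fun c hc => by
    haveI : Subsingleton Fˣ := (Nat.card_eq_one_iff_unique.mp (by rw [Nat.card_units, hq] : Nat.card Fˣ = 1)).1
    exact congrArg Units.val (Subsingleton.elim (Units.mk0 c hc) 1)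
  have hmul : ∀ u : Lˣ, (mulE u : L ≃ₗ[F] L) ∈ M := fun u => O.mul u (hone _ (by
    haveI : FiniteDimensional F L := finiteDim
    exact Algebra.norm_ne_zero_iff.mpr u.ne_zero))
  haveI : MulAction.IsPretransitive M (Sub F L 1) := ⟨fun P Q => by
    obtain ⟨a, ha, rfl⟩ := exists_pt P
    obtain ⟨b, hb, rfl⟩ := exists_pt Q
    refine ⟨⟨_, hmul (Units.mk0 (b / a) (div_ne_zero hb ha))⟩, ?_⟩
    show (mulE _ : L ≃ₗ[F] L) • (pt a ha : Sub F L 1) = _
    rw [mulE_pt]
    exact Subtype.ext (by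
      show F ∙ (((Units.mk0 (b / a) _ : Lˣ) : L) * a) = F ∙ b
      rw [Units.val_mk0, div_mul_cancel₀ _ ha])⟩
  have hα : Nat.card (Sub F L 1) = 31 := by rw [card_pts_eq O.finrank, hq]; norm_num
  by_cases h2 : MulAction.IsMultiplyPretransitive M (Sub F L 1) 2
  · refine Or.inr fun P Q P' Q' hne hne' => ?_
    obtain ⟨g, e1, e2⟩ := (MulAction.is_two_pretransitive_iff.mp h2) hne hne'
    exact ⟨g, g.2, e1, e2⟩
  refine Or.inl fun g hg => ?_
  obtain ⟨e, he⟩ := CfsgLib.PrimeDegree.affine_coordinates (p := 31) hα h2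
  obtain ⟨u, hu⟩ : ∃ u : Lˣ, (u : L) ∉ Set.range (algebraMap F L) := by
    by_contra h
    push Not at h
    have h1 : Nat.card (Sub F L 1) ≤ 1 := Finite.card_le_one_iff_subsingleton.mpr ⟨fun P Q => by
      obtain ⟨a, ha, rfl⟩ := exists_pt P
      obtain ⟨b, hb, rfl⟩ := exists_pt Q
      obtain ⟨c, hc⟩ := h (Units.mk0 (b / a) (div_ne_zero hb ha))
      rw [Units.val_mk0, eq_div_iff ha] at hc
      refine Subtype.ext ?_
      show F ∙ a = F ∙ b
      have hc0 : c ≠ 0 := fun h0 => hb (by rw [← hc, h0, map_zero, zero_mul])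
      rw [← hc, ← Algebra.smul_def, Submodule.span_singleton_smul_eq hc0.isUnit]⟩
    omega
  let t : M := ⟨mulE u, hmul u⟩
  obtain ⟨a, b, hab⟩ := he t
  have hpow : ∀ (k : ℕ) (x : ZMod 31), t ^ k • e x = e (a ^ k * x + (∑ i ∈ Finset.range k, a ^ i) * b) := by
    intro k
    induction k with
    | zero => intro x; simp
    | succ k ih =>
      intro x
      rw [pow_succ', mul_smul, ih, hab, geom_sum_succ]
      congr 1
      ring
  have hu31 : u ^ 31 = 1 := by
    have h31 : Nat.card Lˣ = 31 := by rw [card_units_L O.finrank, hq]; norm_num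
    rw [← h31, pow_card_eq_one']
  have ht31 : t ^ 31 = 1 := Subtype.ext (by
    rw [SubmonoidClass.coe_pow]
    show (mulE u : L ≃ₗ[F] L) ^ 31 = 1
    rw [← map_pow, hu31, map_one])
  have ha : a = 1 := by
    have h0 := hpow 31 0
    have h1 := hpow 31 1
    rw [ht31, one_smul] at h0 h1
    have e0 := e.injective h0
    have e1 := e.injective h1
    rw [ZMod.pow_card] at e0 e1
    linear_combination e0 - e1
  have hb : b ≠ 0 := fun hb => by
    refine hu (mem_range_of_fix (P := e 0) ?_)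
    have := hab 0
    rw [mul_zero, zero_add, hb] at this
    exact this
  have hpow' : ∀ (k : ℕ) (x : ZMod 31), t ^ k • e x = e (x + k * b) := fun k x => by
    rw [hpow, ha, one_pow, one_mul]; simp
  obtain ⟨a', b', hg'⟩ := he ⟨g, hg⟩
  have hkey : onPts M (⟨g, hg⟩ * t) = onPts M (t ^ a'.val * ⟨g, hg⟩) := Equiv.ext fun P => by
    obtain ⟨x, rfl⟩ := e.surjective P
    show (⟨g, hg⟩ * t : M) • e x = (t ^ a'.val * ⟨g, hg⟩ : M) • e x
    rw [mul_smul, mul_smul, hab, hg', hg', hpow', ha, ZMod.natCast_zmod_val]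
    congr 1
    ring
  obtain ⟨c, hc, hgc⟩ := exists_smul_of_onPts_eq hkey
  refine semi_of_intertwine O.finrank g hu (u' := ((u ^ a'.val : Lˣ) : L)) fun x => ?_
  have := hgc x
  rw [hone c hc, one_smul] at this
  refine this.trans ?_
  show ((t ^ a'.val : M) : L ≃ₗ[F] L) (g x) = _
  rw [SubmonoidClass.coe_pow, show ((t : M) : L ≃ₗ[F] L) = mulE u from rfl, ← map_pow, mulE_apply]

/-- An overgroup of the Singer normaliser is semilinear or contains all transvections. -/
theorem Over.semi_or_all (O : Over M) :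
    (∀ g ∈ M, IsSemi g) ∨ ∀ (u : L) (φ : Dual F L), φ u = 0 → TIn M u φ := by
  haveI := finite_base F L
  have hq : 2 ≤ Nat.card F := Finite.one_lt_card
  have hpairs : (∀ g ∈ M, IsSemi g) ∨ PairTrans M := by
    by_cases h3 : 3 ≤ Nat.card F
    · exact (O.semi_or_equidistributed h3).imp id fun hE P Q P' Q' hne hne' => O.pairs_transitive hE h3 P Q P' Q' hne hne'
    · exact O.semi_or_pairs_two (by omega)
  refine hpairs.imp id fun h2 u φ hφ => ?_
  obtain ⟨u₀, φ₀, hu₀, hφ₀, h0, hT⟩ := exists_transvection h2 O.finrank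
  exact all_transvections h2 O.finrank hu₀ hφ₀ h0 hT u φ hφ

end CfsgLib.SingerFive
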