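/-
The normaliser of a quintic field subalgebra is maximal in the special linear group.
-/
import Cfsg.Agent.Lib.SingerFive.Main
import Cfsg.Agent.Lib.MaxSub.ExtLin.Main

set_option autoImplicit false
set_option linter.unusedSectionVars false
set_option linter.style.haveILetI false

namespace CfsgLib.SingerFive

open Module
open CfsgLib.MaxSub.ExtLin (gmap gmap_apply gmap_det TIn)

variable {F : Type*} [Field F] [Fintype F]

/-- Singer normalisers in dimension five are maximal. -/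
theorem sl_singer_five_maximal (K : Subalgebra F (Matrix (Fin 5) (Fin 5) F)) (hK : Cfsg.Geo.IsFieldSubalgebra 5 K) :
    Cfsg.Geo.IsMaximalIn (Cfsg.Geo.specialLinear (Fin 5) F)
      (Cfsg.Geo.subalgebraNormalizer K ⊓ Cfsg.Geo.specialLinear (Fin 5) F) := by
  classical
  have hnot : ¬ Cfsg.Geo.specialLinear (Fin 5) F ≤ Cfsg.Geo.subalgebraNormalizer K :=
    CfsgLib.Aschbacher.not_le_subalgebraNormalizer hK (by norm_num) (by simp)
  refine ⟨lt_of_le_of_ne inf_le_right fun e => hnot (e ▸ inf_le_left), fun G hG hGS => ?_⟩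
  by_cases hGN : G ≤ Cfsg.Geo.subalgebraNormalizer K
  · exact Or.inl (le_antisymm (le_inf hGN hGS) hG)
  refine Or.inr (le_antisymm hGS ?_)
  letI : Field ↥K := (CfsgLib.MaxSub.Elusive.isField_of_fieldSubalgebra hK (by norm_num)).toField
  haveI : Finite ↥K := Finite.of_injective _ Subtype.val_injective
  obtain ⟨φ, hφ⟩ := CfsgLib.MaxSub.Elusive.exists_coord hK (v := Pi.single 0 1) (by simp)
  have hn : finrank F ↥K = 5 := hK.finrank_eq
  let conj : ((Fin 5 → F) ≃ₗ[F] (Fin 5 → F)) ≃* (↥K ≃ₗ[F] ↥K) :=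
    { toFun := fun f => φ.trans (f.trans φ.symm)
      invFun := fun f => φ.symm.trans (f.trans φ)
      left_inv := fun f => LinearEquiv.ext fun x => by simp
      right_inv := fun f => LinearEquiv.ext fun x => by simp
      map_mul' := fun f g => LinearEquiv.ext fun x => by simp }
  let Φ : GL (Fin 5) F ≃* (↥K ≃ₗ[F] ↥K) := gmap.trans conj
  have hdet : ∀ g, LinearMap.det ((Φ g : ↥K ≃ₗ[F] ↥K) : ↥K →ₗ[F] ↥K) = (g : Matrix (Fin 5) (Fin 5) F).det := fun g => by
    rw [← gmap_det, ← LinearMap.det_conj ((gmap g : _ ≃ₗ[F] _) : (Fin 5 → F) →ₗ[F] (Fin 5 → F)) φ.symm]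
    rfl
  have hΦ : ∀ g x, φ (Φ g x) = (g : Matrix (Fin 5) (Fin 5) F).mulVec (φ x) := fun g x => by
    show φ (φ.symm (gmap g (φ x))) = _
    rw [φ.apply_symm_apply, gmap_apply]
  -- multiplications
  have hu : ∀ u : (↥K)ˣ, ∃ g ∈ Cfsg.Geo.subalgebraNormalizer K, Φ g = mulE u := by
    intro u
    let g : GL (Fin 5) F := Units.map (K.val : ↥K →* Matrix (Fin 5) (Fin 5) F) u
    refine ⟨g, fun k => ?_, LinearEquiv.ext fun x => φ.injective ?_⟩
    · have h1 : (g : Matrix (Fin 5) (Fin 5) F) ∈ K := (u : ↥K).2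
      have h2 : ((g⁻¹ : GL (Fin 5) F) : Matrix (Fin 5) (Fin 5) F) ∈ K := ((u⁻¹ : (↥K)ˣ) : ↥K).2
      constructor
      · exact fun hk => K.mul_mem (K.mul_mem h1 hk) h2
      · intro hk
        have h3 := K.mul_mem (K.mul_mem h2 hk) h1
        rwa [← mul_assoc, ← mul_assoc, Units.inv_mul, one_mul, mul_assoc, Units.inv_mul, mul_one] at h3
    · rw [hΦ, mulE_apply, hφ, hφ, Matrix.mulVec_mulVec]
      rfl
  -- automorphisms
  have hτ : ∀ τ : ↥K ≃ₐ[F] ↥K, ∃ g ∈ Cfsg.Geo.subalgebraNormalizer K, Φ g = autE τ := by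
    intro τ
    set g := Φ.symm (autE τ) with hg
    have hgx : ∀ x, (g : Matrix (Fin 5) (Fin 5) F).mulVec (φ x) = φ (τ x) := fun x => by
      rw [← hΦ, hg, MulEquiv.apply_symm_apply, autE_apply]
    have hval : ∀ k : ↥K, (g : Matrix (Fin 5) (Fin 5) F) * (k : Matrix (Fin 5) (Fin 5) F) *
        ((g⁻¹ : GL (Fin 5) F) : Matrix (Fin 5) (Fin 5) F) = (τ k : Matrix (Fin 5) (Fin 5) F) := fun k => by
      refine (g.isUnit.mul_left_inj).mp ?_
      refine Matrix.toLin'.injective (LinearMap.ext fun v => ?_)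
      obtain ⟨x, rfl⟩ := φ.surjective v
      rw [Matrix.toLin'_apply, Matrix.toLin'_apply, mul_assoc, Units.inv_mul, mul_one, ← Matrix.mulVec_mulVec,
        ← Matrix.mulVec_mulVec, hgx, hφ, hφ, Matrix.mulVec_mulVec, Matrix.mulVec_mulVec]
      have h := hgx (k * x)
      rw [hφ, map_mul, hφ, Matrix.mulVec_mulVec] at h
      simp only [Matrix.mulVec_mulVec, mul_assoc, Subalgebra.coe_mul] at h ⊢
      exact h
    refine ⟨g, fun m => ⟨fun hm => ?_, fun hm => ?_⟩, Φ.apply_symm_apply _⟩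
    · rw [hval ⟨m, hm⟩]; exact (τ _).2
    · obtain ⟨k, hk⟩ := τ.surjective ⟨_, hm⟩
      have h := hval k
      rw [hk] at h
      have hk' : (k : Matrix (Fin 5) (Fin 5) F) = m := g.isUnit.mul_left_cancel ((g⁻¹).isUnit.mul_right_cancel h)
      exact hk' ▸ k.2
  let M : Subgroup (↥K ≃ₗ[F] ↥K) := G.map Φ.toMonoidHom
  have hmem : ∀ g, g ∈ Cfsg.Geo.subalgebraNormalizer K → (g : Matrix (Fin 5) (Fin 5) F).det = 1 → Φ g ∈ M :=
    fun g hg hd => ⟨g, hG ⟨hg, MonoidHom.mem_ker.mpr (Units.ext ((Matrix.GeneralLinearGroup.val_det_apply g).trans (hd.trans Units.val_one.symm)))⟩, rfl⟩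
  have O : Over M :=
    { finrank := hn
      det := by
        rintro _ ⟨g, hg, rfl⟩
        show LinearMap.det ((Φ g : ↥K ≃ₗ[F] ↥K) : ↥K →ₗ[F] ↥K) = 1
        rw [hdet]
        simpa using congrArg Units.val (MonoidHom.mem_ker.mp (hGS hg))
      mul := fun u hu1 => by
        obtain ⟨g, hg, e⟩ := hu u
        rw [← e]
        refine hmem g hg ?_
        rw [← hdet, e, det_mulE, hu1]
      aut := fun τ => by
        obtain ⟨g, hg, e⟩ := hτ τ
        rw [← e]
        refine hmem g hg ?_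
        rw [← hdet, e, det_autE hn] }
  rcases O.semi_or_all with hsemi | hall
  · refine absurd (fun g hg => ?_) hGN
    obtain ⟨c, τ, hc⟩ := hsemi (Φ g) ⟨g, hg, rfl⟩
    obtain ⟨a, ha, ea⟩ := hu c
    obtain ⟨b, hb, eb⟩ := hτ τ
    rw [← ea, ← eb, ← map_mul] at hc
    rw [Φ.injective hc]
    exact mul_mem ha hb
  · intro A hA
    have hAd : (A : Matrix (Fin 5) (Fin 5) F).det = 1 := by
      simpa using congrArg Units.val (MonoidHom.mem_ker.mp hA)
    let T : Subgroup (Matrix.SpecialLinearGroup (Fin 5) F) :=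
      G.comap (Matrix.SpecialLinearGroup.toGL : Matrix.SpecialLinearGroup (Fin 5) F →* GL (Fin 5) F)
    have hT : T = ⊤ := by
      rw [eq_top_iff, ← CfsgLib.StSL.closure_transvection_eq_top (K := F) (n := 5) (by norm_num), Subgroup.closure_le]
      rintro _ ⟨i, j, hij, c, rfl⟩
      obtain ⟨_, ⟨g', hg', rfl⟩, hg'x⟩ := hall (φ.symm (Pi.single i 1)) ((c • LinearMap.proj j) ∘ₗ φ.toLinearMap)
        (by simp [hij])
      show Matrix.SpecialLinearGroup.toGL _ ∈ G
      suffices hh : Matrix.SpecialLinearGroup.toGL (Matrix.SpecialLinearGroup.transvection hij c) = g' from hh ▸ hg'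
      refine Φ.injective (LinearEquiv.ext fun x => ?_)
      refine Eq.trans ?_ (hg'x x).symm
      refine φ.injective ?_
      rw [hΦ, map_add, LinearMap.smulRight_apply, map_smul, φ.apply_symm_apply]
      show (Matrix.transvection i j c).mulVec (φ x) = _
      rw [Matrix.transvection, Matrix.add_mulVec, Matrix.one_mulVec, Matrix.single_mulVec]
      congr 1
      funext l
      simp [Pi.single_apply, Function.update_apply]
    let As : Matrix.SpecialLinearGroup (Fin 5) F := ⟨_, hAd⟩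
    have : As ∈ T := hT ▸ Subgroup.mem_top As
    have hAA : Matrix.SpecialLinearGroup.toGL As = A := Units.ext rfl
    exact hAA ▸ Subgroup.mem_comap.1 this

end CfsgLib.SingerFive
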